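import Cfsg.Agent.H458.SpAut
import Cfsg.Agent.CpAut.SpThree
import Cfsg.Agent.S0277
import Cfsg.Agent.S0270

/-!
# S4329: the row of the symplectic groups
-/

set_option autoImplicit false
set_option linter.unusedSectionVars false

namespace Cfsg.Agent.H458.RowPSp

open Cfsg Module Matrix Subgroup Cfsg.Agent.H568 Cfsg.Agent.H689 Cfsg.Agent.H458.Zs Cfsg.Agent.H458.SpOp
open Cfsg.Agent.H458.SpAut
open Cfsg.Agent.ClassicalGeometry.SympBasic Cfsg.Agent.ClassicalGeometry.SympAutSemi
open Cfsg.Agent.ClassicalGeometry.SympGamma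

variable {m : ℕ} {F : Type} [Field F] [Fintype F]

theorem exists_elt {l : ℕ} (hl : l.Prime) {j : ℕ} (hj : 1 ≤ j) (hjm : j ≤ m) (h : l ∣ Fintype.card F ^ (2 * j) - 1) :
    ∃ y : Matrix.symplecticGroup (Fin m) F, orderOf y = l := by
  have : Fact l.Prime := ⟨hl⟩
  apply exists_prime_orderOf_dvd_card'
  rw [LieClassical.SympCount.card_symplecticGroup]
  apply Dvd.dvd.mul_left
  refine h.trans ?_
  have h1 := Finset.dvd_prod_of_mem (fun i => Fintype.card F ^ (2 * (i + 1)) - 1)
    (Finset.mem_range.2 (show j - 1 < m by omega))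
  rwa [Nat.sub_add_cancel hj] at h1

theorem not_comm (hm : 2 ≤ m) (h22 : m = 2 → 3 ≤ Fintype.card F) : ¬ IsMulCommutative (PSp m F) := by
  intro h
  have hs : IsSimpleGroup (PSp m F) := S0270.result m hm h22
  let _ : CommGroup (PSp m F) := { (inferInstance : Group (PSp m F)) with mul_comm := fun a b => h.is_comm.comm a b }
  obtain ⟨x, hx⟩ := exists_ne (1 : PSp m F)
  obtain ⟨g, rfl⟩ := surj_pr (m := m) (F := F) x
  apply hx
  refine LieClassical.SympPerfect.map_eq_one (A := PSp m F) ?_ (pr m F) g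
  by_cases h2 : m = 2
  · exact Or.inr (Or.inl ⟨h2, h22 h2⟩)
  · left; omega

theorem exists_cyclic_of {p : ℕ} [hp : Fact p.Prime] (R : Sylow p (Matrix.symplecticGroup (Fin m) F))
    (hR : IsCyclic ↥(R : Subgroup (Matrix.symplecticGroup (Fin m) F))) :
    ∃ P : Sylow p (PSp m F), IsCyclic ↥(P : Subgroup (PSp m F)) := by
  refine ⟨R.mapSurjective surj_pr, ?_⟩
  have h5 : ((R.mapSurjective surj_pr : Sylow p (PSp m F)) : Subgroup (PSp m F)) =
      (R : Subgroup (Matrix.symplecticGroup (Fin m) F)).map (pr m F) := rfl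
  rw [h5]
  exact isCyclic_of_surjective ((pr m F).subgroupMap (R : Subgroup (Matrix.symplecticGroup (Fin m) F)))
    ((pr m F).subgroupMap_surjective _)

/-- **Sylow subgroups for primitive primes are cyclic.** -/
theorem exists_cyclic_sylow (hm : 1 ≤ m) {p : ℕ} [hp : Fact p.Prime] (hppd : Ppd (Fintype.card F) (2 * m) p) :
    ∃ P : Sylow p (PSp m F), IsCyclic ↥(P : Subgroup (PSp m F)) := by
  obtain ⟨R⟩ := (inferInstance : Nonempty (Sylow p (Matrix.symplecticGroup (Fin m) F)))
  refine exists_cyclic_of R ?_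
  rcases subsingleton_or_nontrivial ↥(R : Subgroup (Matrix.symplecticGroup (Fin m) F)) with h | h
  · exact isCyclic_of_subsingleton
  · have h1 : Nontrivial (center ↥(R : Subgroup (Matrix.symplecticGroup (Fin m) F))) := R.isPGroup'.center_nontrivial
    have h2 : p ∣ Nat.card (center ↥(R : Subgroup (Matrix.symplecticGroup (Fin m) F))) := by
      obtain ⟨n, hn⟩ := IsPGroup.iff_card.1 (R.isPGroup'.to_subgroup
        (center ↥(R : Subgroup (Matrix.symplecticGroup (Fin m) F))))
      have h3 := Finite.one_lt_card_iff_nontrivial.2 h1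
      rw [hn] at h3 ⊢
      apply dvd_pow_self
      rintro rfl
      simp at h3
    obtain ⟨z, hz⟩ := exists_prime_orderOf_dvd_card' p h2
    have hz1 : orderOf (((z : ↥(R : Subgroup (Matrix.symplecticGroup (Fin m) F))) :
        Matrix.symplecticGroup (Fin m) F)) = p := by
      rw [Subgroup.orderOf_coe, Subgroup.orderOf_coe]
      exact hz
    refine (sit hz1 hppd (by omega) (by omega)).isCyclic finrank_V
      ((op m F).comp (R : Subgroup (Matrix.symplecticGroup (Fin m) F)).subtype) ?_ ?_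
    · exact SpOp.op_injective.comp Subtype.val_injective
    · intro g v
      rw [MonoidHom.comp_apply, ← Module.End.mul_apply, ← Module.End.mul_apply, ← map_mul, ← map_mul]
      have h3 := mem_center_iff.1 z.2 g
      have h4 := congrArg Subtype.val h3
      rw [Subgroup.subtype_apply]
      congr 2

theorem exists_cyclic_of_sq {p : ℕ} [hp : Fact p.Prime]
    (h : ¬ p ^ 2 ∣ Nat.card (Matrix.symplecticGroup (Fin m) F)) :
    ∃ P : Sylow p (PSp m F), IsCyclic ↥(P : Subgroup (PSp m F)) := by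
  obtain ⟨R⟩ := (inferInstance : Nonempty (Sylow p (Matrix.symplecticGroup (Fin m) F)))
  refine exists_cyclic_of R ?_
  obtain ⟨n, hn⟩ := IsPGroup.iff_card.1 R.isPGroup'
  have h1 : p ^ n ∣ Nat.card (Matrix.symplecticGroup (Fin m) F) := hn ▸ Subgroup.card_subgroup_dvd_card _
  have h2 : n < 2 := by
    by_contra hcon
    exact h ((pow_dvd_pow p (by omega)).trans h1)
  interval_cases n
  · rw [pow_zero] at hn
    have := (Nat.card_eq_one_iff_unique.1 hn).1
    exact isCyclic_of_subsingleton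
  · rw [pow_one] at hn
    exact isCyclic_of_prime_card hn

/-- the field case -/
theorem field_case {a : MulAut (PSp m F)} {p : ℕ} [hp : Fact p.Prime] (hp2 : p ≠ 2) (ha : orderOf a = p) (hm : 2 ≤ m)
    {g : semiSim m F} {φ : F ≃+* F} {c : F} (hc : c ≠ 0) (hs : IsSemi g.1 φ c)
    (hφ : φ ≠ RingEquiv.refl F) (hg : Psi m F g = a) :
    ∃ x : PSp m F, ¬ p ∣ orderOf x ∧ PCent p x ∧ ∀ b : MulAut (PSp m F), (b * a * b⁻¹) x ≠ x := by
  obtain ⟨r, hr⟩ := CharP.exists F
  obtain ⟨f, hrp, hF⟩ := FiniteField.card F r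
  have : Fact r.Prime := ⟨hrp⟩
  have hle := le_of_field hc hs hφ hF (by omega : 1 ≤ m) hp.1 (by rw [hg, ← ha, pow_orderOf_eq_one])
  have hf3 : 3 ≤ (f : ℕ) := by
    have := hp.1.two_le
    omega
  have h12 : 2 * m * 3 ≤ 2 * m * f := Nat.mul_le_mul_left _ hf3
  obtain ⟨l, hl⟩ := exists_ppd (q := r) (k := 2 * m * f) hrp.two_le (by omega) (by omega)
  have hl1 := hl.le (by omega)
  have hl2 : l ≠ 2 := by omega
  have h13 : 2 * m ≤ 2 * m * f := Nat.le_mul_of_pos_right _ f.pos
  have h14 : (f : ℕ) ≤ 2 * m * f := Nat.le_mul_of_pos_left _ (by omega)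
  have hlp : l ≠ p := by omega
  have hppd : Ppd (Fintype.card F) (2 * m) l := by
    rw [hF]
    exact ppd_field f.pos (by rw [mul_comm]; exact hl)
  obtain ⟨y, hy⟩ := exists_elt (F := F) hl.prime (by omega : 1 ≤ m) le_rfl ((hppd.iff _).2 dvd_rfl)
  refine ⟨pr m F y, ?_, ?_, ?_⟩
  · rw [orderOf_pr (by omega) hl.prime hl2 hy, Nat.prime_dvd_prime_iff_eq hp.1 hl.prime]
    exact hlp.symm
  · apply Quot.pcent (pr m F) surj_pr ker_pr.le
    by_cases hpF : (p : F) = 0
    · exact pcent_char hy hppd (by omega) hpF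
    · exact pcent hp2 hlp hy hppd hl2 (by omega) hpF
  · intro b hb
    have h2 : a (b⁻¹ (pr m F y)) = b⁻¹ (pr m F y) := by
      have h3 := congrArg (b⁻¹ : MulAut (PSp m F)) hb
      rw [MulAut.mul_apply, MulAut.mul_apply, MulAut.inv_apply_self] at h3
      exact h3
    rw [← hg] at h2
    refine field_not_fixed hs hφ hF (by omega) hl hl2 _ ?_ h2
    rw [MulEquiv.orderOf_eq, orderOf_pr (by omega) hl.prime hl2 hy]

/-- inner automorphisms: the criterion -/
theorem inner_case {a : MulAut (PSp m F)} {p : ℕ} [hp : Fact p.Prime] (hp2 : p ≠ 2) (hm : 1 ≤ m)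
    {s : Matrix.symplecticGroup (Fin m) F} (ha : a = MulAut.conj (pr m F s)) {l D : ℕ}
    (hppd : Ppd (Fintype.card F) D l) (hl2 : l ≠ 2) (hlp : l ≠ p) (hy : ∃ y : Matrix.symplecticGroup (Fin m) F, orderOf y = l)
    (hD : 2 * m < 2 * l) (hpc : (p : F) = 0 → D = 2 * m)
    (hc : ∀ y : Matrix.symplecticGroup (Fin m) F, orderOf y = l → s * y ≠ y * s) :
    ∃ x : PSp m F, ¬ p ∣ orderOf x ∧ PCent p x ∧ ∀ b : MulAut (PSp m F), (b * a * b⁻¹) x ≠ x := by
  obtain ⟨y, hy⟩ := hy
  refine ⟨pr m F y, ?_, ?_, ?_⟩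
  · rw [orderOf_pr hm hppd.prime hl2 hy, Nat.prime_dvd_prime_iff_eq hp.1 hppd.prime]
    exact hlp.symm
  · apply Quot.pcent (pr m F) surj_pr ker_pr.le
    by_cases hpF : (p : F) = 0
    · exact pcent_char hy (hpc hpF ▸ hppd) (by omega) hpF
    · exact pcent hp2 hlp hy hppd hl2 hD hpF
  · intro b hb
    have h2 : a (b⁻¹ (pr m F y)) = b⁻¹ (pr m F y) := by
      have h3 := congrArg (b⁻¹ : MulAut (PSp m F)) hb
      rw [MulAut.mul_apply, MulAut.mul_apply, MulAut.inv_apply_self] at h3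
      exact h3
    obtain ⟨z, hz, hzo⟩ := exists_lift hm hppd.prime hl2 (b⁻¹ (pr m F y))
      (by rw [MulEquiv.orderOf_eq, orderOf_pr hm hppd.prime hl2 hy])
    rw [← hz, ha] at h2
    exact hc z hzo (Quot.comm_of_conj (pr m F) ker_pr.le (coprime_ker hm hppd.prime hl2)
      (by rw [← hzo, pow_orderOf_eq_one]) h2)

/-- the first element works unless `p` divides `q ^ m + 1` and `s` has no fixed vectors -/
theorem no_comm_one {p : ℕ} (hp : p.Prime) (hm : 1 ≤ m) {s : Matrix.symplecticGroup (Fin m) F} (hs : orderOf s = p) {l : ℕ}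
    (hppd : Ppd (Fintype.card F) (2 * m) l)
    (h : ¬ p ∣ Fintype.card F ^ m + 1 ∨ ∃ v : Fin m ⊕ Fin m → F, v ≠ 0 ∧ op m F s v = v)
    (y : Matrix.symplecticGroup (Fin m) F) (hy : orderOf y = l) : s * y ≠ y * s := by
  intro hsy
  rcases h with h | ⟨v, hv0, hv⟩
  · have h1 := pow_eq_one hy hppd (by omega) hsy
    apply h
    rw [← hs]
    exact orderOf_dvd_of_pow_eq_one h1
  · have h1 := eq_one_of_fixed hy hppd (by omega) hsy hv0 hv
    rw [h1, orderOf_one] at hs
    exact hp.one_lt.ne hs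

theorem ne_of_cond {p : ℕ} (hp : p.Prime) (hm : 1 ≤ m) {s : Matrix.symplecticGroup (Fin m) F} (hs : orderOf s = p) {l : ℕ}
    (hppd : Ppd (Fintype.card F) (2 * m) l)
    (h : ¬ p ∣ Fintype.card F ^ m + 1 ∨ ∃ v : Fin m ⊕ Fin m → F, v ≠ 0 ∧ op m F s v = v) : l ≠ p := by
  rintro rfl
  exact no_comm_one hp hm hs hppd h s hs rfl

/-- elements of order three and seven of `Sp_6(2)` do not commute -/
theorem no_comm_six {F : Type} [Field F] [Fintype F] (hF : Fintype.card F = 2)
    {s y : Matrix.symplecticGroup (Fin 3) F} (hs : orderOf s = 3) (hy : orderOf y = 7) : s * y ≠ y * s := by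
  intro hsy
  have hch : CharP F 2 := by
    obtain ⟨r, hr⟩ := CharP.exists F
    obtain ⟨n, hrp, hn⟩ := FiniteField.card F r
    have h1 : r ∣ 2 := by rw [← hF, hn]; exact dvd_pow_self r n.ne_zero
    rwa [(Nat.prime_dvd_prime_iff_eq hrp Nat.prime_two).1 h1] at hr
  obtain ⟨j, k, N, hj, hk, hN, ⟨e⟩, F', _, _, θ, hF', hθ⟩ := CpAut.SpThree.exists_struct (by rw [hF]) hs
  have hc : y ∈ centralizer ({s} : Set (Matrix.symplecticGroup (Fin 3) F)) := by
    rw [mem_centralizer_iff]
    rintro _ rfl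
    exact hsy
  have h7 : Fact (Nat.Prime 7) := ⟨by norm_num⟩
  have hco : orderOf (⟨y, hc⟩ : ↥(centralizer ({s} : Set (Matrix.symplecticGroup (Fin 3) F)))) = 7 := by
    rw [← hy]; exact Subgroup.orderOf_mk y hc
  have h1 : θ ⟨y, hc⟩ = 1 := by
    by_contra hne
    have h2 : orderOf (θ ⟨y, hc⟩) = 7 := by
      apply orderOf_eq_prime _ hne
      rw [← map_pow, ← hco, pow_orderOf_eq_one, map_one]
    have h3 : 7 ∣ Nat.card (GU k F' (Fintype.card F)) := h2 ▸ orderOf_dvd_natCard _
    rw [S0277.result hF' k, hF] at h3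
    have hk3 : k ≤ 3 := by omega
    revert h3
    interval_cases k <;> simp [Finset.prod_range_succ]
  have h2 : (⟨y, hc⟩ : ↥(centralizer ({s} : Set (Matrix.symplecticGroup (Fin 3) F)))) ∈ N := hθ (MonoidHom.mem_ker.2 h1)
  have h3 : orderOf (e ⟨_, h2⟩) = 7 := by
    rw [MulEquiv.orderOf_eq, ← hco]
    exact Subgroup.orderOf_mk _ h2
  have h4 : 7 ∣ Nat.card (Matrix.symplecticGroup (Fin j) F) := h3 ▸ orderOf_dvd_natCard _
  rw [LieClassical.SympCount.card_symplecticGroup, hF] at h4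
  revert h4
  interval_cases j <;> simp [Finset.prod_range_succ]

theorem ppd_four {q p : ℕ} (hq : 0 < q) (hp : p.Prime) (hp2 : p ≠ 2) (h : p ∣ q ^ 2 + 1) : Ppd q 4 p := by
  have : Fact p.Prime := ⟨hp⟩
  have key : ∀ j, p ∣ q ^ j - 1 ↔ (q : ZMod p) ^ j = 1 := by
    intro j
    rw [← CharP.cast_eq_zero_iff (ZMod p) p, Nat.cast_sub (Nat.one_le_pow _ _ hq), Nat.cast_pow, Nat.cast_one,
      sub_eq_zero]
  have h1 : (q : ZMod p) ^ 2 + 1 = 0 := by
    rw [← CharP.cast_eq_zero_iff (ZMod p) p] at h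
    exact_mod_cast h
  have h2 : (2 : ZMod p) ≠ 0 := by
    intro h3
    have h4 : ((2 : ℕ) : ZMod p) = 0 := by exact_mod_cast h3
    rw [CharP.cast_eq_zero_iff (ZMod p) p, Nat.prime_dvd_prime_iff_eq hp Nat.prime_two] at h4
    exact hp2 h4
  refine ppd_of hp (by norm_num) ?_ hq ?_
  · rw [key]
    linear_combination ((q : ZMod p) ^ 2 - 1) * h1
  · intro j hj0 hj4
    rw [key]
    intro h3
    apply h2
    interval_cases j
    · linear_combination h1 - ((q : ZMod p) + 1) * h3
    · linear_combination h1 - h3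
    · linear_combination (1 - ((q : ZMod p) - 1) * (q : ZMod p)) * h1 + ((q : ZMod p) - 1) * h3

/-- **The row of `PSp_2m(q)`.** -/
theorem row_std (hm : 2 ≤ m) (h22 : m = 2 → 3 ≤ Fintype.card F) {p : ℕ} [hp : Fact p.Prime] (hp2 : p ≠ 2) :
    Row p (PSp m F) := by
  have hsimple : IsSimpleGroup (PSp m F) := S0270.result m hm h22
  have hna := not_comm hm h22
  refine row_of hna fun a ha => ?_
  have hpodd : Odd p := hp.1.odd_of_ne_two hp2
  rcases inner_or_field hm h22 hpodd (by rw [← ha, pow_orderOf_eq_one]) with ⟨s', hs'⟩ | ⟨g, φ, c, hc, hs, hφ, hg⟩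
  swap
  · exact Or.inr (Or.inr (field_case hp2 ha hm hc hs hφ hg))
  have hso : orderOf s' = p := by
    rw [← ha, hs']
    refine (orderOf_injective (MulAut.conj : PSp m F →* MulAut (PSp m F)) ?_ s').symm
    rw [← MonoidHom.ker_eq_bot_iff, ← center_eq_bot hna]
    ext x
    rw [MonoidHom.mem_ker, Subgroup.mem_center_iff]
    constructor
    · intro h y
      have h1 : MulAut.conj x y = y := by rw [h]; rfl
      rw [MulAut.conj_apply, mul_inv_eq_iff_eq_mul] at h1
      exact h1.symm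
    · intro h
      ext y
      rw [MulAut.conj_apply, ← h y, mul_inv_cancel_right]
      rfl
  obtain ⟨s, rfl, hs⟩ := exists_lift (by omega) hp.1 hp2 s' hso
  have hq2 : 2 ≤ Fintype.card F := Fintype.one_lt_card
  by_cases h6 : m = 3 ∧ Fintype.card F = 2
  · -- `Sp_6(2)`
    obtain ⟨rfl, hF⟩ := h6
    have hcard : Nat.card (Matrix.symplecticGroup (Fin 3) F) = 2 ^ 9 * 3 ^ 4 * 5 * 7 := by
      rw [LieClassical.SympCount.card_symplecticGroup, hF]
      simp [Finset.prod_range_succ]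
    have hpd : p ∣ 2 ^ 9 * 3 ^ 4 * 5 * 7 := by rw [← hcard, ← hs]; exact orderOf_dvd_natCard s
    have hpc : p = 3 ∨ p = 5 ∨ p = 7 := by
      rcases hp.1.dvd_mul.1 hpd with h1 | h1
      · rcases hp.1.dvd_mul.1 h1 with h1 | h1
        · rcases hp.1.dvd_mul.1 h1 with h1 | h1
          · exact absurd ((Nat.prime_dvd_prime_iff_eq hp.1 Nat.prime_two).1 (hp.1.dvd_of_dvd_pow h1)) hp2
          · exact Or.inl ((Nat.prime_dvd_prime_iff_eq hp.1 Nat.prime_three).1 (hp.1.dvd_of_dvd_pow h1))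
        · exact Or.inr (Or.inl ((Nat.prime_dvd_prime_iff_eq hp.1 Nat.prime_five).1 h1))
      · exact Or.inr (Or.inr ((Nat.prime_dvd_prime_iff_eq hp.1 (by norm_num)).1 h1))
    rcases hpc with rfl | rfl | rfl
    · right; right
      have hppd : Ppd (Fintype.card F) 3 7 := by
        rw [hF]
        refine ppd_of (by norm_num) (by norm_num) (by norm_num) (by norm_num) ?_
        intro j hj0 hj3
        interval_cases j <;> norm_num
      refine inner_case hp2 (by norm_num) hs' hppd (by norm_num) (by norm_num) ?_ (by norm_num) ?_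
        (fun y hy => no_comm_six hF hs hy)
      · have : Fact (Nat.Prime 7) := ⟨by norm_num⟩
        apply exists_prime_orderOf_dvd_card'
        rw [hcard]
        exact Dvd.intro_left _ rfl
      · intro h0
        exfalso
        obtain ⟨r, hr⟩ := CharP.exists F
        obtain ⟨n, hrp, hn⟩ := FiniteField.card F r
        have h1 : r ∣ 3 := (CharP.cast_eq_zero_iff F r 3).1 h0
        have h2 : r ∣ 2 := by rw [← hF, hn]; exact dvd_pow_self r n.ne_zero
        rw [Nat.prime_dvd_prime_iff_eq hrp Nat.prime_two] at h2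
        rw [Nat.prime_dvd_prime_iff_eq hrp Nat.prime_three] at h1
        omega
    · left
      exact ⟨⟨_, hs'⟩, exists_cyclic_of_sq (by rw [hcard]; norm_num)⟩
    · left
      exact ⟨⟨_, hs'⟩, exists_cyclic_of_sq (by rw [hcard]; norm_num)⟩
  obtain ⟨l₁, hl₁⟩ := exists_ppd (k := 2 * m) hq2 (by omega) (by rintro ⟨h1, h2⟩; exact h6 ⟨by omega, h1⟩)
  have hl₁le := hl₁.le (by omega)
  by_cases hcond : ¬ p ∣ Fintype.card F ^ m + 1 ∨ ∃ v : Fin m ⊕ Fin m → F, v ≠ 0 ∧ op m F s v = v
  · right; right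
    exact inner_case hp2 (by omega) hs' hl₁ (by omega) (ne_of_cond hp.1 (by omega) hs hl₁ hcond)
      (exists_elt hl₁.prime (by omega) le_rfl ((hl₁.iff _).2 dvd_rfl)) (by omega) (fun _ => rfl)
      (no_comm_one hp.1 (by omega) hs hl₁ hcond)
  push Not at hcond
  obtain ⟨hpd, hfix⟩ := hcond
  by_cases hA : m = 2 ∨ (m = 4 ∧ Fintype.card F = 2)
  · left
    refine ⟨⟨_, hs'⟩, exists_cyclic_sylow (by omega) ?_⟩
    rcases hA with rfl | ⟨rfl, hF⟩
    · exact ppd_four (by omega) hp.1 hp2 hpd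
    · rw [hF] at hpd ⊢
      have h17 : p = 17 := (Nat.prime_dvd_prime_iff_eq hp.1 (by norm_num)).1 (by simpa using hpd)
      subst h17
      refine ppd_of (by norm_num) (by norm_num) (by norm_num) (by norm_num) ?_
      intro j hj0 hj3
      interval_cases j <;> norm_num
  · right; right
    push Not at hA
    obtain ⟨l₂, hl₂⟩ := exists_ppd (k := 2 * (m - 1)) hq2 (by omega)
      (by rintro ⟨h1, h2⟩; exact hA.2 (by omega) h1)
    have hl₂le := hl₂.le (by omega)
    have hnd : ¬ p ∣ Fintype.card F ^ (m - 1) + 1 := by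
      intro h1
      have h2 : p ∣ (Fintype.card F ^ m + 1) - (Fintype.card F ^ (m - 1) + 1) := Nat.dvd_sub hpd h1
      have h3 : (Fintype.card F ^ m + 1) - (Fintype.card F ^ (m - 1) + 1) =
          Fintype.card F ^ (m - 1) * (Fintype.card F - 1) := by
        have h4 : Fintype.card F ^ m = Fintype.card F ^ (m - 1) * Fintype.card F := by
          rw [← pow_succ]; congr 1; omega
        rw [h4, Nat.mul_sub, mul_one]
        omega
      rw [h3] at h2
      rcases hp.1.dvd_mul.1 h2 with h4 | h4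
      · have h5 := (Nat.dvd_add_right h4).1 h1
        exact hp.1.one_lt.ne' (Nat.dvd_one.1 h5)
      · have h5 : p ∣ Fintype.card F ^ m - 1 := h4.trans (by
          have := Nat.sub_dvd_pow_sub_pow (Fintype.card F) 1 m
          rwa [one_pow] at this)
        have h6 : p ∣ (Fintype.card F ^ m + 1) - (Fintype.card F ^ m - 1) := Nat.dvd_sub hpd h5
        have h7 : (Fintype.card F ^ m + 1) - (Fintype.card F ^ m - 1) = 2 := by
          have := Nat.one_le_pow m (Fintype.card F) (by omega)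
          omega
        rw [h7] at h6
        exact hp2 ((Nat.prime_dvd_prime_iff_eq hp.1 Nat.prime_two).1 h6)
    have hlp : l₂ ≠ p := by
      rintro rfl
      have h1 : l₂ ∣ Fintype.card F ^ (2 * m) - 1 := by
        have h2 : Fintype.card F ^ (2 * m) - 1 = (Fintype.card F ^ m + 1) * (Fintype.card F ^ m - 1) := by
          rw [mul_comm 2 m, pow_mul]
          have := Nat.sq_sub_sq (Fintype.card F ^ m) 1
          rw [one_pow] at this
          exact this
        rw [h2]
        exact Dvd.dvd.mul_right hpd _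
      rw [hl₂.iff] at h1
      have h2 := Nat.dvd_of_mul_dvd_mul_left (by norm_num) h1
      have h3 := (Nat.dvd_sub h2 (dvd_refl (m - 1)))
      have h4 : m - (m - 1) = 1 := by omega
      rw [h4, Nat.dvd_one] at h3
      omega
    refine inner_case hp2 (by omega) hs' hl₂ (by omega) hlp
      (exists_elt hl₂.prime (by omega) (by omega) ((hl₂.iff _).2 dvd_rfl)) (by omega) ?_ ?_
    · intro h0
      exfalso
      -- `p` divides `q`
      obtain ⟨r, hr⟩ := CharP.exists F
      obtain ⟨n, hrp, hn⟩ := FiniteField.card F r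
      have h1 : r ∣ p := (CharP.cast_eq_zero_iff F r p).1 h0
      rw [Nat.prime_dvd_prime_iff_eq hrp hp.1] at h1
      have h2 : p ∣ Fintype.card F ^ m := by
        rw [hn, h1, ← pow_mul]
        exact dvd_pow_self p (Nat.mul_ne_zero n.ne_zero (by omega))
      have h3 := (Nat.dvd_add_right h2).1 hpd
      exact hp.1.one_lt.ne' (Nat.dvd_one.1 h3)
    · intro y hy hsy
      obtain ⟨v, hv0, hv⟩ := exists_fixed_of_comm hy hl₂ (by omega) hsy hp.1 (by rw [← hs, pow_orderOf_eq_one]) hnd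
      exact hfix v hv0 hv

/-- **The row of the symplectic groups.** -/
theorem row_psp (K : Type*) [Group K] (h : Cfsg.IsPSp K) (p : ℕ) [hp : Fact p.Prime] (hp2 : p ≠ 2) : Row p K := by
  obtain ⟨F, _, _, m, hm, h22, ⟨e⟩⟩ := h
  exact (row_std hm h22 hp2).congr e.symm

end Cfsg.Agent.H458.RowPSp
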