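import Cfsg.Agent.H458.TPsuNum
import Cfsg.Agent.H360.Iso.Uni
import Cfsg.Agent.H436.Names

/-!
# Block T (S3537), the row `PSU_n(u)` (helper458, task 1364)
-/

set_option autoImplicit false

namespace Cfsg.Agent.H458.TPsu

open Cfsg Cfsg.Agent.H202.T Cfsg.Agent.H360.Iso Cfsg.Agent.H458.TPsuNum
open Cfsg.Agent.H948.UBase

/-- `mm q` is an isolated number -/
theorem isoN_of_T4 {p q : ℕ} {S : Type*} [Group S] (h : T4 p q S) : IsoN S (mm q) where
  elt := h.mem
  iso := fun _ _ hr hrn hrx => h.iso hr hrn hrx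
  not_two_dvd := fun h2 => ne_two_of_dvd h.odd h2 rfl
  not_three_dvd := fun h3 => by
    have := mod_eight h.odd Nat.prime_three h3
    omega
  big := by
    have := forty_one_le h.three_le
    omega

/-- the shape of `q` -/
theorem shape {p q : ℕ} {S : Type*} [Group S] (h : T4 p q S) : p = q ∨ (p = 3 ∧ q = 9) ∨ 5 * p ≤ q := by
  obtain ⟨f, hf, rfl⟩ := h.pow
  have hp := h.three_le_p
  rcases Nat.lt_or_ge 1 f with h1 | h1
  · right
    rcases Nat.lt_or_ge 4 p with h2 | h2
    · right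
      calc 5 * p ≤ p * p := Nat.mul_le_mul_right _ h2
        _ = p ^ 2 := by ring
        _ ≤ p ^ f := Nat.pow_le_pow_right (by omega) h1
    · have hp3 : p = 3 := by
        have h4 : p ≠ 4 := fun h4 => by
          have := h.prime
          rw [h4] at this
          norm_num at this
        omega
      subst hp3
      rcases Nat.lt_or_ge 2 f with h3 | h3
      · right
        calc 5 * 3 ≤ 3 ^ 3 := by norm_num
          _ ≤ 3 ^ f := Nat.pow_le_pow_right (by omega) h3
      · left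
        obtain rfl : f = 2 := by omega
        exact ⟨rfl, rfl⟩
  · left
    obtain rfl : f = 1 := by omega
    rw [pow_one]

theorem three_case_one : ∀ u ∈ Finset.Icc (2 : ℕ) 11, ∀ n ∈ Finset.Icc 3 12,
    (41 * (Nat.gcd n (u + 1)) * (u + 1) : ℤ) = (u : ℤ) ^ n - (-1) ^ n → u = 4 ∧ n = 5 := by
  decide +kernel

theorem three_case_two : ∀ u ∈ Finset.Icc (2 : ℕ) 11, ∀ n ∈ Finset.Icc 3 12,
    (41 * (u + 1) : ℤ) ≠ (u : ℤ) ^ n - (-1) ^ n := by
  decide +kernel

/-- bound -/
theorem bound_one {u n g m : ℤ} {k : ℕ} (hu : 2 ≤ u) (hk : 3 ≤ k) (hgu : g ≤ u + 1) (hgk : g ≤ k)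
    (hn : n = u ^ k - (-1) ^ k) (hm : 0 ≤ m) (h : m * g * (u + 1) = n) : u ^ 2 - u + 1 ≤ 3 * m := by
  have h0 : (0 : ℤ) < u + 1 := by omega
  rcases eq_or_lt_of_le hk with h3 | h3
  · subst h3
    have e1 : n = (u + 1) * (u ^ 2 - u + 1) := by rw [hn]; ring
    rw [e1, mul_comm (u + 1)] at h
    have h4 := mul_right_cancel₀ h0.ne' h
    rw [← h4, mul_comm 3 m]
    exact mul_le_mul_of_nonneg_left (by exact_mod_cast hgk) hm
  · rcases eq_or_lt_of_le (Nat.succ_le_of_lt h3) with h4 | h4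
    · have hk4 : k = 4 := h4.symm
      subst hk4
      have e1 : n = ((u - 1) * (u ^ 2 + 1)) * (u + 1) := by rw [hn]; ring
      rw [e1] at h
      have h5 := mul_right_cancel₀ h0.ne' h
      have h6 : (u - 1) * (u ^ 2 + 1) ≤ m * 4 := by
        rw [← h5]
        exact mul_le_mul_of_nonneg_left (by exact_mod_cast hgk) hm
      rcases eq_or_lt_of_le hu with h7 | h7
      · rw [← h7] at h6 ⊢
        omega
      · have h8 := mul_le_mul_of_nonneg_right (show 2 ≤ u - 1 by omega) (show 0 ≤ u ^ 2 + 1 by positivity)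
        nlinarith
    · have h5 : u ^ 5 ≤ u ^ k := pow_le_pow_right₀ (by omega) h4
      have h6 : (-1 : ℤ) ^ k ≤ 1 := by
        rcases Nat.even_or_odd k with h | h
        · rw [h.neg_one_pow]
        · rw [h.neg_one_pow]; norm_num
      have h7 : u ^ 5 - 1 ≤ m * (u + 1) * (u + 1) := by
        calc u ^ 5 - 1 ≤ n := by rw [hn]; omega
          _ = m * g * (u + 1) := h.symm
          _ ≤ m * (u + 1) * (u + 1) := mul_le_mul_of_nonneg_right (mul_le_mul_of_nonneg_left hgu hm) h0.le
      by_contra h8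
      push Not at h8
      have h9 : 3 * m * ((u + 1) * (u + 1)) ≤ (u ^ 2 - u) * ((u + 1) * (u + 1)) :=
        mul_le_mul_of_nonneg_right (by omega) (by positivity)
      have h10 : (u ^ 2 - u) * ((u + 1) * (u + 1)) = u ^ 4 + u ^ 3 - u ^ 2 - u := by ring
      have h11 : u * u ^ 4 = u ^ 5 := by ring
      have h12 : 2 * u ^ 4 ≤ u ^ 5 := by
        rw [← h11]
        exact mul_le_mul_of_nonneg_right hu (by positivity)
      have h13 : 2 * u ^ 3 ≤ u ^ 4 := by
        rw [show u ^ 4 = u * u ^ 3 by ring]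
        exact mul_le_mul_of_nonneg_right hu (by positivity)
      have h14 : (8 : ℤ) ≤ u ^ 3 := by
        calc (8 : ℤ) = 2 ^ 3 := by norm_num
          _ ≤ u ^ 3 := pow_le_pow_left₀ (by norm_num) hu 3
      nlinarith

/-- **The row `PSU_n(u)`.** -/
theorem psu {p q n u : ℕ} {S : Type*} [Group S] [Finite S] (h : H202.T.T4 p q S)
    (hg : H436.IsNamed (.psu n u) S) : False := by
  obtain ⟨F, _, _, hF, ⟨e⟩⟩ := hg.real
  obtain ⟨hn, h32, -⟩ := hg.cond
  have hu : 2 ≤ u := LieClassical.HermBasic.two_le hF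
  have hT := h.congr e
  have hodd := h.odd
  have hq3 := h.three_le
  have h2m := two_mm hodd
  have hm41 := forty_one_le hq3
  have hN0 : ∀ x : PSU n F u, 0 < orderOf x := fun x => orderOf_pos x
  rcases psu_row hF hn h32 (isoN_of_T4 hT) with ⟨h1, x, hx⟩ | ⟨hn4, hd, h1, x, hx⟩ | ⟨-, -, h1⟩ | ⟨-, -, h1⟩
  · -- the torus of order `(u ^ n - (-1) ^ n) / ((u + 1) g)`
    set g := Nat.gcd n (u + 1) with hgd
    have hg0 : 0 < g := Nat.gcd_pos_of_pos_right _ (by omega)
    obtain ⟨s, hs⟩ : g ∣ u + 1 := Nat.gcd_dvd_right _ _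
    have hs0 : 0 < s := by
      rcases Nat.eq_zero_or_pos s with h3 | h3
      · rw [h3] at hs; omega
      · exact h3
    have hgu : g ≤ u + 1 := Nat.le_of_dvd (by omega) (Nat.gcd_dvd_right _ _)
    have hgn : g ≤ n := Nat.le_of_dvd (by omega) (Nat.gcd_dvd_left _ _)
    have hsu : s ≤ u + 1 := Nat.le_of_dvd (by omega) ⟨g, by rw [hs, mul_comm]⟩
    obtain ⟨N, hN⟩ : ∃ N, N = orderOf x := ⟨_, rfl⟩
    have hNL : InL p q N := hN ▸ hT.om x
    have hNp : 0 < N := hN ▸ hN0 x
    rw [← hN] at hx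
    have c1 : ((mm q : ℕ) : ℤ) * g * (u + 1) = (u : ℤ) ^ n - (-1) ^ n := by
      have := ph_cast (q := u) (by omega) (n - 1)
      rw [Nat.sub_add_cancel (by omega), ← h1] at this
      push_cast at this
      exact this
    have c2 : (N : ℤ) * g = (u : ℤ) ^ (n - 1) + (-1) ^ n := by
      have := ph_cast (q := u) (by omega) (n - 2)
      rw [show n - 2 + 1 = n - 1 by omega, ← hx] at this
      push_cast at this
      rw [this, sub_eq_add_neg]
      congr 1
      obtain ⟨c, rfl⟩ : ∃ c, n = c + 1 := ⟨n - 1, by omega⟩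
      rw [Nat.add_sub_cancel, pow_succ]
      ring
    have c3 : ((u : ℤ)) ^ n = u * (u : ℤ) ^ (n - 1) := by
      rw [← pow_succ', Nat.sub_add_cancel (by omega)]
    have c4 : ((u : ℤ) + 1) = g * s := by exact_mod_cast hs
    have c5 : (2 : ℤ) * (mm q : ℕ) = (q : ℤ) ^ 4 + 1 := by exact_mod_cast h2m
    have hgz : (g : ℤ) ≠ 0 := by exact_mod_cast hg0.ne'
    obtain ⟨ε, hε⟩ : ∃ ε : ℤ, ε = (-1) ^ n := ⟨_, rfl⟩
    have hε1 : ε = 1 ∨ ε = -1 := by
      rw [hε]
      exact neg_one_pow_eq_or ℤ n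
    rw [← hε] at c1 c2
    have c6 : (u : ℤ) * N = (mm q : ℕ) * (u + 1) + ε * s := by
      apply mul_left_cancel₀ hgz
      linear_combination (u : ℤ) * c2 - c1 - c3 + ε * c4
    have hb := bound_one (u := u) (g := g) (m := (mm q : ℕ)) (k := n) (by exact_mod_cast hu) hn
      (by exact_mod_cast hgu) (by exact_mod_cast hgn) rfl (by positivity)
      (by rw [← hε]; exact c1)
    rcases Nat.lt_or_ge q 4 with h5 | h5
    · -- `q = 3`
      obtain rfl : q = 3 := by omega
      have hp3 : p = 3 := (Nat.prime_dvd_prime_iff_eq h.prime Nat.prime_three).1 h.dvd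
      subst hp3
      have hm : mm 3 = 41 := rfl
      rw [hm] at c1 c6 hb
      have hu11 : u ≤ 11 := by
        by_contra h6
        have h7 : (12 : ℤ) ≤ u := by exact_mod_cast (show 12 ≤ u by omega)
        push_cast at hb
        nlinarith
      have hn12 : n ≤ 12 := by
        by_contra h6
        have h7 : (2 : ℤ) ^ 13 ≤ (u : ℤ) ^ n := by
          calc (2 : ℤ) ^ 13 ≤ 2 ^ n := pow_le_pow_right₀ (by norm_num) (by omega)
            _ ≤ (u : ℤ) ^ n := pow_le_pow_left₀ (by norm_num) (by exact_mod_cast hu) n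
        have h8 : (g : ℤ) * (u + 1) ≤ 12 * 12 := by
          have : g * (u + 1) ≤ 12 * 12 := Nat.mul_le_mul (by omega) (by omega)
          exact_mod_cast this
        push_cast at c1
        rcases hε1 with h9 | h9 <;> rw [h9] at c1 <;> nlinarith
      obtain ⟨rfl, rfl⟩ := three_case_one u (Finset.mem_Icc.2 ⟨hu, hu11⟩) n (Finset.mem_Icc.2 ⟨hn, hn12⟩) (by
        rw [← hε, ← hgd]
        exact_mod_cast c1)
      have hg5 : g = 5 := rfl
      have hN51 : N = 51 := by
        have e1 : ε = -1 := by rw [hε]; norm_num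
        rw [hg5, e1] at c2
        push_cast at c2
        omega
      rw [hN51] at hNL
      revert hNL
      unfold InL mm
      decide
    · have hq5 : (5 : ℤ) ≤ q := by
        have : 5 ≤ q := by
          rcases hodd with ⟨c, hc⟩
          omega
        exact_mod_cast this
      obtain ⟨k, hk⟩ := lst_of_inL hodd hNL
      have hp3 : (3 : ℤ) ≤ p := by exact_mod_cast h.three_le_p
      have hNz : (0 : ℤ) < N := by exact_mod_cast hNp
      have hsh := shape h
      have hshz : (p : ℤ) = q ∨ 3 * (p : ℤ) ≤ q := by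
        have : p = q ∨ 3 * p ≤ q := by omega
        exact_mod_cast this
      have hs1 : (s : ℤ) ≤ u + 1 := by exact_mod_cast hsu
      have hs2 : (1 : ℤ) ≤ s := by exact_mod_cast hs0
      obtain ⟨h6, h7, h8⟩ := elim_one (u := (u : ℤ)) (N := (N : ℤ)) (e := 2 * (ε * s)) hq5 hp3 hshz hNz (by exact_mod_cast hu)
        (by rcases hε1 with h9 | h9 <;> rw [h9] <;> omega) (by rcases hε1 with h9 | h9 <;> rw [h9] <;> omega)
        (by rw [← c5]; linear_combination 2 * c6) (by rw [← c5]; linarith) (k_pos hNz (hk.pos hq5 hp3)) hk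
      -- the final case `u = q - 1`
      have e1 : ε = -1 := by
        rcases hε1 with h9 | h9
        · rw [h9] at h8
          omega
        · exact h9
      have e2 : (s : ℤ) = u + 1 := by
        rw [e1] at h8
        omega
      have e3 : (g : ℤ) = 1 := by
        have h9 : (u : ℤ) + 1 ≠ 0 := by positivity
        apply mul_right_cancel₀ h9
        rw [← e2, ← c4, one_mul]
        exact e2.symm
      rw [e3, e1, mul_one] at c1
      have e4 : (q : ℤ) = u + 1 := by omega
      rw [e4] at c5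
      have e5 : (u : ℤ) ≠ 0 := by positivity
      have e6 : 2 * (u : ℤ) ^ (n - 1) = (u : ℤ) ^ 4 + 5 * u ^ 3 + 10 * u ^ 2 + 10 * u + 6 := by
        apply mul_left_cancel₀ e5
        linear_combination -2 * c3 + (-2) * c1 + ((u : ℤ) + 1) * c5
      obtain ⟨v, hv⟩ : ∃ v : ℕ, u = 2 * v := by
        obtain ⟨c, hc⟩ := hodd
        refine ⟨c, ?_⟩
        have : q = u + 1 := by exact_mod_cast e4
        omega
      obtain ⟨w, hw⟩ : ∃ w : ℤ, (u : ℤ) ^ (n - 1) = 2 * w := by
        have : (2 : ℤ) ∣ (u : ℤ) ^ (n - 1) := by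
          apply dvd_pow _ (by omega)
          rw [hv]
          push_cast
          exact dvd_mul_right _ _
        exact this
      rw [hw, hv] at e6
      push_cast at e6
      have e7 : 4 * w = 4 * (4 * (v : ℤ) ^ 4 + 10 * v ^ 3 + 10 * v ^ 2 + 5 * v + 1) + 2 := by
        linear_combination e6
      omega
  · -- the torus of order `(u ^ (n - 1) - (-1) ^ (n - 1)) / (u + 1)`
    obtain ⟨N, hN⟩ : ∃ N, N = orderOf x := ⟨_, rfl⟩
    have hNL : InL p q N := hN ▸ hT.om x
    have hNp : 0 < N := hN ▸ hN0 x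
    rw [← hN] at hx
    have c1 : ((mm q : ℕ) : ℤ) * (u + 1) = (u : ℤ) ^ (n - 1) - (-1) ^ (n - 1) := by
      have := ph_cast (q := u) (by omega) (n - 2)
      rw [show n - 2 + 1 = n - 1 by omega, ← h1] at this
      push_cast at this
      exact this
    have c2 : (N : ℤ) * (u + 1) ^ 2 = (u : ℤ) ^ n - (-1) ^ n := by
      have := ph_cast (q := u) (by omega) (n - 1)
      rw [Nat.sub_add_cancel (by omega), ← hx] at this
      push_cast at this
      exact this
    have c3 : ((u : ℤ)) ^ n = u * (u : ℤ) ^ (n - 1) := by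
      rw [← pow_succ', Nat.sub_add_cancel (by omega)]
    have c5 : (2 : ℤ) * (mm q : ℕ) = (q : ℤ) ^ 4 + 1 := by exact_mod_cast h2m
    rcases Nat.lt_or_ge q 4 with h5 | h5
    · -- `q = 3`
      exfalso
      obtain rfl : q = 3 := by omega
      have hm : mm 3 = 41 := rfl
      rw [hm] at c1
      push_cast at c1
      have hε : (-1 : ℤ) ^ (n - 1) = 1 ∨ (-1 : ℤ) ^ (n - 1) = -1 := neg_one_pow_eq_or ℤ (n - 1)
      have hu11 : u ≤ 11 := by
        by_contra h6
        have h7 : (12 : ℤ) ≤ u := by exact_mod_cast (show 12 ≤ u by omega)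
        have h8 : (u : ℤ) ^ 3 ≤ (u : ℤ) ^ (n - 1) := pow_le_pow_right₀ (by omega) (by omega)
        have h9 : (144 : ℤ) * u ≤ (u : ℤ) ^ 3 := by nlinarith
        rcases hε with h10 | h10 <;> rw [h10] at c1 <;> omega
      have hn12 : n - 1 ≤ 12 := by
        by_contra h6
        have h7 : (2 : ℤ) ^ 13 ≤ (u : ℤ) ^ (n - 1) := by
          calc (2 : ℤ) ^ 13 ≤ 2 ^ (n - 1) := pow_le_pow_right₀ (by norm_num) (by omega)
            _ ≤ (u : ℤ) ^ (n - 1) := pow_le_pow_left₀ (by norm_num) (by exact_mod_cast hu) _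
        have h8 : (u : ℤ) ≤ 11 := by exact_mod_cast hu11
        rcases hε with h10 | h10 <;> rw [h10] at c1 <;> omega
      exact three_case_two u (Finset.mem_Icc.2 ⟨hu, hu11⟩) (n - 1) (Finset.mem_Icc.2 ⟨by omega, hn12⟩) c1
    · have hq5 : (5 : ℤ) ≤ q := by
        have : 5 ≤ q := by
          rcases hodd with ⟨c, hc⟩
          omega
        exact_mod_cast this
      obtain ⟨ε, hε⟩ : ∃ ε : ℤ, ε = (-1) ^ n := ⟨_, rfl⟩
      have hε1 : ε = 1 ∨ ε = -1 := by
        rw [hε]
        exact neg_one_pow_eq_or ℤ n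
      have hε2 : (-1 : ℤ) ^ (n - 1) = -ε := by
        rw [hε]
        obtain ⟨c, rfl⟩ : ∃ c, n = c + 1 := ⟨n - 1, by omega⟩
        rw [Nat.add_sub_cancel, pow_succ]
        ring
      rw [hε2] at c1
      rw [← hε] at c2
      have hu1 : (u : ℤ) + 1 ≠ 0 := by positivity
      have c6 : (N : ℤ) * (u + 1) = u * (mm q : ℕ) - ε := by
        apply mul_right_cancel₀ hu1
        linear_combination c2 - (u : ℤ) * c1 + c3
      obtain ⟨k, hk⟩ := lst_of_inL hodd hNL
      have hp3 : (3 : ℤ) ≤ p := by exact_mod_cast h.three_le_p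
      have hNz : (0 : ℤ) < N := by exact_mod_cast hNp
      have hu3 : (u : ℤ) ^ 3 ≤ (u : ℤ) ^ (n - 1) := pow_le_pow_right₀ (by omega) (by omega)
      refine elim_two (u := (u : ℤ)) (N := (N : ℤ)) (e := 2 * ε) hq5 hp3 (by exact_mod_cast shape h) hNz
        (by exact_mod_cast hu) (by rcases hε1 with h9 | h9 <;> rw [h9] <;> norm_num)
        (by rw [← c5]; linear_combination -2 * c6) ?_ (k_pos hNz (hk.pos hq5 hp3)) hk
      rw [← c5]
      rcases hε1 with h9 | h9 <;> rw [h9] at c1 <;> linarith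
  · omega
  · rcases Nat.lt_or_ge q 4 with h5 | h5
    · obtain rfl : q = 3 := by omega
      norm_num at h2m
      omega
    · have := Nat.pow_le_pow_left h5 4
      omega

end Cfsg.Agent.H458.TPsu
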