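import Cfsg.Agent.H458.SpOp

/-!
# Automorphisms of odd prime order of `PSp_2m(q)`
-/

set_option autoImplicit false
set_option linter.unusedSectionVars false

namespace Cfsg.Agent.H458.SpAut

open Cfsg Module Matrix Subgroup Cfsg.Agent.H568 Cfsg.Agent.H689 Cfsg.Agent.H458.Zs Cfsg.Agent.H458.SpOp
open Cfsg.Agent.ClassicalGeometry.SympBasic Cfsg.Agent.ClassicalGeometry.SympAutSemi
open Cfsg.Agent.ClassicalGeometry.SympGamma

variable {m : ℕ} {F : Type} [Field F] [Fintype F]

theorem index_le (hm : 2 ≤ m) (h22 : m = 2 → 3 ≤ Fintype.card F) :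
    (Psi m F).range.index = 1 ∨ (Psi m F).range.index = 2 := by
  have hB : ∀ α : MulAut (PSp m F), Cfsg.Agent.ClassicalGeometry.AutPSpCount.Pres α →
      α ∈ (Psi m F).range := by
    intro α hα
    obtain ⟨g, hg⟩ := Cfsg.Agent.ClassicalGeometry.SympAutExists.exists_semi hm α hα
    exact ⟨g, hg⟩
  by_cases hcase : m = 2 ∧ (2 : F) = 0
  · right
    obtain ⟨rfl, h2⟩ := hcase
    have hchar : CharP F 2 := by
      obtain ⟨p, hp⟩ := CharP.exists F
      have h3 : p ∣ 2 := (CharP.cast_eq_zero_iff F p 2).1 (by exact_mod_cast h2)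
      have h4 : p.Prime := CharP.char_is_prime F p
      rwa [(Nat.prime_dvd_prime_iff_eq h4 Nat.prime_two).1 h3] at hp
    have ht : ∃ t : F, t ≠ 0 ∧ t ≠ 1 := by
      by_contra hcon
      push Not at hcon
      have h3 : Fintype.card F ≤ 2 := by
        classical
        have : (Finset.univ : Finset F) ⊆ {0, 1} := by
          intro t _
          by_cases h0 : t = 0
          · simp [h0]
          · simp [hcon t h0]
        exact (Finset.card_le_card this).trans (Finset.card_le_two)
      have h4 := h22 rfl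
      omega
    exact Cfsg.Agent.ClassicalGeometry.SympAutTwo.index_two ht hB
  · left
    have htop : (Psi m F).range = ⊤ := by
      rw [eq_top_iff]
      intro α _
      apply hB
      refine Cfsg.Agent.ClassicalGeometry.SympAutOddA.recog hm ?_ α
      by_cases hm2 : m = 2
      · right
        intro h2
        exact hcase ⟨hm2, h2⟩
      · left; omega
    rw [htop, Subgroup.index_top]

theorem pow_half {G : Type*} [Group G] {a : G} {p : ℕ} (hp : Odd p) (ha : a ^ p = 1) : (a ^ 2) ^ ((p + 1) / 2) = a := by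
  obtain ⟨k, rfl⟩ := hp
  rw [← pow_mul, show 2 * ((2 * k + 1 + 1) / 2) = 2 * k + 1 + 1 by omega, pow_succ, ha, one_mul]

theorem mem_range_of_odd (hm : 2 ≤ m) (h22 : m = 2 → 3 ≤ Fintype.card F) {a : MulAut (PSp m F)} {p : ℕ} (hp : Odd p)
    (ha : a ^ p = 1) : a ∈ (Psi m F).range := by
  rcases index_le hm h22 with h | h
  · rw [Subgroup.index_eq_one] at h
    rw [h]
    exact mem_top a
  · rw [← pow_half hp ha]
    exact Subgroup.pow_mem _ (Subgroup.sq_mem_of_index_two h a) _

theorem mem_scal (a : Fˣ) : scal m F a ∈ semiSim m F :=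
  ⟨_, _, mul_ne_zero a.ne_zero a.ne_zero, isSemi_scal a⟩

theorem inner_or_field (hm : 2 ≤ m) (h22 : m = 2 → 3 ≤ Fintype.card F) {a : MulAut (PSp m F)} {p : ℕ} (hp : Odd p)
    (ha : a ^ p = 1) : (∃ s : PSp m F, a = MulAut.conj s) ∨
    ∃ (g : semiSim m F) (φ : F ≃+* F) (c : F), c ≠ 0 ∧ IsSemi g.1 φ c ∧ φ ≠ RingEquiv.refl F ∧ Psi m F g = a := by
  obtain ⟨g, hg⟩ := mem_range_of_odd hm h22 hp ha
  obtain ⟨φ, c, hc, hs⟩ := id g.2
  by_cases hφ : φ = RingEquiv.refl F
  · left
    subst hφ
    let z : semiSim m F := ⟨scal m F (Units.mk0 c hc)⁻¹, mem_scal _⟩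
    have h1 : z * (g * g) ∈ Schreier.ClassPSp.isom m F := by
      have h2 := (isSemi_scal (m := m) (Units.mk0 c hc)⁻¹).mul (hs.mul hs)
      have h3 : ((((Units.mk0 c hc)⁻¹ : Fˣ) : F) * (((Units.mk0 c hc)⁻¹ : Fˣ) : F)) *
          (RingEquiv.refl F) (c * (RingEquiv.refl F) c) = 1 := by
        rw [RingEquiv.refl_apply, RingEquiv.refl_apply, Units.val_inv_eq_inv_val, Units.val_mk0]
        field_simp
      rw [h3] at h2
      exact h2
    have h2 := Schreier.ClassPSp.Psi_isom h1
    rw [map_mul, map_mul, hg] at h2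
    have h3 : Psi m F z = 1 := Psi_scal _ _
    rw [h3, one_mul, ← pow_two] at h2
    have h4 := Subgroup.pow_mem _ h2 ((p + 1) / 2)
    rw [pow_half hp ha] at h4
    obtain ⟨s, hs⟩ := h4
    exact ⟨s, hs.symm⟩
  · right
    exact ⟨g, φ, c, hc, hs, hφ, hg⟩

/-- elements of order primitive over the prime field are not fixed by field automorphisms -/
theorem field_not_fixed {g : semiSim m F} {φ : F ≃+* F} {c : F} (hs : IsSemi g.1 φ c)
    (hφ : φ ≠ RingEquiv.refl F) {r f l : ℕ} [Fact r.Prime] (hF : Fintype.card F = r ^ f) (hm : 1 ≤ m)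
    (hppd : Ppd r (2 * m * f) l) (hl2 : l ≠ 2) (y : PSp m F) (hy : orderOf y = l) : Psi m F g y ≠ y := by
  intro hfix
  obtain ⟨x, rfl, hx⟩ := exists_lift hm hppd.prime hl2 y hy
  have h1 : conjHom m F g x = x := by
    refine Quot.eq_of_map_eq (pr m F) ker_pr.le (coprime_ker hm hppd.prime hl2) (l := l) ?_ ?_ hfix
    · rw [← map_pow, ← hx, pow_orderOf_eq_one, map_one]
    · rw [← hx, pow_orderOf_eq_one]
  have h2 : ∀ v, g.1 (rho m F x v) = rho m F x (g.1 v) := by
    intro v
    have h3 := rho_conjHom g x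
    rw [h1] at h3
    have h4 := DFunLike.congr_fun h3 (g.1 v)
    rw [Equiv.Perm.mul_apply, Equiv.Perm.mul_apply, perm_inv_apply_self] at h4
    exact h4.symm
  -- the characteristic
  have hf : f ≠ 0 := by
    rintro rfl
    rw [pow_zero] at hF
    have := Fintype.one_lt_card (α := F)
    omega
  have hchar : CharP F r := by
    obtain ⟨s, hs⟩ := CharP.exists F
    obtain ⟨n, hsp, hn⟩ := FiniteField.card F s
    have h3 : s ∣ r ^ f := by rw [← hF, hn]; exact dvd_pow_self s n.ne_zero
    have h4 : s = r := (Nat.prime_dvd_prime_iff_eq hsp Fact.out).1 (hsp.dvd_of_dvd_pow h3)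
    rwa [h4] at hs
  let _ : Algebra (ZMod r) F := ZMod.algebra F r
  have hfr : finrank (ZMod r) (Fin m ⊕ Fin m → F) = 2 * m * f := by
    have h3 : Fintype.card (Fin m ⊕ Fin m → F) = Fintype.card (ZMod r) ^ finrank (ZMod r) (Fin m ⊕ Fin m → F) :=
      Module.card_eq_pow_finrank
    rw [Fintype.card_fun, hF, Fintype.card_sum, Fintype.card_fin, ZMod.card, ← pow_mul] at h3
    have h4 := Nat.pow_right_injective (Fact.out : r.Prime).two_le h3
    rw [← h4]
    ring
  let yy : End (ZMod r) (Fin m ⊕ Fin m → F) := (op m F x).restrictScalars (ZMod r)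
  have hyy : ∀ n v, (yy ^ n) v = (op m F (x ^ n)) v := by
    intro n
    induction n with
    | zero => intro v; rw [pow_zero, pow_zero, map_one]; rfl
    | succ n ih =>
      intro v
      rw [pow_succ, pow_succ, map_mul, Module.End.mul_apply, Module.End.mul_apply, ← ih]
      rfl
  have S : Sit yy l (2 * m * f) :=
    { pow := by
        refine LinearMap.ext fun v => ?_
        rw [hyy, ← hx, pow_orderOf_eq_one, map_one]
        rfl
      ne := by
        intro h3
        have h4 : x = 1 := by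
          apply SpOp.op_injective
          rw [map_one]
          refine LinearMap.ext fun v => ?_
          exact LinearMap.congr_fun h3 v
        rw [h4, orderOf_one] at hx
        exact hppd.prime.one_lt.ne hx
      ppd := by rw [ZMod.card]; exact hppd
      pos := Nat.mul_pos (by omega) (Nat.pos_of_ne_zero hf)
      dim := by
        rw [hfr]
        have : 0 < 2 * m * f := Nat.mul_pos (by omega) (Nat.pos_of_ne_zero hf)
        omega }
  let s : End (ZMod r) (Fin m ⊕ Fin m → F) := AddMonoidHom.toZModLinearMap r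
    { toFun := g.1
      map_zero' := by
        have h3 := hs.1 0 0
        rw [add_zero] at h3
        exact left_eq_add.1 h3
      map_add' := hs.1 }
  have hsv : ∀ v, s v = g.1 v := fun _ => rfl
  apply hφ
  ext a
  rw [RingEquiv.refl_apply]
  let t : End (ZMod r) (Fin m ⊕ Fin m → F) := AddMonoidHom.toZModLinearMap r
    { toFun := fun v => a • v
      map_zero' := smul_zero a
      map_add' := fun v w => smul_add a v w }
  have htv : ∀ v, t v = a • v := fun _ => rfl
  have hc1 : ∀ v, s (yy v) = yy (s v) := fun v => h2 v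
  have hc2 : ∀ v, t (yy v) = yy (t v) := fun v => by
    rw [htv, htv]
    exact ((op m F x).map_smul a v).symm
  have htop : ∀ v, v ∈ W yy := fun v => by rw [S.W_top hfr]; exact Submodule.mem_top
  obtain ⟨v, -, hv⟩ := S.exists_ne
  have h3 := S.comm_comm hc1 hc2 (htop v)
  rw [htv, htv, hsv, hsv, hs.2.1] at h3
  have h4 : g.1 v ≠ 0 := by
    intro h5
    apply hv
    apply g.1.injective
    rw [h5]
    have h6 := hs.1 0 0
    rw [add_zero] at h6
    exact (left_eq_add.1 h6).symm
  have h5 : (φ a - a) • g.1 v = 0 := by rw [sub_smul, h3, sub_self]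
  rcases smul_eq_zero.1 h5 with h6 | h6
  · exact sub_eq_zero.1 h6
  · exact absurd h6 h4

/-- a field automorphism of prime order `p` : `p ≤ f` -/
theorem le_of_field {g : semiSim m F} {φ : F ≃+* F} {c : F} (hc : c ≠ 0) (hs : IsSemi g.1 φ c)
    (hφ : φ ≠ RingEquiv.refl F) {r f p : ℕ} [Fact r.Prime] (hF : Fintype.card F = r ^ f) (hm : 1 ≤ m)
    (hp : p.Prime) (ha : (Psi m F g) ^ p = 1) : p ≤ f := by
  have hf : 1 ≤ f := by
    rcases Nat.eq_zero_or_pos f with h0 | h0
    · rw [h0, pow_zero] at hF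
      have := Fintype.one_lt_card (α := F)
      omega
    · exact h0
  have hpow : ∀ n : ℕ, ∃ c', c' ≠ 0 ∧ IsSemi (g ^ n).1 (φ ^ n) c' := by
    intro n
    induction n with
    | zero =>
      refine ⟨1, one_ne_zero, fun _ _ => rfl, fun _ _ => rfl, fun _ _ => ?_⟩
      rw [one_mul]; rfl
    | succ n ih =>
      obtain ⟨c', hc', h⟩ := ih
      refine ⟨c' * (φ ^ n) c, mul_ne_zero hc' ((map_ne_zero_iff (φ ^ n) (φ ^ n).injective).2 hc), ?_⟩
      exact h.mul hs
  obtain ⟨c', hc', h⟩ := hpow p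
  obtain ⟨b, hb⟩ := exists_scal_of_Psi_eq_one hm (g ^ p) (by rw [map_pow, ha])
  have h1 : IsSemi (g ^ p).1 (RingEquiv.refl F) ((b : F) * b) := by rw [hb]; exact isSemi_scal b
  have h2 := (IsSemi.unique hm h h1).1
  have h3 : orderOf φ = p := by
    have : Fact p.Prime := ⟨hp⟩
    exact orderOf_eq_prime h2 hφ
  have h4 : orderOf φ ∣ Nat.card (F ≃+* F) := orderOf_dvd_natCard φ
  rw [Lib.FieldAutCard.card_ringAut hf hF, h3] at h4
  exact Nat.le_of_dvd hf h4

end Cfsg.Agent.H458.SpAut
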