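import Mathlib
import Cfsg.Agent.H749.Val

/-!
# Field kill (helper458, for S5762)

`θ` an automorphism of order `p` (odd) of the finite field `F`, `σ² = 1`: some `u ≠ 0` fixed by `σ` has
`u / θ u` not of `p`-power order.
-/

set_option autoImplicit false
set_option linter.unusedSectionVars false

namespace Cfsg.Agent.H458.FieldKill

open Cfsg.Agent.H749

theorem isCyclic_ringAut (F : Type*) [Field F] [Finite F] : IsCyclic (F ≃+* F) := by
  obtain ⟨p, hp⟩ := CharP.exists F
  have hpp : Fact p.Prime := ⟨CharP.char_is_prime F p⟩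
  let _ : Algebra (ZMod p) F := ZMod.algebra F p
  let φ : (F ≃ₐ[ZMod p] F) →* (F ≃+* F) :=
    { toFun := fun σ => σ.toRingEquiv
      map_one' := rfl
      map_mul' := fun _ _ => rfl }
  have hφ : Function.Surjective φ := by
    intro σ
    refine ⟨AlgEquiv.ofRingEquiv (f := σ) ?_, ?_⟩
    · intro x
      have : (σ : F →+* F).comp (algebraMap (ZMod p) F) = algebraMap (ZMod p) F := Subsingleton.elim _ _
      exact RingHom.congr_fun this x
    · ext x
      rfl
  exact isCyclic_of_surjective φ hφ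

theorem mem_zpowers_of_prime {G : Type*} [Group G] [Finite G] [IsCyclic G] {p : ℕ} (hp : p.Prime) {a b : G}
    (ha : orderOf a = p) (hb : orderOf b = p) : b ∈ Subgroup.zpowers a := by
  classical
  have := Fintype.ofFinite G
  have h1 : (Finset.univ.filter fun x : G => x ^ p = 1).card ≤ p := IsCyclic.card_pow_eq_one_le hp.pos
  have h2 : (Subgroup.zpowers a : Set G).toFinset ⊆ Finset.univ.filter fun x : G => x ^ p = 1 := by
    intro x hx
    rw [Set.mem_toFinset] at hx
    obtain ⟨n, rfl⟩ := hx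
    rw [Finset.mem_filter]
    refine ⟨Finset.mem_univ _, ?_⟩
    show (a ^ n) ^ p = 1
    rw [← zpow_natCast, ← zpow_mul, mul_comm, zpow_mul, zpow_natCast, ← ha, pow_orderOf_eq_one, one_zpow]
  have h3 : (Subgroup.zpowers a : Set G).toFinset.card = p := by
    rw [Set.toFinset_card, ← Nat.card_eq_fintype_card]
    exact (Nat.card_zpowers a).trans ha
  have h4 := Finset.eq_of_subset_of_card_le h2 (by rw [h3]; exact h1)
  have h5 : b ∈ Finset.univ.filter fun x : G => x ^ p = 1 := by
    rw [Finset.mem_filter]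
    exact ⟨Finset.mem_univ _, by rw [← hb, pow_orderOf_eq_one]⟩
  rw [← h4, Set.mem_toFinset] at h5
  exact h5

/-- Artin: the number of fixed points of an automorphism -/
theorem card_fix {K : Type*} [Field K] [Finite K] (α : K ≃+* K) :
    Nat.card K = Nat.card {x : K // α x = x} ^ orderOf α := by
  classical
  have := Fintype.ofFinite K
  have hfin : Finite (K ≃+* K) := Finite.of_injective (fun e : K ≃+* K => (e : K → K)) DFunLike.coe_injective
  have := Fintype.ofFinite (Subgroup.zpowers α)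
  have h1 := FixedPoints.finrank_eq_card (Subgroup.zpowers α) K
  rw [← Nat.card_eq_fintype_card, Nat.card_zpowers] at h1
  have h2 : Nat.card K = Nat.card (FixedPoints.subfield (Subgroup.zpowers α) K) ^
      Module.finrank (FixedPoints.subfield (Subgroup.zpowers α) K) K := Module.natCard_eq_pow_finrank
  rw [h1] at h2
  rw [h2]
  congr 1
  refine Nat.card_congr (Equiv.subtypeEquivRight fun x => ?_)
  constructor
  · intro hx
    exact hx ⟨α, Subgroup.mem_zpowers α⟩
  · rintro hx ⟨_, n, rfl⟩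
    have h3 : α ∈ MulAction.stabilizer (K ≃+* K) x := hx
    exact (Subgroup.zpow_mem _ h3 n : _)

theorem exists_kill {p : ℕ} [hp : Fact p.Prime] (hp3 : 3 ≤ p) {F : Type*} [Field F] [Finite F] (σ : F ≃+* F)
    (hσ : ∀ a, σ (σ a) = a) (θ : F ≃+* F) (hθ : orderOf θ = p) :
    ∃ u : F, u ≠ 0 ∧ σ u = u ∧ ∀ k : ℕ, (u / θ u) ^ p ^ k ≠ 1 := by
  classical
  by_contra hcon
  push Not at hcon
  have hfin : Finite (F ≃+* F) := Finite.of_injective (fun e : F ≃+* F => (e : F → F)) DFunLike.coe_injective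
  have hcyc := isCyclic_ringAut F
  have hcomm : ∀ a b : F ≃+* F, a * b = b * a := IsCyclic.isMulCommutative.is_comm.comm
  have hσ2 : σ ^ 2 = 1 := by
    rw [pow_two]
    exact RingEquiv.ext hσ
  have hpodd : Odd p := hp.out.odd_of_ne_two (by omega)
  have hσp : σ ^ p = σ := by
    obtain ⟨m, hm⟩ := hpodd
    rw [hm, pow_succ, pow_mul, hσ2, one_pow, one_mul]
  obtain ⟨α, hα⟩ : ∃ α, α = σ * θ := ⟨_, rfl⟩
  have hfix : ∀ x, α x = x ↔ σ x = x ∧ θ x = x := by
    intro x
    constructor
    · intro hx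
      have h1 : (α ^ p) x = x := by
        have h2 : α ∈ MulAction.stabilizer (F ≃+* F) x := hx
        exact (Subgroup.pow_mem _ h2 p : _)
      have h2 : α ^ p = σ := by
        rw [hα, (show Commute σ θ from hcomm σ θ).mul_pow, hσp, ← hθ, pow_orderOf_eq_one, mul_one]
      rw [h2] at h1
      refine ⟨h1, ?_⟩
      have h3 : σ (θ x) = x := by rw [hα] at hx; exact hx
      have h4 := congrArg σ h3
      rwa [hσ, h1] at h4
    · rintro ⟨h1, h2⟩
      rw [hα]
      show σ (θ x) = x
      rw [h2, h1]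
  -- orders
  have hm : orderOf σ ∣ 2 := orderOf_dvd_of_pow_eq_one hσ2
  have hcop : Nat.Coprime (orderOf σ) (orderOf θ) := by
    rw [hθ]
    refine Nat.Coprime.coprime_dvd_left hm ?_
    exact (Nat.coprime_primes Nat.prime_two hp.out).2 (by omega)
  have hord : orderOf α = orderOf σ * p := by
    rw [hα, (show Commute σ θ from hcomm σ θ).orderOf_mul_eq_mul_orderOf_of_coprime hcop, hθ]
  have hm0 : 0 < orderOf σ := orderOf_pos σ
  obtain ⟨Q, hQ⟩ : ∃ Q, Q = Nat.card {x : F // σ x = x} := ⟨_, rfl⟩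
  obtain ⟨q, hq⟩ : ∃ q, q = Nat.card {x : F // α x = x} := ⟨_, rfl⟩
  have hQq : Q = q ^ p := by
    have h1 := card_fix σ
    have h2 := card_fix α
    rw [h1, hord, mul_comm, pow_mul, ← hQ, ← hq] at h2
    exact Nat.pow_left_injective hm0.ne' h2
  -- the subgroups of units
  let U : Subgroup Fˣ :=
    { carrier := {u | σ (u : F) = u}
      one_mem' := by simp
      mul_mem' := by
        intro a b (ha : σ (a : F) = a) (hb : σ (b : F) = b)
        show σ ((a * b : Fˣ) : F) = ((a * b : Fˣ) : F)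
        rw [Units.val_mul, map_mul, ha, hb]
      inv_mem' := by
        intro a (ha : σ (a : F) = a)
        show σ ((a⁻¹ : Fˣ) : F) = ((a⁻¹ : Fˣ) : F)
        rw [Units.val_inv_eq_inv_val, map_inv₀, ha] }
  have hU : ∀ u : Fˣ, u ∈ U ↔ σ (u : F) = u := fun u => Iff.rfl
  let f : U →* Fˣ :=
    { toFun := fun u => (u : Fˣ) / Units.map (θ : F →* F) (u : Fˣ)
      map_one' := by simp
      map_mul' := by
        intro a b
        rw [Subgroup.coe_mul, map_mul, mul_div_mul_comm] }
  have hfval : ∀ u : U, ((f u : Fˣ) : F) = ((u : Fˣ) : F) / θ ((u : Fˣ) : F) := by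
    intro u
    show (((u : Fˣ) / Units.map (θ : F →* F) (u : Fˣ) : Fˣ) : F) = _
    rw [Units.val_div_eq_div_val]
    rfl
  have hUcard : Nat.card U = Q - 1 := by
    have e : U ≃ {x : {x : F // σ x = x} // x ≠ ⟨0, map_zero σ⟩} :=
      { toFun := fun u => ⟨⟨((u : Fˣ) : F), u.2⟩, fun h => (u : Fˣ).ne_zero (congrArg Subtype.val h)⟩
        invFun := fun x => ⟨Units.mk0 x.1.1 (fun h => x.2 (Subtype.ext h)), x.1.2⟩
        left_inv := fun u => Subtype.ext (Units.ext rfl)
        right_inv := fun x => Subtype.ext (Subtype.ext rfl) }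
    have := Fintype.ofFinite {x : F // σ x = x}
    rw [Nat.card_congr e, Nat.card_eq_fintype_card, Fintype.card_subtype_compl, Fintype.card_subtype_eq, hQ,
      Nat.card_eq_fintype_card]
  have hkcard : Nat.card f.ker = q - 1 := by
    have hk : ∀ u : U, u ∈ f.ker ↔ θ ((u : Fˣ) : F) = ((u : Fˣ) : F) := by
      intro u
      rw [MonoidHom.mem_ker, ← Units.val_inj, hfval, Units.val_one, div_eq_one_iff_eq
        ((map_ne_zero θ).2 (u : Fˣ).ne_zero)]
      exact eq_comm
    have e : f.ker ≃ {x : {x : F // α x = x} // x ≠ ⟨0, map_zero α⟩} :=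
      { toFun := fun u => ⟨⟨((u.1 : Fˣ) : F), (hfix _).2 ⟨u.1.2, (hk u.1).1 u.2⟩⟩,
          fun h => (u.1 : Fˣ).ne_zero (congrArg Subtype.val h)⟩
        invFun := fun x => ⟨⟨Units.mk0 x.1.1 (fun h => x.2 (Subtype.ext h)), ((hfix _).1 x.1.2).1⟩,
          (hk _).2 ((hfix _).1 x.1.2).2⟩
        left_inv := fun u => Subtype.ext (Subtype.ext (Units.ext rfl))
        right_inv := fun x => Subtype.ext (Subtype.ext rfl) }
    have := Fintype.ofFinite {x : F // α x = x}
    rw [Nat.card_congr e, Nat.card_eq_fintype_card, Fintype.card_subtype_compl, Fintype.card_subtype_eq, hq,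
      Nat.card_eq_fintype_card]
  have hrange : IsPGroup p f.range := by
    rintro ⟨_, u, rfl⟩
    obtain ⟨k, hk⟩ := hcon (u : Fˣ) (u : Fˣ).ne_zero u.2
    refine ⟨k, Subtype.ext (Units.ext ?_)⟩
    rw [SubmonoidClass.coe_pow, Units.val_pow_eq_pow_val, hfval, hk]
    rfl
  obtain ⟨n, hn⟩ := IsPGroup.iff_card.1 hrange
  have hq2 : 2 ≤ q := by
    have := Fintype.ofFinite {x : F // α x = x}
    rw [hq, Nat.card_eq_fintype_card]
    have : Nontrivial {x : F // α x = x} := ⟨⟨0, map_zero α⟩, ⟨1, map_one α⟩, fun h => zero_ne_one (congrArg Subtype.val h)⟩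
    exact Fintype.one_lt_card
  have hmain : q ^ p - 1 = (q - 1) * p ^ n := by
    rw [← hQq, ← hUcard, ← hkcard, ← hn, ← Subgroup.card_mul_index f.ker, Subgroup.index_ker]
  -- arithmetic
  have hmainZ : (q : ℤ) ^ p - 1 = ((q : ℤ) - 1) * ((p ^ n : ℕ) : ℤ) := by
    have h1 : ((q ^ p - 1 : ℕ) : ℤ) = (((q - 1) * p ^ n : ℕ) : ℤ) := by rw [hmain]
    rw [Nat.cast_sub (Nat.one_le_pow _ _ (by omega)), Nat.cast_mul, Nat.cast_sub (by omega)] at h1
    push_cast at h1 ⊢
    exact h1
  have hq1 : (q : ℤ) - 1 ≠ 0 := by omega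
  have hqi : (q : ℤ) ^ p ≠ 1 := by
    intro h
    rw [h, sub_self] at hmainZ
    have := mul_eq_zero.1 hmainZ.symm
    rcases this with h1 | h1
    · exact hq1 h1
    · exact (pow_pos hp.out.pos n).ne' (by exact_mod_cast h1)
  have hn1 : n ≤ 1 := by
    have hv := congrArg (vp p) hmainZ
    rw [vp_mul p hq1 (by exact_mod_cast (pow_pos hp.out.pos n).ne'), vp_natCast, Nat.Prime.factorization_pow hp.out,
      Finsupp.single_eq_same] at hv
    by_cases hpq : (p : ℤ) ∣ (q : ℤ) - 1
    · rw [vp_pow_sub_one (by omega) hpq hqi, hp.out.factorization_self] at hv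
      omega
    · have h1 : ¬ (p : ℤ) ∣ (q : ℤ) ^ p - 1 := by
        intro h
        apply hpq
        rw [← ZMod.intCast_zmod_eq_zero_iff_dvd] at h ⊢
        push_cast at h ⊢
        rwa [ZMod.pow_card] at h
      rw [vp_eq_zero h1] at hv
      omega
  have hs : ∑ i ∈ Finset.range p, q ^ i = p ^ n := by
    rw [Nat.geomSum_eq hq2, hmain, Nat.mul_div_cancel_left _ (by omega)]
  have hlt : p < p ^ n := by
    rw [← hs]
    calc p = ∑ i ∈ Finset.range p, 1 := by simp
      _ < ∑ i ∈ Finset.range p, q ^ i := by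
        refine Finset.sum_lt_sum (fun i _ => Nat.one_le_pow _ _ (by omega)) ⟨1, Finset.mem_range.2 (by omega), ?_⟩
        rw [pow_one]
        omega
  have h2 : p ^ n ≤ p := by
    calc p ^ n ≤ p ^ 1 := Nat.pow_le_pow_right hp.out.pos hn1
      _ = p := pow_one p
  omega

end Cfsg.Agent.H458.FieldKill
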