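import Mathlib
import Cfsg.Agent.H460.Pan
import Cfsg.Agent.H460.Lem1
import Cfsg.Agent.H458.FieldKill

/-!
# Rank one panels of type `PSL_2` (helper458, for helper460's AA-engine, S3833, S3834, S3840)

`pn_line`, `pf_line`, `px_line`.
-/

set_option autoImplicit false
set_option linter.unusedSectionVars false

namespace Cfsg.Agent.H458.PanF

open Cfsg.Agent.FixBN Cfsg.Agent.H460.Pan Cfsg.Agent.H460.AA Cfsg.Agent.H460.Lem1 Equiv

variable {F : Type*} [Field F]

theorem na_some {a t : F} (ha : a ≠ 0) (ht : t ≠ 0) :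
    tr a (ni (tr a⁻¹ (ni (tr a (some t : Option F))))) = some (-(a ^ 2 / t)) := by
  rw [tr_some]
  by_cases h : t + a = 0
  · rw [h, ni_zero, tr_none, ni_none, tr_some, zero_add]
    have h1 : t = -a := by linear_combination h
    congr 1
    rw [h1]
    field_simp
  · rw [ni_some h, tr_some]
    have h1 : -(t + a)⁻¹ + a⁻¹ = t / (a * (t + a)) := by
      field_simp
      ring
    have h2 : t / (a * (t + a)) ≠ 0 := div_ne_zero ht (mul_ne_zero ha h)
    rw [h1, ni_some h2, tr_some]
    congr 1
    field_simp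
    ring

/-- an additive subgroup of a finite field containing the squares is everything -/
theorem eq_top_of_sq [Finite F] {S : AddSubgroup F} (hS : ∀ a : F, a ^ 2 ∈ S) (x : F) : x ∈ S := by
  by_cases h2 : (2 : F) = 0
  · have hchar : ringChar F = 2 := by
      have := ringChar.dvd (R := F) (x := 2) (by exact_mod_cast h2)
      rcases (Nat.dvd_prime Nat.prime_two).1 this with h | h
      · exact absurd h (CharP.ringChar_ne_one)
      · exact h
    have := Fintype.ofFinite F
    obtain ⟨y, hy⟩ := FiniteField.isSquare_of_char_two hchar x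
    rw [hy, ← pow_two]
    exact hS y
  · have h1 : ∀ y : F, 2 * y ∈ S := by
      intro y
      have h3 : 2 * y = (y + 1) ^ 2 - y ^ 2 - 1 ^ 2 := by ring
      rw [h3]
      exact S.sub_mem (S.sub_mem (hS _) (hS _)) (hS 1)
    have h3 := h1 (x / 2)
    rwa [mul_div_cancel₀ _ h2] at h3

/-- permutations of the family fixing `∞` and `0` are semilinear, all characteristics -/
theorem exists_semi [Finite F] {c : Perm (Option F)} (hc : c ∈ famStab (lineFam F)) (h0 : c none = none)
    (h1 : c (some 0) = some 0) : ∃ (l : F) (φ : F ≃+* F), l ≠ 0 ∧ ∀ t, c (some t) = some (l * φ t) := by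
  have hf : ∀ a : F, ∃ b : F, c * tr a * c⁻¹ = tr b := by
    intro a
    have := (hc none (tr a)).mp (tr_mem_lineFam a)
    rw [h0, lineFam_none, mem_trGroup] at this
    obtain ⟨b, hb⟩ := this
    exact ⟨b, hb.symm⟩
  choose f hf using hf
  have hfc : ∀ a, c * tr a = tr (f a) * c := fun a => mul_inv_eq_iff_eq_mul.mp (hf a)
  have hcf : ∀ a : F, c (some a) = some (f a) := by
    intro a
    have h3 := congrArg (fun e : Perm (Option F) => e (some 0)) (hfc a)
    change c (tr a (some 0)) = tr (f a) (c (some 0)) at h3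
    rw [h1, tr_some, tr_some, zero_add, zero_add] at h3
    exact h3
  have hf0 : f 0 = 0 := by
    have := hcf 0
    rw [h1] at this
    exact (Option.some_injective _ this).symm
  have hfinj : Function.Injective f := by
    intro a b hab
    have : c (some a) = c (some b) := by rw [hcf, hcf, hab]
    exact Option.some_injective _ (c.injective this)
  have hfne : ∀ {a : F}, a ≠ 0 → f a ≠ 0 := by
    intro a ha h
    exact ha (hfinj (h.trans hf0.symm))
  have hfadd : ∀ a b, f (a + b) = f a + f b := by
    intro a b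
    have h3 : c (tr a (some b)) = tr (f a) (c (some b)) :=
      congrArg (fun e : Perm (Option F) => e (some b)) (hfc a)
    rw [tr_some, hcf, hcf, tr_some] at h3
    have h4 := Option.some_injective _ h3
    rw [add_comm a b, h4, add_comm]
  have hfneg : ∀ a, f (-a) = -f a := by
    intro a
    have := hfadd a (-a)
    rw [add_neg_cancel, hf0] at this
    exact (neg_eq_of_add_eq_zero_right this.symm).symm
  -- the opposite root group
  have hg : ∀ a : F, ∃ b : F, c * (ni * tr a * ni) * c⁻¹ = ni * tr b * ni := by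
    intro a
    have h2 : ∀ {g : Perm (Option F)}, g ∈ lineFam F (some 0 : Option F) ↔ ∃ a : F, g = ni * tr a * ni := by
      intro g
      rw [mem_lineFam_some, tr_zero, one_mul, inv_ni]
    have := (hc (some 0) (ni * tr a * ni)).mp (h2.mpr ⟨a, rfl⟩)
    rw [h1, h2] at this
    exact this
  choose g hg using hg
  have hgc' : ∀ (a : F) (y : Option F), c (ni (tr a (ni y))) = ni (tr (g a) (ni (c y))) := fun a y =>
    congrArg (fun e : Perm (Option F) => e y) (mul_inv_eq_iff_eq_mul.mp (hg a))
  have hfc' : ∀ (a : F) (y : Option F), c (tr a y) = tr (f a) (c y) := fun a y =>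
    congrArg (fun e : Perm (Option F) => e y) (hfc a)
  -- `g a = 1 / f (1 / a)`
  have hga : ∀ {a : F}, a ≠ 0 → g a = (f a⁻¹)⁻¹ := by
    intro a ha
    have h3 := hgc' a (some a⁻¹)
    rw [ni_some (inv_ne_zero ha), inv_inv, tr_some, neg_add_cancel, ni_zero, h0, hcf,
      ni_some (hfne (inv_ne_zero ha)), tr_some] at h3
    by_contra hne
    have h4 : -(f a⁻¹)⁻¹ + g a ≠ 0 := by
      intro h5
      apply hne
      linear_combination h5
    rw [ni_some h4] at h3
    exact Option.some_ne_none _ h3.symm
  have hkey : ∀ {a t : F}, a ≠ 0 → t ≠ 0 → f (a ^ 2 / t) = f a ^ 2 / f t := by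
    intro a t ha ht
    have h2 : c (tr a (ni (tr a⁻¹ (ni (tr a (some t : Option F)))))) =
        tr (f a) (ni (tr (f a)⁻¹ (ni (tr (f a) (some (f t) : Option F))))) := by
      rw [hfc', hgc', hfc', hcf, hga (inv_ne_zero ha), inv_inv]
    rw [na_some ha ht, na_some (hfne ha) (hfne ht), hcf, hfneg] at h2
    exact neg_injective (Option.some_injective _ h2)
  have hl : f 1 ≠ 0 := hfne one_ne_zero
  have hkey2 : ∀ a x : F, f 1 ^ 2 * f (a ^ 2 * x) = f a ^ 2 * f x := by
    intro a x
    by_cases ha : a = 0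
    · subst ha
      simp [hf0]
    by_cases hx : x = 0
    · subst hx
      rw [mul_zero, hf0, mul_zero, mul_zero]
    have h2 := hkey ha (inv_ne_zero hx)
    have h3 := hkey one_ne_zero (inv_ne_zero hx)
    rw [div_inv_eq_mul] at h2 h3
    rw [one_pow, one_mul] at h3
    have h4 := hfne (inv_ne_zero hx)
    rw [h2, h3]
    field_simp
  -- the field automorphism
  have hmul : ∀ x y : F, f 1 * f (x * y) = f x * f y := by
    intro x
    let S : AddSubgroup F :=
      { carrier := {x | ∀ y : F, f 1 * f (x * y) = f x * f y}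
        add_mem' := by
          intro a b ha hb y
          rw [add_mul, hfadd, hfadd a b, mul_add, ha y, hb y, add_mul]
        zero_mem' := by
          intro y
          rw [zero_mul, hf0, mul_zero, zero_mul]
        neg_mem' := by
          intro a ha y
          rw [neg_mul, hfneg, hfneg a, mul_neg, ha y, neg_mul] }
    refine eq_top_of_sq (S := S) (fun a y => ?_) x
    have h2 := hkey2 a y
    have h3 := hkey2 a 1
    rw [mul_one] at h3
    have h4 : f 1 * (f 1 * f (a ^ 2 * y)) = f 1 * (f (a ^ 2) * f y) := by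
      apply mul_left_cancel₀ hl
      linear_combination (f 1) * h2 - f y * h3
    exact mul_left_cancel₀ hl h4
  have hsurj : Function.Surjective f := by
    intro b
    obtain ⟨y, hy⟩ := c.surjective (some b)
    rcases y with _ | a
    · rw [h0] at hy
      exact absurd hy.symm (Option.some_ne_none _)
    · rw [hcf] at hy
      exact ⟨a, Option.some_injective _ hy⟩
  let φ : F ≃+* F := RingEquiv.ofBijective
    ({ toFun := fun x => f x / f 1
       map_one' := div_self hl
       map_mul' := fun x y => by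
        field_simp
        linear_combination hmul x y
       map_zero' := by
        change f 0 / f 1 = 0
        rw [hf0, zero_div]
       map_add' := fun x y => by
        change f (x + y) / f 1 = f x / f 1 + f y / f 1
        rw [hfadd, add_div] } : F →+* F)
    ⟨by
      intro x y hxy
      have h3 : f x / f 1 = f y / f 1 := hxy
      exact hfinj ((div_left_inj' hl).mp h3), by
      intro y
      obtain ⟨x, hx⟩ := hsurj (y * f 1)
      exact ⟨x, by change f x / f 1 = y; rw [hx, mul_div_cancel_right₀ _ hl]⟩⟩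
  have hφ : ∀ x, φ x = f x / f 1 := fun x => rfl
  refine ⟨f 1, φ, hl, fun t => ?_⟩
  rw [hcf, hφ, mul_div_cancel₀ _ hl]

/-! ### fixed points -/

/-- the number of fixed points -/
noncomputable def nf {Om : Type*} (f : Perm Om) : ℕ := Nat.card {y // f y = y}

theorem nf_conj {Om : Type*} (f m : Perm Om) : nf (m * f * m⁻¹) = nf f := by
  refine (Nat.card_congr (Equiv.subtypeEquiv m fun y => ?_)).symm
  show f y = y ↔ m (f (m.symm (m y))) = m y
  rw [m.symm_apply_apply, m.apply_eq_iff_eq]

theorem exists_move (a b : Option F) (hab : a ≠ b) : ∃ g ∈ psl2 F, g none = a ∧ g (some 0) = b := by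
  have h1 : (toPt a)⁻¹ b ≠ none := by
    intro h
    have h3 : (toPt a) ((toPt a)⁻¹ b) = toPt a none := congrArg (toPt a) h
    rw [toPt_apply] at h3
    exact hab (h3.symm.trans ((toPt a).apply_symm_apply _))
  obtain ⟨s, hs⟩ := Option.ne_none_iff_exists'.mp h1
  refine ⟨toPt a * tr s, mul_mem (toPt_mem _) (tr_mem s), ?_, ?_⟩
  · change toPt a (tr s none) = a
    rw [tr_none, toPt_apply]
  · change toPt a (tr s (some 0)) = b
    rw [tr_some, zero_add, ← hs]
    exact (toPt a).apply_symm_apply _

/-- `psl2 F` is two-transitive -/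
theorem two_trans {u v x y : Option F} (huv : u ≠ v) (hxy : x ≠ y) : ∃ m ∈ psl2 F, m u = x ∧ m v = y := by
  obtain ⟨g, hg, h1, h2⟩ := exists_move u v huv
  obtain ⟨g', hg', h1', h2'⟩ := exists_move x y hxy
  refine ⟨g' * g⁻¹, mul_mem hg' (inv_mem hg), ?_, ?_⟩
  · rw [← h1, ← h1']
    exact congrArg g' (g.symm_apply_apply _)
  · rw [← h2, ← h2']
    exact congrArg g' (g.symm_apply_apply _)

/-- three fixed points: a field automorphism up to conjugation -/
theorem three [Finite F] {c : Perm (Option F)} (hc : c ∈ famStab (lineFam F)) (h3 : 3 ≤ nf c) :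
    ∃ φ : F ≃+* F, (φ = 1 → c = 1) ∧ nf c = Nat.card {x // φ x = x} + 1 := by
  classical
  have hfin : Finite (Option F) := inferInstance
  have := Fintype.ofFinite (Option F)
  -- three distinct fixed points
  obtain ⟨a, b, d, hab, had, hbd⟩ : ∃ a b d : {y // c y = y}, a ≠ b ∧ a ≠ d ∧ b ≠ d := by
    unfold nf at h3
    rw [Nat.card_eq_fintype_card] at h3
    exact Fintype.two_lt_card_iff.1 h3
  obtain ⟨g, hg, hga, hgb⟩ := exists_move a.1 b.1 (fun h => hab (Subtype.ext h))
  obtain ⟨c', hc'⟩ : ∃ c', c' = g⁻¹ * c * g := ⟨_, rfl⟩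
  have hcc' : c = g * c' * g⁻¹ := by rw [hc']; group
  have hgS := psl2_le_famStab hg
  have hc'S : c' ∈ famStab (lineFam F) := by
    rw [hc']; exact mul_mem (mul_mem (inv_mem hgS) hc) hgS
  have hg' : ∀ y, g⁻¹ (g y) = y := fun y => g.symm_apply_apply y
  have h0 : c' none = none := by
    rw [hc', Perm.mul_apply, Perm.mul_apply, hga, a.2, ← hga, hg']
  have h1 : c' (some 0) = some 0 := by
    rw [hc', Perm.mul_apply, Perm.mul_apply, hgb, b.2, ← hgb, hg']
  obtain ⟨e, he⟩ : ∃ e, e = g⁻¹ d.1 := ⟨_, rfl⟩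
  have hge : g e = d.1 := by rw [he]; exact g.apply_symm_apply _
  have he1 : c' e = e := by
    rw [hc', Perm.mul_apply, Perm.mul_apply, hge, d.2, ← hge, hg']
  have hen : e ≠ none := by
    rintro rfl
    exact had (Subtype.ext (hga.symm.trans hge))
  have he0 : e ≠ some 0 := by
    rintro rfl
    exact hbd (Subtype.ext (hgb.symm.trans hge))
  obtain ⟨s, rfl⟩ := Option.ne_none_iff_exists'.mp hen
  have hs : s ≠ 0 := by
    rintro rfl
    exact he0 rfl
  obtain ⟨l, φ, hl, hφ⟩ := exists_semi hc'S h0 h1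
  have hls : l * φ s = s := by
    rw [hφ] at he1
    exact Option.some_injective _ he1
  have hφs : φ s ≠ 0 := (map_ne_zero φ).2 hs
  refine ⟨φ, ?_, ?_⟩
  · rintro rfl
    have h4 : l * s = s := hls
    have h5 : l = 1 := mul_right_cancel₀ hs (by rw [h4, one_mul])
    have h6 : c' = 1 := by
      apply Equiv.ext
      rintro (_ | t)
      · exact h0
      · rw [hφ, h5, one_mul]; rfl
    rw [hcc', h6]; group
  · rw [hcc', nf_conj]
    have e1 : {y // c' y = y} ≃ Option {x // φ x = x} :=
      { toFun := fun y => match y with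
          | ⟨none, _⟩ => none
          | ⟨some t, ht⟩ => some ⟨t / s, by
              rw [hφ] at ht
              have h5 : l * φ t = t := Option.some_injective _ ht
              rw [map_div₀, div_eq_div_iff hφs hs]
              have h6 : l * (φ t * s) = l * (t * φ s) := by
                calc l * (φ t * s) = (l * φ t) * s := by ring
                  _ = t * (l * φ s) := by rw [h5, hls]
                  _ = _ := by ring
              exact mul_left_cancel₀ hl h6⟩
        invFun := fun x => match x with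
          | none => ⟨none, h0⟩
          | some x => ⟨some (x.1 * s), by
              rw [hφ, map_mul, x.2]
              congr 1
              calc l * (x.1 * φ s) = x.1 * (l * φ s) := by ring
                _ = x.1 * s := by rw [hls]⟩
        left_inv := by
          rintro ⟨_ | t, ht⟩
          · rfl
          · exact Subtype.ext (congrArg some (div_mul_cancel₀ t hs))
        right_inv := by
          rintro (_ | x)
          · rfl
          · exact congrArg some (Subtype.ext (mul_div_cancel_right₀ x.1 hs)) }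
    unfold nf
    rw [Nat.card_congr e1, Finite.card_option]

/-! ### the average number of fixed points -/

section avg

variable {Om : Type*} [Fintype Om] [DecidableEq Om] (M : Subgroup (Perm Om)) [Fintype M]

theorem card_one (h2 : ∀ u v x y : Om, u ≠ v → x ≠ y → ∃ m ∈ M, m u = x ∧ m v = y) (hcard : 2 ≤ Fintype.card Om)
    (u x : Om) : Fintype.card Om * (Finset.univ.filter fun m : M => (m : Perm Om) u = x).card = Fintype.card M := by
  classical
  have htr : ∀ u x : Om, ∃ m ∈ M, (m : Perm Om) u = x := by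
    intro u x
    obtain ⟨v, hv⟩ := Fintype.exists_ne_of_one_lt_card (by omega) u
    obtain ⟨y, hy⟩ := Fintype.exists_ne_of_one_lt_card (by omega) x
    obtain ⟨m, hm, h3, -⟩ := h2 u v x y hv.symm hy.symm
    exact ⟨m, hm, h3⟩
  have hall : ∀ x' : Om, (Finset.univ.filter fun m : M => (m : Perm Om) u = x').card =
      (Finset.univ.filter fun m : M => (m : Perm Om) u = x).card := by
    intro x'
    obtain ⟨g, hg, hgx⟩ := htr x' x
    refine Finset.card_bij (fun m _ => ⟨g, hg⟩ * m) ?_ ?_ ?_
    · intro m hm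
      rw [Finset.mem_filter] at hm ⊢
      refine ⟨Finset.mem_univ _, ?_⟩
      show g ((m : Perm Om) u) = x
      rw [hm.2, hgx]
    · intro a _ b _ hab
      exact mul_left_cancel hab
    · intro b hb
      rw [Finset.mem_filter] at hb
      refine ⟨⟨g, hg⟩⁻¹ * b, ?_, by group⟩
      rw [Finset.mem_filter]
      refine ⟨Finset.mem_univ _, ?_⟩
      show g.symm ((b : Perm Om) u) = x'
      rw [hb.2, ← hgx, g.symm_apply_apply]
  have h3 : Fintype.card M = ∑ x' : Om, (Finset.univ.filter fun m : M => (m : Perm Om) u = x').card := by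
    rw [← Finset.card_univ]
    exact Finset.card_eq_sum_card_fiberwise (f := fun m : M => (m : Perm Om) u) (fun _ _ => Finset.mem_univ _)
  rw [h3, Finset.sum_congr rfl fun x' _ => hall x', Finset.sum_const, Finset.card_univ, smul_eq_mul]

theorem card_two (h2 : ∀ u v x y : Om, u ≠ v → x ≠ y → ∃ m ∈ M, m u = x ∧ m v = y)
    {u v x y : Om} (huv : u ≠ v) (hxy : x ≠ y) : Fintype.card Om * (Fintype.card Om - 1) *
      (Finset.univ.filter fun m : M => (m : Perm Om) u = x ∧ (m : Perm Om) v = y).card = Fintype.card M := by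
  classical
  have hall : ∀ z : Om × Om, z.1 ≠ z.2 → (Finset.univ.filter fun m : M => ((m : Perm Om) u, (m : Perm Om) v) = z).card =
      (Finset.univ.filter fun m : M => (m : Perm Om) u = x ∧ (m : Perm Om) v = y).card := by
    rintro ⟨x', y'⟩ hz
    obtain ⟨g, hg, hgx, hgy⟩ := h2 x' y' x y hz hxy
    refine Finset.card_bij (fun m _ => ⟨g, hg⟩ * m) ?_ ?_ ?_
    · intro m hm
      rw [Finset.mem_filter, Prod.mk.injEq] at hm
      rw [Finset.mem_filter]
      refine ⟨Finset.mem_univ _, ?_, ?_⟩
      · show g ((m : Perm Om) u) = x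
        rw [hm.2.1, hgx]
      · show g ((m : Perm Om) v) = y
        rw [hm.2.2, hgy]
    · intro a _ b _ hab
      exact mul_left_cancel hab
    · intro b hb
      rw [Finset.mem_filter] at hb
      refine ⟨⟨g, hg⟩⁻¹ * b, ?_, by group⟩
      rw [Finset.mem_filter, Prod.mk.injEq]
      refine ⟨Finset.mem_univ _, ?_, ?_⟩
      · show g.symm ((b : Perm Om) u) = x'
        rw [hb.2.1, ← hgx, g.symm_apply_apply]
      · show g.symm ((b : Perm Om) v) = y'
        rw [hb.2.2, ← hgy, g.symm_apply_apply]
  have h3 : Fintype.card M = ∑ z ∈ (Finset.univ : Finset Om).offDiag,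
      (Finset.univ.filter fun m : M => ((m : Perm Om) u, (m : Perm Om) v) = z).card := by
    rw [← Finset.card_univ]
    refine Finset.card_eq_sum_card_fiberwise (f := fun m : M => ((m : Perm Om) u, (m : Perm Om) v)) (fun m _ => ?_)
    rw [Finset.mem_coe, Finset.mem_offDiag]
    exact ⟨Finset.mem_univ _, Finset.mem_univ _, fun h => huv ((m : Perm Om).injective h)⟩
  rw [h3, Finset.sum_congr rfl fun z hz => hall z (Finset.mem_offDiag.1 hz).2.2, Finset.sum_const, Finset.offDiag_card,
    Finset.card_univ, smul_eq_mul, Nat.mul_sub, mul_one]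

theorem avg (h2 : ∀ u v x y : Om, u ≠ v → x ≠ y → ∃ m ∈ M, m u = x ∧ m v = y) (hcard : 2 ≤ Fintype.card Om)
    (f : Perm Om) : Fintype.card Om * (Fintype.card Om - 1) * ∑ m : M, nf (f * ((m : Perm Om) * f * (m : Perm Om)⁻¹)) =
      Fintype.card M * ((Fintype.card Om - 1) * nf f ^ 2 + (Fintype.card Om - nf f) ^ 2) := by
  classical
  obtain ⟨N, hN⟩ : ∃ N, N = Fintype.card Om := ⟨_, rfl⟩
  have hnf : ∀ g : Perm Om, nf g = (Finset.univ.filter fun u : Om => g u = u).card := by
    intro g
    unfold nf
    rw [Nat.card_eq_fintype_card, Fintype.card_subtype]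
  have hnf' : (Finset.univ.filter fun u : Om => ¬ f u = u).card = N - nf f := by
    rw [hnf, hN, ← Finset.card_univ (α := Om), ← Finset.card_filter_add_card_filter_not (s := (Finset.univ : Finset Om)) (fun u => f u = u)]
    omega
  have h3 : ∀ m : M, nf (f * ((m : Perm Om) * f * (m : Perm Om)⁻¹)) =
      (Finset.univ.filter fun u : Om => f ((m : Perm Om) (f u)) = (m : Perm Om) u).card := by
    intro m
    rw [hnf]
    refine Finset.card_bij (fun y _ => (m : Perm Om)⁻¹ y) ?_ ?_ ?_
    · intro y hy
      rw [Finset.mem_filter] at hy ⊢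
      refine ⟨Finset.mem_univ _, ?_⟩
      have h4 : f ((m : Perm Om) (f ((m : Perm Om)⁻¹ y))) = y := hy.2
      rw [h4]
      exact ((m : Perm Om).apply_symm_apply y).symm
    · intro a _ b _ hab
      exact (m : Perm Om)⁻¹.injective hab
    · intro u hu
      rw [Finset.mem_filter] at hu
      refine ⟨(m : Perm Om) u, ?_, (m : Perm Om).symm_apply_apply u⟩
      rw [Finset.mem_filter]
      refine ⟨Finset.mem_univ _, ?_⟩
      show f ((m : Perm Om) (f ((m : Perm Om).symm ((m : Perm Om) u)))) = (m : Perm Om) u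
      rw [(m : Perm Om).symm_apply_apply, hu.2]
  have h4 : ∑ m : M, nf (f * ((m : Perm Om) * f * (m : Perm Om)⁻¹)) =
      ∑ u : Om, (Finset.univ.filter fun m : M => f ((m : Perm Om) (f u)) = (m : Perm Om) u).card := by
    rw [Finset.sum_congr rfl fun m _ => h3 m]
    simp only [Finset.card_filter]
    exact Finset.sum_comm
  have h5 : ∀ u : Om, N * (N - 1) * (Finset.univ.filter fun m : M => f ((m : Perm Om) (f u)) = (m : Perm Om) u).card =
      Fintype.card M * (if f u = u then (N - 1) * nf f else (N - nf f)) := by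
    intro u
    by_cases hu : f u = u
    · rw [if_pos hu]
      have h6 : (Finset.univ.filter fun m : M => f ((m : Perm Om) (f u)) = (m : Perm Om) u).card =
          ∑ x ∈ Finset.univ.filter (fun x : Om => f x = x), (Finset.univ.filter fun m : M => (m : Perm Om) u = x).card := by
        rw [Finset.card_eq_sum_card_fiberwise (f := fun m : M => (m : Perm Om) u)
          (t := Finset.univ.filter (fun x : Om => f x = x))]
        · refine Finset.sum_congr rfl fun x hx => ?_
          congr 1
          ext m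
          rw [Finset.mem_filter, Finset.mem_filter, Finset.mem_filter]
          rw [Finset.mem_filter] at hx
          constructor
          · rintro ⟨⟨-, -⟩, h8⟩; exact ⟨Finset.mem_univ _, h8⟩
          · rintro ⟨-, h8⟩
            refine ⟨⟨Finset.mem_univ _, ?_⟩, h8⟩
            rw [hu, h8, hx.2]
        · intro m hm
          rw [Finset.mem_coe, Finset.mem_filter] at hm ⊢
          refine ⟨Finset.mem_univ _, ?_⟩
          have := hm.2
          rwa [hu] at this
      rw [h6, Finset.mul_sum]
      have h7 : ∀ x ∈ Finset.univ.filter (fun x : Om => f x = x), N * (N - 1) *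
          (Finset.univ.filter fun m : M => (m : Perm Om) u = x).card = (N - 1) * Fintype.card M := by
        intro x _
        rw [← card_one M h2 hcard u x, ← hN]
        ring
      rw [Finset.sum_congr rfl h7, Finset.sum_const, ← hnf, smul_eq_mul]
      ring
    · rw [if_neg hu]
      have h6 : (Finset.univ.filter fun m : M => f ((m : Perm Om) (f u)) = (m : Perm Om) u).card =
          ∑ x ∈ Finset.univ.filter (fun x : Om => ¬ f x = x),
            (Finset.univ.filter fun m : M => (m : Perm Om) (f u) = x ∧ (m : Perm Om) u = f x).card := by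
        rw [Finset.card_eq_sum_card_fiberwise (f := fun m : M => (m : Perm Om) (f u))
          (t := Finset.univ.filter (fun x : Om => ¬ f x = x))]
        · refine Finset.sum_congr rfl fun x hx => ?_
          congr 1
          ext m
          rw [Finset.mem_filter, Finset.mem_filter, Finset.mem_filter]
          constructor
          · rintro ⟨⟨-, h7⟩, h8⟩
            have h8' : (m : Perm Om) (f u) = x := h8
            exact ⟨Finset.mem_univ _, h8', by rw [← h7, h8']⟩
          · rintro ⟨-, h8, h9⟩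
            exact ⟨⟨Finset.mem_univ _, by rw [h8, h9]⟩, h8⟩
        · intro m hm
          rw [Finset.mem_coe, Finset.mem_filter] at hm ⊢
          refine ⟨Finset.mem_univ _, ?_⟩
          show ¬ f ((m : Perm Om) (f u)) = (m : Perm Om) (f u)
          rw [hm.2]
          intro h7
          exact hu ((m : Perm Om).injective h7).symm
      rw [h6, Finset.mul_sum]
      have h7 : ∀ x ∈ Finset.univ.filter (fun x : Om => ¬ f x = x), N * (N - 1) *
          (Finset.univ.filter fun m : M => (m : Perm Om) (f u) = x ∧ (m : Perm Om) u = f x).card = Fintype.card M := by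
        intro x hx
        rw [Finset.mem_filter] at hx
        rw [hN, card_two M h2 hu (fun h => hx.2 h.symm)]
      rw [Finset.sum_congr rfl h7, Finset.sum_const, hnf', smul_eq_mul]
      ring
  rw [h4, ← hN, Finset.mul_sum, Finset.sum_congr rfl fun u _ => h5 u, ← Finset.mul_sum, Finset.sum_ite, Finset.sum_const,
    Finset.sum_const, ← hnf, hnf', smul_eq_mul, smul_eq_mul]
  ring

end avg

theorem nf_modEq {Om : Type*} [Finite Om] {r : ℕ} [hr : Fact r.Prime] {z : Perm Om} (hz : PE r z) :
    Nat.card Om ≡ nf z [MOD r] := by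
  obtain ⟨k, hk⟩ := hz
  have h1 : IsPGroup r (Subgroup.zpowers z) := IsPGroup.of_card (n := k) (by rw [Nat.card_zpowers, hk])
  have h2 := h1.card_modEq_card_fixedPoints Om
  refine h2.trans ?_
  have e : MulAction.fixedPoints (Subgroup.zpowers z) Om ≃ {y // z y = y} := by
    refine Equiv.subtypeEquivRight fun y => ?_
    constructor
    · intro hy
      exact hy ⟨z, Subgroup.mem_zpowers z⟩
    · rintro hy ⟨_, n, rfl⟩
      have h3 : z ∈ MulAction.stabilizer (Perm Om) y := hy
      exact (Subgroup.zpow_mem _ h3 n : _)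
  rw [Nat.card_congr e]
  rfl

theorem pn_line (F : Type*) [Field F] [Finite F] {r : ℕ} [Fact r.Prime] (_hr2 : r ≠ 2) (h1 : ¬ r ∣ Nat.card F)
    (h2 : ¬ r ∣ Nat.card F + 1) : PN r (lineFam F) := by
  classical
  intro f hf hP
  rw [iSup_lineFam] at hP
  have hOm : Finite (Option F) := inferInstance
  have := Fintype.ofFinite (Option F)
  have := Fintype.ofFinite (psl2 F)
  obtain ⟨q, hq⟩ : ∃ q, q = Nat.card F := ⟨_, rfl⟩
  have hN : Nat.card (Option F) = q + 1 := by rw [hq, Finite.card_option]
  have hN' : Fintype.card (Option F) = q + 1 := by rw [← Nat.card_eq_fintype_card, hN]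
  have hq2 : 2 ≤ q := by rw [hq]; exact Finite.one_lt_card
  rw [← hq] at h1 h2
  have hge : ∀ m ∈ psl2 F, 2 ≤ nf (f * (m * f * m⁻¹)) := by
    intro m hm
    have h3 := nf_modEq (hP m hm)
    rw [hN] at h3
    by_contra hlt
    have h4 : nf (f * (m * f * m⁻¹)) = 0 ∨ nf (f * (m * f * m⁻¹)) = 1 := by omega
    rcases h4 with h4 | h4
    · rw [h4] at h3
      exact h2 ((Nat.modEq_zero_iff_dvd).1 h3)
    · rw [h4] at h3
      have h5 : q ≡ 0 [MOD r] := Nat.ModEq.add_right_cancel' 1 h3
      exact h1 ((Nat.modEq_zero_iff_dvd).1 h5)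
  have havg := avg (psl2 F) (fun u v x y huv hxy => two_trans huv hxy) (by rw [hN']; omega) f
  rw [hN', Nat.add_sub_cancel] at havg
  have hle : nf f ≤ q + 1 := by
    rw [← hN]
    exact Finite.card_subtype_le _
  have hM : 0 < Fintype.card (psl2 F) := Fintype.card_pos
  obtain ⟨M, hMM⟩ : ∃ M, M = Fintype.card (psl2 F) := ⟨_, rfl⟩
  obtain ⟨ph, hph⟩ : ∃ ph, ph = nf f := ⟨_, rfl⟩
  obtain ⟨S, hS⟩ : ∃ S, S = ∑ m : psl2 F, nf (f * ((m : Perm (Option F)) * f * (m : Perm (Option F))⁻¹)) := ⟨_, rfl⟩
  rw [← hMM, ← hph, ← hS] at havg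
  rw [← hph] at hle
  rw [← hMM] at hM
  have havgZ : ((q : ℤ) + 1) * (q * (S - 2 * M)) = ((q : ℤ) + 1) * (M * (((ph : ℤ) - 1) ^ 2 - q)) := by
    have h5 : (((q + 1) * q * S : ℕ) : ℤ) = ((M * (q * ph ^ 2 + (q + 1 - ph) ^ 2) : ℕ) : ℤ) := by rw [havg]
    push_cast [Nat.cast_sub hle] at h5
    linear_combination h5
  have havg2 : (q : ℤ) * (S - 2 * M) = M * (((ph : ℤ) - 1) ^ 2 - q) :=
    mul_left_cancel₀ (by positivity) havgZ
  have hSge : 2 * M ≤ S := by
    rw [hS, hMM, ← Finset.card_univ, mul_comm, ← smul_eq_mul, ← Finset.sum_const]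
    exact Finset.sum_le_sum fun m _ => hge m m.2
  have h6 : (q : ℤ) ≤ ((ph : ℤ) - 1) ^ 2 := by
    by_contra hlt
    push Not at hlt
    have h7 : (M : ℤ) * (((ph : ℤ) - 1) ^ 2 - q) < 0 := mul_neg_of_pos_of_neg (by exact_mod_cast hM) (by linarith)
    rw [← havg2] at h7
    have h8 : 0 ≤ (q : ℤ) * (S - 2 * M) := mul_nonneg (by positivity) (by
      have : (2 * M : ℤ) ≤ S := by exact_mod_cast hSge
      linarith)
    linarith
  have hph3 : 3 ≤ ph := by
    by_contra hlt
    have h7 : ph = 0 ∨ ph = 1 ∨ ph = 2 := by omega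
    have h8 : (2 : ℤ) ≤ q := by exact_mod_cast hq2
    rcases h7 with h7 | h7 | h7 <;> rw [h7] at h6 <;> norm_num at h6 <;> linarith
  -- strictness
  have hff : 3 ≤ nf (f * (((1 : psl2 F) : Perm (Option F)) * f * ((1 : psl2 F) : Perm (Option F))⁻¹)) := by
    refine hph3.trans ?_
    rw [hph]
    unfold nf
    refine Nat.card_le_card_of_injective (fun y : {y // f y = y} => ⟨y.1, ?_⟩) ?_
    · show f (f y.1) = y.1
      rw [y.2, y.2]
    · intro a b hab
      exact Subtype.ext (Subtype.mk.inj hab)
  have hSgt : 2 * M < S := by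
    rw [hS, hMM, ← Finset.card_univ, mul_comm, ← smul_eq_mul, ← Finset.sum_const]
    exact Finset.sum_lt_sum (fun m _ => hge m m.2) ⟨1, Finset.mem_univ _, hff⟩
  have h7 : (q : ℤ) < ((ph : ℤ) - 1) ^ 2 := by
    by_contra hlt
    push Not at hlt
    have h8 : (M : ℤ) * (((ph : ℤ) - 1) ^ 2 - q) ≤ 0 := mul_nonpos_of_nonneg_of_nonpos (by positivity) (by linarith)
    rw [← havg2] at h8
    have h9 : 0 < (q : ℤ) * (S - 2 * M) := mul_pos (by exact_mod_cast (by omega : 0 < q)) (by
      have : (2 * M : ℤ) < S := by exact_mod_cast hSgt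
      linarith)
    linarith
  obtain ⟨φ, hφ1, hφ2⟩ := three hf (by rw [← hph]; exact hph3)
  apply hφ1
  obtain ⟨k, hk⟩ : ∃ k, k = Nat.card {x // φ x = x} := ⟨_, rfl⟩
  rw [← hk, ← hph] at hφ2
  have hcard := FieldKill.card_fix φ
  rw [← hk, ← hq] at hcard
  rw [hφ2] at h7
  push_cast at h7
  rw [add_sub_cancel_right] at h7
  have h8 : q < k ^ 2 := by exact_mod_cast h7
  have hfin : Finite (F ≃+* F) := Finite.of_injective (fun e : F ≃+* F => (e : F → F)) DFunLike.coe_injective
  have hop := orderOf_pos φ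
  have hk2 : 1 < k := by
    by_contra hlt
    have : k = 0 ∨ k = 1 := by omega
    rcases this with h9 | h9 <;> rw [h9] at h8 <;> omega
  have hlt : orderOf φ < 2 := by
    rw [hcard] at h8
    exact (Nat.pow_lt_pow_iff_right hk2).1 h8
  exact orderOf_eq_one_iff.1 (by omega)

/-! ### a fixed point, `r ∣ q + 1` -/

/-- the maps `t ↦ c² t + b` -/
def KK (F : Type*) [Field F] : Subgroup (Perm (Option F)) where
  carrier := {g | g none = none ∧ ∃ c : F, c ≠ 0 ∧ ∃ b, ∀ t, g (some t) = some (c ^ 2 * t + b)}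
  one_mem' := ⟨rfl, 1, one_ne_zero, 0, fun t => by
    rw [one_pow, one_mul, add_zero]; rfl⟩
  mul_mem' := by
    rintro g g' ⟨h1, c, hc, b, h2⟩ ⟨h1', c', hc', b', h2'⟩
    refine ⟨by rw [Perm.mul_apply, h1', h1], c * c', mul_ne_zero hc hc', c ^ 2 * b' + b, fun t => ?_⟩
    rw [Perm.mul_apply, h2', h2]
    congr 1
    ring
  inv_mem' := by
    rintro g ⟨h1, c, hc, b, h2⟩
    refine ⟨Perm.inv_eq_iff_eq.2 h1.symm, c⁻¹, inv_ne_zero hc, -(b / c ^ 2), fun t => ?_⟩
    rw [Perm.inv_eq_iff_eq, h2]
    congr 1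
    field_simp
    ring

theorem mem_KK {g : Perm (Option F)} : g ∈ KK F ↔ g none = none ∧ ∃ c : F, c ≠ 0 ∧ ∃ b, ∀ t, g (some t) = some (c ^ 2 * t + b) :=
  Iff.rfl

theorem ext_perm {g g' : Perm (Option F)} (h0 : g none = g' none) (h : ∀ t, g (some t) = g' (some t)) : g = g' := by
  apply Equiv.ext
  rintro (_ | t)
  · exact h0
  · exact h t

theorem tr_mem_KK (b : F) : tr b ∈ KK F := ⟨rfl, 1, one_ne_zero, b, fun t => by rw [tr_some, one_pow, one_mul]⟩

theorem KK_le : KK F ≤ psl2 F := by
  rintro g ⟨h1, c, hc, b, h2⟩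
  have h3 : g = tr (b + c) * (ni * tr c⁻¹ * ni * tr c * ni) := by
    refine ext_perm ?_ fun t => ?_
    · rw [h1, Perm.mul_apply, dil_none hc, tr_none]
    · rw [h2, Perm.mul_apply, dil_some hc, tr_some]
      congr 1
      ring
  rw [h3]
  exact mul_mem (tr_mem _) (mul_mem (mul_mem (mul_mem (mul_mem ni_mem (tr_mem _)) ni_mem) (tr_mem _)) ni_mem)

theorem exists_affine [Finite F] {f : Perm (Option F)} (hf : f ∈ famStab (lineFam F)) (h0 : f none = none) :
    ∃ (l : F) (φ : F ≃+* F) (b : F), l ≠ 0 ∧ ∀ t, f (some t) = some (l * φ t + b) := by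
  have h1 : f (some 0) ≠ none := by
    intro h
    exact Option.some_ne_none _ (f.injective (h.trans h0.symm))
  obtain ⟨b, hb⟩ := Option.ne_none_iff_exists'.mp h1
  obtain ⟨l, φ, hl, h2⟩ := exists_semi (c := tr (-b) * f) (mul_mem (tr_mem_famStab _) hf)
    (by rw [Perm.mul_apply, h0, tr_none]) (by rw [Perm.mul_apply, hb, tr_some, add_neg_cancel])
  refine ⟨l, φ, b, hl, fun t => ?_⟩
  have h3 := h2 t
  rw [Perm.mul_apply] at h3
  have h4 : f (some t) = (tr (-b))⁻¹ (some (l * φ t)) := by
    rw [eq_comm, Perm.inv_eq_iff_eq, h3]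
  rw [h4, inv_tr, neg_neg, tr_some]

theorem conj_KK [Finite F] {f : Perm (Option F)} (hf : f ∈ famStab (lineFam F)) (h0 : f none = none) {k : Perm (Option F)}
    (hk : k ∈ KK F) : f * k * f⁻¹ ∈ KK F := by
  obtain ⟨l, φ, b0, hl, h2⟩ := exists_affine hf h0
  obtain ⟨h1, c, hc, b, h3⟩ := hk
  refine ⟨?_, φ c, (map_ne_zero φ).2 hc, l * φ b + b0 - φ c ^ 2 * b0, fun t => ?_⟩
  · have h4 : f⁻¹ none = none := Perm.inv_eq_iff_eq.2 h0.symm
    rw [Perm.mul_apply, Perm.mul_apply, h4, h1, h0]
  · obtain ⟨u, hu⟩ : ∃ u, f (some u) = some t := by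
      obtain ⟨y, hy⟩ := f.surjective (some t)
      rcases y with _ | u
      · rw [h0] at hy
        exact absurd hy.symm (Option.some_ne_none _)
      · exact ⟨u, hy⟩
    have h4 : f⁻¹ (some t) = some u := Perm.inv_eq_iff_eq.2 hu.symm
    rw [Perm.mul_apply, Perm.mul_apply, h4, h3, h2]
    rw [h2] at hu
    have h5 := Option.some_injective _ hu
    rw [← h5, map_add, map_mul, map_pow]
    congr 1
    ring

theorem not_dvd_KK [Finite F] {r : ℕ} [hr : Fact r.Prime] (h1 : ¬ r ∣ Nat.card F) (h2 : ¬ r ∣ Nat.card F - 1) :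
    ¬ r ∣ Nat.card (KK F) := by
  intro hdvd
  obtain ⟨⟨k, hk⟩, hord⟩ := exists_prime_orderOf_dvd_card' r hdvd
  rw [Subgroup.orderOf_mk] at hord
  obtain ⟨h0, c, hc, b, hcb⟩ := hk
  have hpow : ∀ n : ℕ, ∃ b', ∀ t, (k ^ n) (some t) = some ((c ^ 2) ^ n * t + b') := by
    intro n
    induction n with
    | zero => exact ⟨0, fun t => by rw [pow_zero, pow_zero, one_mul, add_zero]; rfl⟩
    | succ n ih =>
      obtain ⟨b', hb'⟩ := ih
      refine ⟨c ^ 2 * b' + b, fun t => ?_⟩
      rw [pow_succ', Perm.mul_apply, hb', hcb]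
      congr 1
      ring
  have hkr : k ^ r = 1 := by rw [← hord, pow_orderOf_eq_one]
  obtain ⟨b', hb'⟩ := hpow r
  rw [hkr] at hb'
  have e0 := Option.some_injective _ (hb' 0)
  have e1 := Option.some_injective _ (hb' 1)
  have hcr : (c ^ 2) ^ r = 1 := by linear_combination e0 - e1
  have := Fintype.ofFinite F
  have hcq : (c ^ 2) ^ (Nat.card F - 1) = 1 := by
    rw [Nat.card_eq_fintype_card]
    exact FiniteField.pow_card_sub_one_eq_one _ (pow_ne_zero _ hc)
  have hc1 : c ^ 2 = 1 := by
    rw [← orderOf_eq_one_iff, ← Nat.dvd_one]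
    have h3 : Nat.Coprime r (Nat.card F - 1) := (Nat.Prime.coprime_iff_not_dvd hr.out).2 h2
    rw [← h3]
    exact Nat.dvd_gcd (orderOf_dvd_of_pow_eq_one hcr) (orderOf_dvd_of_pow_eq_one hcq)
  have hktr : k = tr b := ext_perm (by rw [h0, tr_none]) fun t => by rw [hcb, hc1, one_mul, tr_some]
  have htrpow : ∀ n : ℕ, (tr b : Perm (Option F)) ^ n = tr ((n : F) * b) := by
    intro n
    induction n with
    | zero => rw [pow_zero, Nat.cast_zero, zero_mul, tr_zero]
    | succ n ih => rw [pow_succ, ih, tr_mul, Nat.cast_succ, add_mul, one_mul]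
  have h4 := htrpow r
  rw [← hktr, hkr] at h4
  have h5 : (some 0 : Option F) = some (0 + (r : F) * b) := congrArg (fun g : Perm (Option F) => g (some 0)) h4
  have h6 : (r : F) * b = 0 := by
    have := Option.some_injective _ h5
    rw [zero_add] at this
    exact this.symm
  have hrF : (r : F) ≠ 0 := by
    intro h7
    obtain ⟨s, hs⟩ := CharP.exists F
    have hsp : s.Prime := CharP.char_is_prime F s
    have h8 : s ∣ r := (CharP.cast_eq_zero_iff F s r).1 h7
    have h9 : s = r := (Nat.prime_dvd_prime_iff_eq hsp hr.out).1 h8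
    subst h9
    obtain ⟨n, -, hn⟩ := FiniteField.card F s
    apply h1
    rw [Nat.card_eq_fintype_card, hn]
    exact dvd_pow_self s n.ne_zero
  have hb : b = 0 := (mul_eq_zero.1 h6).resolve_left hrF
  rw [hb, tr_zero] at hktr
  rw [hktr, orderOf_one] at hord
  exact hr.out.one_lt.ne hord

/-- the case `f ∞ = ∞`, `r ∣ q + 1` -/
theorem fix_case [Finite F] {r : ℕ} [hr : Fact r.Prime] (hr2 : r ≠ 2) (h1 : ¬ r ∣ Nat.card F) (h2 : r ∣ Nat.card F + 1)
    (hF : Nat.card F ≠ 2) {f : Perm (Option F)} (hf : f ∈ famStab (lineFam F)) (h0 : f none = none)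
    (hP : ∀ m ∈ psl2 F, PE r (f * (m * f * m⁻¹))) : f = 1 := by
  classical
  have hq1 : 1 < Nat.card F := Finite.one_lt_card
  have h3 : ¬ r ∣ Nat.card F - 1 := by
    intro h4
    have h5 : r ∣ 2 := by
      have h6 := Nat.dvd_sub h2 h4
      have h7 : Nat.card F + 1 - (Nat.card F - 1) = 2 := by omega
      rwa [h7] at h6
    exact hr2 ((Nat.prime_dvd_prime_iff_eq hr.out Nat.prime_two).1 h5)
  have hK := not_dvd_KK h1 h3
  have hfK : ∀ k, f * k * f⁻¹ ∈ KK F ↔ k ∈ KK F := by
    intro k
    refine ⟨fun h => ?_, conj_KK hf h0⟩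
    have h4 := conj_KK (inv_mem hf) (Perm.inv_eq_iff_eq.2 h0.symm) h
    have h5 : f⁻¹ * (f * k * f⁻¹) * f⁻¹⁻¹ = k := by group
    rwa [h5] at h4
  have hPK : ∀ k ∈ KK F, PE r (f * (k * f * k⁻¹)) := fun k hk => hP k (KK_le hk)
  obtain ⟨l, φ, b0, hl, hfl⟩ := exists_affine hf h0
  have hftr : ∀ x, f * tr x = tr (l * φ x) * f := by
    intro x
    refine ext_perm ?_ fun t => ?_
    · rw [Perm.mul_apply, tr_none, Perm.mul_apply, h0, tr_none]
    · rw [Perm.mul_apply, tr_some, hfl, Perm.mul_apply, hfl, tr_some, map_add]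
      congr 1
      ring
  -- three fixed points of `f²`
  have hff : PE r (f * f) := by
    have := hP 1 (one_mem _)
    simpa using this
  have hmod := nf_modEq hff
  rw [Finite.card_option] at hmod
  have hff0 : (f * f) none = none := by rw [Perm.mul_apply, h0, h0]
  have hnf : 3 ≤ nf (f * f) := by
    have h4 : r ∣ nf (f * f) := (Nat.modEq_zero_iff_dvd).1 (hmod.symm.trans ((Nat.modEq_zero_iff_dvd).2 h2))
    have h5 : 0 < nf (f * f) := by
      unfold nf
      have : Nonempty {y // (f * f) y = y} := ⟨⟨none, hff0⟩⟩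
      exact Nat.card_pos
    have h6 := Nat.le_of_dvd h5 h4
    have h7 := hr.out.two_le
    omega
  have hOm := Fintype.ofFinite (Option F)
  obtain ⟨s0, s1, hs01, hs0, hs1⟩ : ∃ s0 s1 : F, s0 ≠ s1 ∧ (f * f) (some s0) = some s0 ∧ (f * f) (some s1) = some s1 := by
    unfold nf at hnf
    rw [Nat.card_eq_fintype_card] at hnf
    have h4 : ∀ S : Finset {y // (f * f) y = y}, S.card ≤ 2 → ∃ y, y ∉ S := by
      intro S hS
      by_contra hc
      push Not at hc
      have h5 : S = Finset.univ := Finset.eq_univ_iff_forall.2 hc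
      rw [h5, Finset.card_univ] at hS
      omega
    obtain ⟨y, hy⟩ := h4 {⟨none, hff0⟩} (by rw [Finset.card_singleton]; omega)
    obtain ⟨z, hz⟩ := h4 {⟨none, hff0⟩, y} Finset.card_le_two
    rw [Finset.mem_singleton] at hy
    rw [Finset.mem_insert, Finset.mem_singleton, not_or] at hz
    obtain ⟨y, hy'⟩ := y
    obtain ⟨z, hz'⟩ := z
    rcases y with _ | s0
    · exact absurd rfl hy
    rcases z with _ | s1
    · exact absurd rfl hz.1
    refine ⟨s0, s1, ?_, hy', hz'⟩
    rintro rfl
    exact hz.2 rfl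
  obtain ⟨a, ha⟩ : ∃ a, a = s1 - s0 := ⟨_, rfl⟩
  have ha0 : a ≠ 0 := by rw [ha]; exact sub_ne_zero.2 hs01.symm
  have hlla : l * φ (l * φ a) = a := by
    rw [Perm.mul_apply, hfl, hfl] at hs0 hs1
    have e0 := Option.some_injective _ hs0
    have e1 := Option.some_injective _ hs1
    rw [ha]
    simp only [map_add, map_mul, map_sub] at e0 e1 ⊢
    linear_combination e1 - e0
  have hcomm2 : tr a * (f * f) = f * f * tr a := by
    symm
    calc f * f * tr a = f * (f * tr a) := mul_assoc _ _ _
      _ = (f * tr (l * φ a)) * f := by rw [hftr, mul_assoc]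
      _ = tr a * (f * f) := by rw [hftr, hlla, mul_assoc]
  have hcomm := comm_of_sq hK hfK hPK (tr_mem_KK a) hcomm2
  -- `[K, f] = 1`
  have hNN : ∀ n ∈ NN hK hfK hPK, n = 1 := by
    intro n hn
    by_contra hn1
    -- a translation in `NN`
    obtain ⟨b, hb0, hbN⟩ : ∃ b : F, b ≠ 0 ∧ tr b ∈ NN hK hfK hPK := by
      obtain ⟨hn0, c, hc, b, hcb⟩ := NN_le hK hfK hPK hn
      by_cases hc1 : c ^ 2 = 1
      · refine ⟨b, ?_, ?_⟩
        · rintro rfl
          apply hn1
          refine ext_perm hn0 fun t => ?_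
          rw [hcb, hc1, one_mul, add_zero]; rfl
        · have h4 : n = tr b := ext_perm (by rw [hn0, tr_none]) fun t => by rw [hcb, hc1, one_mul, tr_some]
          rwa [← h4]
      · refine ⟨(1 - c ^ 2) / c ^ 2, div_ne_zero (sub_ne_zero.2 (Ne.symm hc1)) (pow_ne_zero _ hc), ?_⟩
        have h4 := mul_mem (inv_mem hn) (NN_conj hK hfK hPK (tr_mem_KK 1) hn)
        have h5 : n * tr ((1 - c ^ 2) / c ^ 2) = tr 1 * n * (tr 1)⁻¹ := by
          rw [inv_tr]
          refine ext_perm ?_ fun t => ?_
          · rw [Perm.mul_apply, Perm.mul_apply, Perm.mul_apply, tr_none, tr_none, hn0, tr_none]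
          · rw [Perm.mul_apply, Perm.mul_apply, Perm.mul_apply, tr_some, tr_some, hcb, hcb, tr_some]
            congr 1
            field_simp
            ring
        rw [← h5, inv_mul_cancel_left] at h4
        exact h4
    -- all translations
    have hall : ∀ y : F, tr (y * b) ∈ NN hK hfK hPK := by
      intro y
      let S : AddSubgroup F :=
        { carrier := {y | tr (y * b) ∈ NN hK hfK hPK}
          add_mem' := by
            intro x y (hx : tr (x * b) ∈ NN hK hfK hPK) (hy : tr (y * b) ∈ NN hK hfK hPK)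
            show tr ((x + y) * b) ∈ NN hK hfK hPK
            rw [add_mul, ← tr_mul]
            exact mul_mem hx hy
          zero_mem' := by
            show tr (0 * b) ∈ NN hK hfK hPK
            rw [zero_mul, tr_zero]
            exact one_mem _
          neg_mem' := by
            intro x (hx : tr (x * b) ∈ NN hK hfK hPK)
            show tr (-x * b) ∈ NN hK hfK hPK
            rw [neg_mul, ← inv_tr]
            exact inv_mem hx }
      refine eq_top_of_sq (S := S) (fun c => ?_) y
      show tr (c ^ 2 * b) ∈ NN hK hfK hPK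
      by_cases hc : c = 0
      · rw [hc, pow_two, zero_mul, zero_mul, tr_zero]
        exact one_mem _
      · rw [← dil_conj hc]
        refine NN_conj hK hfK hPK ?_ hbN
        exact ⟨dil_none hc, c, hc, -c, fun t => by rw [dil_some hc, sub_eq_add_neg]⟩
    have h4 := hall (a / b)
    rw [div_mul_cancel₀ _ hb0] at h4
    have h5 := eq_one_of_comm hK hfK hPK h4 hcomm
    have h6 : (some (0 + a) : Option F) = some 0 := congrArg (fun g : Perm (Option F) => g (some 0)) h5
    exact ha0 (by
      have := Option.some_injective _ h6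
      rwa [zero_add] at this)
  have hfc : ∀ k ∈ KK F, k * f = f * k := by
    intro k hk
    have h4 := hNN _ (comm_mem hK hfK hPK hk)
    have h5 : f⁻¹ * k * f * k⁻¹ = 1 := h4
    calc k * f = f * (f⁻¹ * k * f * k⁻¹) * k := by group
      _ = f * k := by rw [h5, mul_one]
  -- `f` is a translation
  have hf0 : f (some 0) = some b0 := by rw [hfl, map_zero, mul_zero, zero_add]
  have hftb : f = tr b0 := by
    refine ext_perm (by rw [h0, tr_none]) fun t => ?_
    have h4 : tr t (f (some 0)) = f (tr t (some 0)) := congrArg (fun g : Perm (Option F) => g (some 0)) (hfc _ (tr_mem_KK t))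
    rw [tr_some, zero_add, hf0, tr_some] at h4
    rw [← h4, tr_some, add_comm]
  have hb0 : b0 = 0 := by
    by_cases h22 : (2 : F) = 0
    · -- characteristic two
      obtain ⟨c, hc0, hc1⟩ : ∃ c : F, c ≠ 0 ∧ c ≠ 1 := by
        by_contra hcon
        push Not at hcon
        have := Fintype.ofFinite F
        have h4 : (Finset.univ : Finset F) ⊆ {0, 1} := by
          intro x _
          rw [Finset.mem_insert, Finset.mem_singleton]
          by_cases hx : x = 0
          · exact Or.inl hx
          · exact Or.inr (hcon x hx)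
        have h5 := Finset.card_le_card h4
        rw [Finset.card_univ, ← Nat.card_eq_fintype_card] at h5
        have h6 : ({0, 1} : Finset F).card ≤ 2 := Finset.card_le_two
        omega
      have hc2 : c ^ 2 ≠ 1 := by
        intro h4
        apply hc1
        have h5 : (c - 1) ^ 2 = 0 := by linear_combination h4 + (1 - c) * h22
        exact sub_eq_zero.1 (pow_eq_zero_iff (two_ne_zero) |>.1 h5)
      obtain ⟨g, hg⟩ : ∃ g : Perm (Option F), g = tr c * (ni * tr c⁻¹ * ni * tr c * ni) := ⟨_, rfl⟩
      have hgt : ∀ t, g (some t) = some (c ^ 2 * t) := by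
        intro t
        rw [hg, Perm.mul_apply, dil_some hc0, tr_some, sub_add_cancel]
      have hgK : g ∈ KK F := by
        refine ⟨?_, c, hc0, 0, fun t => by rw [hgt, add_zero]⟩
        rw [hg, Perm.mul_apply, dil_none hc0, tr_none]
      have h4 : g (f (some 0)) = f (g (some 0)) := congrArg (fun g : Perm (Option F) => g (some 0)) (hfc g hgK)
      rw [hf0, hgt, hgt, mul_zero, hf0] at h4
      have h5 := Option.some_injective _ h4
      have h6 : (c ^ 2 - 1) * b0 = 0 := by linear_combination h5
      exact (mul_eq_zero.1 h6).resolve_left (sub_ne_zero.2 hc2)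
    · obtain ⟨n, hn⟩ := PE.pow_eq_one_iff.1 hff
      have htrpow : ∀ (x : F) (n : ℕ), (tr x : Perm (Option F)) ^ n = tr ((n : F) * x) := by
        intro x n
        induction n with
        | zero => rw [pow_zero, Nat.cast_zero, zero_mul, tr_zero]
        | succ n ih => rw [pow_succ, ih, tr_mul, Nat.cast_succ, add_mul, one_mul]
      rw [hftb, tr_mul, htrpow] at hn
      have h5 : (some (0 + ((r ^ n : ℕ) : F) * (b0 + b0)) : Option F) = some 0 := congrArg (fun g : Perm (Option F) => g (some 0)) hn
      have h6 : ((r ^ n : ℕ) : F) * (b0 + b0) = 0 := by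
        have := Option.some_injective _ h5
        rwa [zero_add] at this
      have hrF : (r : F) ≠ 0 := by
        intro h7
        obtain ⟨s, hs⟩ := CharP.exists F
        have hsp : s.Prime := CharP.char_is_prime F s
        have h8 : s ∣ r := (CharP.cast_eq_zero_iff F s r).1 h7
        have h9 : s = r := (Nat.prime_dvd_prime_iff_eq hsp hr.out).1 h8
        subst h9
        have := Fintype.ofFinite F
        obtain ⟨n, -, hn⟩ := FiniteField.card F s
        apply h1
        rw [Nat.card_eq_fintype_card, hn]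
        exact dvd_pow_self s n.ne_zero
      have h7 : b0 + b0 = 0 := by
        refine (mul_eq_zero.1 h6).resolve_left ?_
        rw [Nat.cast_pow]
        exact pow_ne_zero _ hrF
      have h8 : 2 * b0 = 0 := by linear_combination h7
      exact (mul_eq_zero.1 h8).resolve_left h22
  rw [hftb, hb0, tr_zero]

theorem pf_line (F : Type*) [Field F] [Finite F] {r : ℕ} [Fact r.Prime] (hr2 : r ≠ 2) (h1 : ¬ r ∣ Nat.card F)
    (hF : Nat.card F ≠ 2) : PF r (lineFam F) := by
  by_cases h2 : r ∣ Nat.card F + 1
  · intro f hf hy hP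
    obtain ⟨y, hy⟩ := hy
    rw [iSup_lineFam] at hP
    obtain ⟨g, hg⟩ : ∃ g, g = toPt y := ⟨_, rfl⟩
    have hgm : g ∈ psl2 F := by rw [hg]; exact toPt_mem y
    have hgy : g none = y := by rw [hg]; exact toPt_apply y
    have hgS := psl2_le_famStab hgm
    have h3 : g⁻¹ * f * g = 1 := by
      refine fix_case hr2 h1 h2 hF (mul_mem (mul_mem (inv_mem hgS) hf) hgS) ?_ ?_
      · rw [Perm.mul_apply, Perm.mul_apply, hgy, hy, Perm.inv_eq_iff_eq, hgy]
      · intro m hm
        have h4 := (hP (g * m * g⁻¹) (mul_mem (mul_mem hgm hm) (inv_mem hgm))).conj g⁻¹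
        have h5 : g⁻¹ * (f * (g * m * g⁻¹ * f * (g * m * g⁻¹)⁻¹)) * g⁻¹⁻¹ =
            g⁻¹ * f * g * (m * (g⁻¹ * f * g) * m⁻¹) := by group
        rwa [h5] at h4
    calc f = g * (g⁻¹ * f * g) * g⁻¹ := by group
      _ = 1 := by rw [h3]; group
  · exact (pn_line F hr2 h1 h2).pf

theorem px_line (F : Type*) [Field F] [Finite F] {r : ℕ} [Fact r.Prime] (hr2 : r ≠ 2) (h1 : ¬ r ∣ Nat.card F) :
    PX r (lineFam F) := by
  by_cases hF : Nat.card F = 2
  · intro f _ hr ⟨y, hy⟩ _
    classical
    have hOm : Nat.card (Option F) = 3 := by rw [Finite.card_option, hF]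
    have hmod := nf_modEq hr
    -- `f` fixes `y` and permutes the two other points
    have hff : f * f = 1 := by
      have := Fintype.ofFinite (Option F)
      rw [Nat.card_eq_fintype_card] at hOm
      apply Equiv.ext
      intro z
      show f (f z) = z
      by_cases hz : z = y
      · rw [hz, hy, hy]
      by_contra hne
      have h3 : f z ≠ y := fun h => hz (f.injective (h.trans hy.symm))
      have h4 : f (f z) ≠ y := fun h => h3 (f.injective (h.trans hy.symm))
      have h5 : f z ≠ z := by
        intro h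
        rw [h, h] at hne
        exact hne rfl
      have h6 : f (f z) ≠ f z := fun h => h5 (f.injective h)
      have h7 : ({y, z, f z, f (f z)} : Finset (Option F)).card ≤ 3 := by
        rw [← hOm]; exact Finset.card_le_univ _
      rw [Finset.card_insert_of_notMem, Finset.card_insert_of_notMem, Finset.card_insert_of_notMem,
        Finset.card_singleton] at h7
      · omega
      · rw [Finset.mem_singleton]; exact h6.symm
      · rw [Finset.mem_insert, Finset.mem_singleton, not_or]; exact ⟨h5.symm, fun h => hne h.symm⟩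
      · rw [Finset.mem_insert, Finset.mem_insert, Finset.mem_singleton, not_or, not_or]
        exact ⟨fun h => hz h.symm, h3.symm, h4.symm⟩
    refine hr.eq_one fun h3 => hr2 ?_
    have h4 : orderOf f ∣ 2 := orderOf_dvd_of_pow_eq_one (by rw [pow_two, hff])
    exact (Nat.prime_dvd_prime_iff_eq Fact.out Nat.prime_two).1 (h3.trans h4)
  · exact (pf_line F hr2 h1 hF).px

end Cfsg.Agent.H458.PanF
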