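import Mathlib
import Cfsg.Agent.H903.SylSemi
import Cfsg.Agent.H903.SylRegStmt

/-!
# Separation of `p`-groups of semisimilarities by transvections (helper458, for S5762)

`h` is a non-degenerate `σ`-sesquilinear form on `E` with `h y x = ε σ (h x y)`, `v` an isotropic vector,
`T c : x ↦ x + c h(x,v) v`. `core`: if `v` is regular for the linear isometries in the `p`-group `Γ` of semisimilarities and
avoids the small commutator spaces, then some `T c`, `σ c + ε c = 0`, separates `Γ` (given the field kill).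
-/

set_option autoImplicit false
set_option linter.unusedSectionVars false

namespace Cfsg.Agent.H458.SepCore

open Cfsg.Agent.H903.SylSemi Cfsg.Agent.H903.SylReg

variable {F E : Type*} [Field F] [AddCommGroup E] [Module F E]

/-- non-degenerate `σ`-sesquilinear `ε`-hermitian form -/
structure Herm (σ : F ≃+* F) (ε : F) (h : E → E → F) : Prop where
  sig : ∀ a, σ (σ a) = a
  add : ∀ x y z, h (x + y) z = h x z + h y z
  smul : ∀ a x y, h (a • x) y = a * h x y
  herm : ∀ x y, h y x = ε * σ (h x y)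
  nd : ∀ x, (∀ y, h x y = 0) → x = 0

namespace Herm

variable {σ : F ≃+* F} {ε : F} {h : E → E → F} (H : Herm σ ε h)

include H

theorem add' (x y z : E) : h x (y + z) = h x y + h x z := by
  rw [H.herm (y + z) x, H.herm y x, H.herm z x, H.add, map_add, mul_add]

theorem smul' (a : F) (x y : E) : h x (a • y) = σ a * h x y := by
  rw [H.herm (a • y) x, H.herm y x, H.smul, map_mul]
  ring

theorem zero' (x : E) : h x 0 = 0 := by
  have := H.smul' 0 x 0
  rwa [zero_smul, map_zero, zero_mul] at this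

theorem exists_ne {v : E} (hv : v ≠ 0) : ∃ x, h x v ≠ 0 := by
  by_contra hc
  push Not at hc
  apply hv
  apply H.nd
  intro y
  rw [H.herm y v, hc, map_zero, mul_zero]

/-- the functional `h(·, v)` -/
def fn (v : E) : E →ₗ[F] F where
  toFun x := h x v
  map_add' x y := H.add x y v
  map_smul' a x := H.smul a x v

theorem fn_apply (v x : E) : H.fn v x = h x v := rfl

/-- the transvection -/
def T {v : E} (hv : h v v = 0) (c : F) : E ≃ₗ[F] E where
  toFun x := x + (c * h x v) • v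
  invFun x := x + (-c * h x v) • v
  map_add' x y := by
    rw [H.add, mul_add, add_smul]
    abel
  map_smul' a x := by
    rw [H.smul, smul_add, smul_smul, RingHom.id_apply]
    congr 2
    ring
  left_inv x := by
    show x + (c * h x v) • v + (-c * h (x + (c * h x v) • v) v) • v = x
    rw [H.add, H.smul, hv, mul_zero, add_zero, add_assoc, ← add_smul]
    rw [show c * h x v + -c * h x v = 0 by ring, zero_smul, add_zero]
  right_inv x := by
    show x + (-c * h x v) • v + (c * h (x + (-c * h x v) • v) v) • v = x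
    rw [H.add, H.smul, hv, mul_zero, add_zero, add_assoc, ← add_smul]
    rw [show -c * h x v + c * h x v = 0 by ring, zero_smul, add_zero]

theorem T_apply {v : E} (hv : h v v = 0) (c : F) (x : E) : H.T hv c x = x + (c * h x v) • v := rfl

theorem T_inv {v : E} (hv : h v v = 0) (c : F) (x : E) : (H.T hv c)⁻¹ x = x + (-c * h x v) • v := rfl

theorem T_iso {v : E} (hv : h v v = 0) {c : F} (hc : σ c + ε * c = 0) (x y : E) :
    h (H.T hv c x) (H.T hv c y) = h x y := by
  rw [T_apply, T_apply, H.add, H.smul, H.add', H.add', H.smul', H.smul', hv, mul_zero, add_zero, H.herm y v, map_mul]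
  have h1 : h v y = ε * σ (h y v) := H.herm y v
  have h2 : h x v * σ (h y v) * (σ c + ε * c) = 0 := by rw [hc, mul_zero]
  rw [← H.herm y v, h1]
  linear_combination h2

end Herm

/-- semisimilarity -/
def SS (h : E → E → F) (y : Equiv.Perm E) (θ : F ≃+* F) (τ : F) : Prop :=
  τ ≠ 0 ∧ Semi F y θ ∧ ∀ u w, h (y u) (y w) = τ * θ (h u w)

section ss

variable {h : E → E → F}

theorem SS.mul {y y' : Equiv.Perm E} {θ θ' : F ≃+* F} {τ τ' : F} (H : SS h y θ τ) (H' : SS h y' θ' τ') :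
    SS h (y * y') (θ * θ') (τ * θ τ') := by
  obtain ⟨h1, ⟨h2, h3⟩, h4⟩ := H
  obtain ⟨h1', ⟨h2', h3'⟩, h4'⟩ := H'
  refine ⟨mul_ne_zero h1 ((map_ne_zero θ).2 h1'), ⟨fun u w => ?_, fun a w => ?_⟩, fun u w => ?_⟩
  · rw [Equiv.Perm.mul_apply, h2', h2]; rfl
  · rw [Equiv.Perm.mul_apply, h3', h3]; rfl
  · rw [Equiv.Perm.mul_apply, Equiv.Perm.mul_apply, h4, h4', map_mul, mul_assoc]; rfl

theorem SS.one : SS h (1 : Equiv.Perm E) (1 : F ≃+* F) 1 :=
  ⟨one_ne_zero, ⟨fun _ _ => rfl, fun _ _ => rfl⟩, fun _ _ => (one_mul _).symm⟩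

theorem SS.pow {y : Equiv.Perm E} {θ : F ≃+* F} {τ : F} (H : SS h y θ τ) (n : ℕ) : ∃ τ', SS h (y ^ n) (θ ^ n) τ' := by
  induction n with
  | zero => exact ⟨1, SS.one⟩
  | succ n ih =>
    obtain ⟨τ', h'⟩ := ih
    rw [pow_succ, pow_succ]
    exact ⟨_, h'.mul H⟩

/-- the companion is determined -/
theorem Semi.unique {y : Equiv.Perm E} {θ θ' : F ≃+* F} {v : E} (hv : v ≠ 0) (H : Semi F y θ) (H' : Semi F y θ') : θ = θ' := by
  have h0 : y 0 = 0 := by
    have := H.1 0 0
    rwa [add_zero, left_eq_add] at this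
  have hyv : y v ≠ 0 := fun h1 => hv (y.injective (h1.trans h0.symm))
  refine RingEquiv.ext fun a => ?_
  have h1 := H.2 a v
  rw [H'.2 a v] at h1
  exact (smul_left_injective F hyv h1).symm

end ss

section main

variable {σ : F ≃+* F} {ε : F} {h : E → E → F} (H : Herm σ ε h) {v : E} (hv0 : v ≠ 0) (hvv : h v v = 0)

include H

/-- conjugation of the transvections by a semisimilarity -/
theorem conj_T {y : Equiv.Perm E} {θ : F ≃+* F} {τ : F} (hy : SS h y θ τ) (hvv' : h (y v) (y v) = 0) (c : F) (x : E) :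
    y (H.T hvv c x) = H.T hvv' (θ c / τ) (y x) := by
  obtain ⟨h1, ⟨h2, h3⟩, h4⟩ := hy
  rw [H.T_apply, H.T_apply, h2, h3, h4, map_mul]
  congr 2
  field_simp

include hvv in
theorem iso_conj {y : Equiv.Perm E} {θ : F ≃+* F} {τ : F} (hy : SS h y θ τ) (hvv' : h (y v) (y v) = 0) {c : F}
    (hc : σ c + ε * c = 0) (x x' : E) : h (H.T hvv' (θ c / τ) x) (H.T hvv' (θ c / τ) x') = h x x' := by
  obtain ⟨u, rfl⟩ := y.surjective x
  obtain ⟨u', rfl⟩ := y.surjective x'
  rw [← conj_T H hvv hy, ← conj_T H hvv hy, hy.2.2, H.T_iso hvv hc, hy.2.2]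

include hv0 in
/-- commuting with a transvection -/
theorem of_comm {y : Equiv.Perm E} {θ : F ≃+* F} {τ : F} (hy : SS h y θ τ) {c : F} (hc : c ≠ 0)
    (hcom : ∀ x, y (H.T hvv c x) = H.T hvv c (y x)) : ∃ l : F, l ≠ 0 ∧ y v = l • v ∧ θ c * (l * σ l) = c * τ := by
  obtain ⟨h1, ⟨h2, h3⟩, h4⟩ := hy
  have h0 : y 0 = 0 := by
    have := h2 0 0
    rwa [add_zero, left_eq_add] at this
  have hyv : y v ≠ 0 := fun h1 => hv0 (y.injective (h1.trans h0.symm))
  have hcom' : ∀ x, (θ c * θ (h x v)) • y v = (c * h (y x) v) • v := by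
    intro x
    have h5 := hcom x
    rw [H.T_apply, H.T_apply, h2, h3, map_mul] at h5
    exact add_left_cancel h5
  obtain ⟨x, hx⟩ := H.exists_ne hv0
  have hθc : θ c ≠ 0 := (map_ne_zero θ).2 hc
  have hθx : θ (h x v) ≠ 0 := (map_ne_zero θ).2 hx
  obtain ⟨l, hl⟩ : ∃ l, l = (θ c * θ (h x v))⁻¹ * (c * h (y x) v) := ⟨_, rfl⟩
  have hlv : y v = l • v := by
    rw [hl, mul_smul, ← hcom' x, smul_smul, inv_mul_cancel₀ (mul_ne_zero hθc hθx), one_smul]
  have hl0 : l ≠ 0 := by
    rintro rfl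
    rw [zero_smul] at hlv
    exact hyv hlv
  refine ⟨l, hl0, hlv, ?_⟩
  have hσl : σ l ≠ 0 := (map_ne_zero σ).2 hl0
  have h5 : σ l * h (y x) v = τ * θ (h x v) := by
    rw [← H.smul', ← hlv, h4]
  have h6 := hcom' x
  rw [hlv, smul_smul] at h6
  have h7 : θ c * θ (h x v) * l = c * h (y x) v := smul_left_injective F hv0 h6
  have h8 : θ (h x v) * (θ c * (l * σ l)) = θ (h x v) * (c * τ) := by
    calc θ (h x v) * (θ c * (l * σ l)) = (θ c * θ (h x v) * l) * σ l := by ring
      _ = c * (σ l * h (y x) v) := by rw [h7]; ring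
      _ = θ (h x v) * (c * τ) := by rw [h5]; ring
  exact mul_left_cancel₀ hθx h8

include hv0 in
theorem mem_span_of {w : E} (hw : w ≠ 0) (hvw : ∀ x, h x w = 0 → h x v = 0) : ∃ l : F, w = l • v := by
  obtain ⟨x0, hx0⟩ := H.exists_ne hw
  obtain ⟨μ, hμ⟩ : ∃ μ, μ = h x0 v / h x0 w := ⟨_, rfl⟩
  have h1 : ∀ x, h x v = μ * h x w := by
    intro x
    have h2 : h (x + (-(h x w / h x0 w)) • x0) w = 0 := by
      rw [H.add, H.smul]
      field_simp
      ring
    have h3 := hvw _ h2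
    rw [H.add, H.smul] at h3
    rw [hμ]
    have h4 : h x v = h x w / h x0 w * h x0 v := by linear_combination h3
    rw [h4]
    ring
  have h2 : v + (-σ μ) • w = 0 := by
    apply H.nd
    intro y
    rw [H.herm y, H.add', H.smul', map_neg, H.sig, h1 y]
    rw [show μ * h y w + -μ * h y w = 0 by ring, map_zero, mul_zero]
  have h3 : v = σ μ • w := by
    rw [neg_smul, ← sub_eq_add_neg, sub_eq_zero] at h2
    exact h2
  have hσ : σ μ ≠ 0 := by
    intro h4
    rw [h4, zero_smul] at h3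
    exact hv0 h3
  refine ⟨(σ μ)⁻¹, ?_⟩
  rw [h3, smul_smul, inv_mul_cancel₀ hσ, one_smul]

/-- the perm of a linear equivalence -/
def pr : (E ≃ₗ[F] E) →* Equiv.Perm E where
  toFun r := r.toEquiv
  map_one' := rfl
  map_mul' _ _ := rfl

omit H in
theorem pr_apply (r : E ≃ₗ[F] E) (x : E) : pr r x = r x := rfl

omit H in
theorem pr_injective : Function.Injective (pr (F := F) (E := E)) := fun _ _ hr =>
  LinearEquiv.ext fun x => congrArg (fun g : Equiv.Perm E => g x) hr

variable (Γ : Subgroup (Equiv.Perm E))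

/-- the linear isometries in `Γ` -/
def R (h : E → E → F) (Γ : Subgroup (Equiv.Perm E)) : Subgroup (E ≃ₗ[F] E) where
  carrier := {r | pr r ∈ Γ ∧ ∀ x y, h (r x) (r y) = h x y}
  one_mem' := ⟨by rw [map_one]; exact Γ.one_mem, fun _ _ => rfl⟩
  mul_mem' := by
    rintro a b ⟨h1, h2⟩ ⟨h3, h4⟩
    refine ⟨by rw [map_mul]; exact Γ.mul_mem h1 h3, fun x y => ?_⟩
    rw [LinearEquiv.mul_apply, LinearEquiv.mul_apply, h2, h4]
  inv_mem' := by
    rintro a ⟨h1, h2⟩
    refine ⟨by rw [map_inv]; exact Γ.inv_mem h1, fun x y => ?_⟩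
    have e : ∀ w, a (a⁻¹ w) = w := fun w => a.apply_symm_apply w
    rw [← h2, e, e]

omit H in
theorem mem_R {r : E ≃ₗ[F] E} : r ∈ R h Γ ↔ pr r ∈ Γ ∧ ∀ x y, h (r x) (r y) = h x y := Iff.rfl

omit H in
theorem R_isPGroup {p : ℕ} (hΓ : IsPGroup p Γ) : IsPGroup p (R h Γ) := by
  rintro ⟨r, h1, h2⟩
  obtain ⟨k, hk⟩ := hΓ ⟨pr r, h1⟩
  refine ⟨k, Subtype.ext (pr_injective ?_)⟩
  have := congrArg Subtype.val hk
  rw [SubmonoidClass.coe_pow] at this ⊢
  rw [map_pow]
  exact this

variable {p : ℕ} [Fact p.Prime] (hΓ : IsPGroup p Γ)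
  (hscal : ∀ a : Fˣ, (∃ k : ℕ, a ^ p ^ k = 1) → scal F E a ∈ Γ)
  (hreg : ∀ r ∈ R h Γ, r v = v → r = 1)

include hΓ hscal hreg hv0

/-- a linear element of `Γ` commuting with a transvection is a scalar -/
theorem lin_scal {y : Equiv.Perm E} (hyΓ : y ∈ Γ) {τ : F} (hy : SS h y 1 τ) {c : F} (hc : c ≠ 0)
    (hcom : ∀ x, y (H.T hvv c x) = H.T hvv c (y x)) : ∃ b : Fˣ, y = scal F E b := by
  obtain ⟨l, hl0, hlv, hl⟩ := of_comm H hv0 hvv hy hc hcom
  obtain ⟨k, hk⟩ := hΓ ⟨y, hyΓ⟩
  have hk' : y ^ p ^ k = 1 := by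
    have := congrArg Subtype.val hk
    rwa [SubmonoidClass.coe_pow] at this
  have hpow : ∀ n : ℕ, (y ^ n) v = l ^ n • v := by
    intro n
    induction n with
    | zero => rw [pow_zero, pow_zero, one_smul]; rfl
    | succ n ih =>
      rw [pow_succ', Equiv.Perm.mul_apply, ih, hy.2.1.2, hlv, smul_smul, pow_succ]
      rfl
  have hlk : l ^ p ^ k = 1 := by
    have h1 := hpow (p ^ k)
    rw [hk', Equiv.Perm.one_apply] at h1
    have h2 : (1 : F) • v = l ^ p ^ k • v := by rwa [one_smul]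
    exact (smul_left_injective F hv0 h2).symm
  obtain ⟨lu, hlu⟩ : ∃ lu : Fˣ, (lu : F) = l := ⟨Units.mk0 l hl0, rfl⟩
  have hluk : lu ^ p ^ k = 1 := Units.ext (by rw [Units.val_pow_eq_pow_val, hlu, hlk, Units.val_one])
  refine ⟨lu, ?_⟩
  have hs : scal F E lu ∈ Γ := hscal lu ⟨k, hluk⟩
  -- the linear map of `y`
  obtain ⟨Y, hY⟩ : ∃ Y : E ≃ₗ[F] E, pr Y = y :=
    ⟨{ toEquiv := y, map_add' := hy.2.1.1, map_smul' := fun a x => hy.2.1.2 a x }, rfl⟩
  have hYx : ∀ x, Y x = y x := fun x => by rw [← hY]; rfl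
  obtain ⟨r, hr⟩ : ∃ r : E ≃ₗ[F] E, r = (LinearEquiv.smulOfUnit lu)⁻¹ * Y := ⟨_, rfl⟩
  have hprs : pr (LinearEquiv.smulOfUnit lu : E ≃ₗ[F] E) = scal F E lu := rfl
  have hrx : ∀ x, l • r x = y x := by
    intro x
    have h1 : LinearEquiv.smulOfUnit lu * r = Y := by rw [hr, mul_inv_cancel_left]
    rw [← hYx, ← h1, ← hlu]
    rfl
  have hrR : r ∈ R h Γ := by
    refine (mem_R Γ).2 ⟨?_, ?_⟩
    · rw [hr, map_mul, map_inv, hprs, hY]
      exact Γ.mul_mem (Γ.inv_mem hs) hyΓ
    · intro x x'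
      have h1 := hy.2.2 x x'
      rw [← hrx, ← hrx, H.smul, H.smul'] at h1
      have h2 : (1 : F ≃+* F) (h x x') = h x x' := rfl
      have h3 : (1 : F ≃+* F) c = c := rfl
      rw [h2] at h1
      rw [h3] at hl
      have h4 : l * σ l = τ := mul_left_cancel₀ hc hl
      have h5 : τ * h (r x) (r x') = τ * h x x' := by rw [← h1, ← h4]; ring
      exact mul_left_cancel₀ hy.1 h5
  have hrv : r v = v := by
    have h1 := hrx v
    rw [hlv] at h1
    exact smul_right_injective E hl0 h1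
  have hr1 := hreg r hrR hrv
  have h2 : Y = LinearEquiv.smulOfUnit lu := by
    rw [hr1] at hr
    exact (inv_mul_eq_one.1 hr.symm).symm
  rw [← hY, h2, hprs]

omit hreg in
/-- the transvection trick -/
theorem trick [FiniteDimensional F E] (hdim : 3 ≤ Module.finrank F E) (hav : Avoid (R h Γ) v) {y : Equiv.Perm E} (hyΓ : y ∈ Γ)
    {θ : F ≃+* F} {τ : F} (hy : SS h y θ τ) {c : F} (hc : c ≠ 0) (hc' : σ c + ε * c = 0)
    {a : Fˣ} (ha : scal F E a * (pr (H.T hvv c) * y * (pr (H.T hvv c))⁻¹) ∈ Γ) :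
    ∀ x, y (H.T hvv c x) = H.T hvv c (y x) := by
  have hy0 : y 0 = 0 := by
    have := hy.2.1.1 0 0
    rwa [add_zero, left_eq_add] at this
  have hw0 : y v ≠ 0 := fun h1 => hv0 (y.injective (h1.trans hy0.symm))
  have hww : h (y v) (y v) = 0 := by rw [hy.2.2, hvv, map_zero, mul_zero]
  obtain ⟨z, hz⟩ : ∃ z : E ≃ₗ[F] E, z = H.T hvv c * (H.T hww (θ c / τ))⁻¹ := ⟨_, rfl⟩
  have hconj : y * pr (H.T hvv c) = pr (H.T hww (θ c / τ)) * y :=
    Equiv.ext fun x => conj_T H hvv hy hww c x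
  have hzy : pr (H.T hvv c) * y * (pr (H.T hvv c))⁻¹ = pr z * y := by
    rw [hz, map_mul, map_inv, mul_assoc, mul_assoc]
    congr 1
    rw [mul_inv_eq_iff_eq_mul, mul_assoc, hconj, inv_mul_cancel_left]
  have haz : scal F E a * pr z ∈ Γ := by
    rw [hzy, ← mul_assoc] at ha
    exact (Subgroup.mul_mem_cancel_right Γ hyΓ).1 ha
  have hzx : ∀ x, z x = x + (-(θ c / τ) * h x (y v)) • y v + (c * h (x + (-(θ c / τ) * h x (y v)) • y v) v) • v := by
    intro x
    rw [hz]
    rfl
  -- `a` has `p`-power order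
  have hker : ∃ x : E, x ≠ 0 ∧ h x v = 0 ∧ h x (y v) = 0 := by
    have h1 : LinearMap.ker ((H.fn v).prod (H.fn (y v))) ≠ ⊥ := by
      apply LinearMap.ker_ne_bot_of_finrank_lt
      rw [Module.finrank_prod, Module.finrank_self]
      omega
    obtain ⟨x, hx, hx0⟩ := Submodule.exists_mem_ne_zero_of_ne_bot h1
    have h2 := LinearMap.mem_ker.1 hx
    exact ⟨x, hx0, congrArg Prod.fst h2, congrArg Prod.snd h2⟩
  obtain ⟨x, hx0, hx1, hx2⟩ := hker
  have hzfix : z x = x := by
    rw [hzx, hx2, mul_zero, zero_smul, add_zero, hx1, mul_zero, zero_smul, add_zero]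
  obtain ⟨k, hk⟩ := hΓ ⟨_, haz⟩
  have hk' : (scal F E a * pr z) ^ p ^ k = 1 := by
    have := congrArg Subtype.val hk
    rwa [SubmonoidClass.coe_pow] at this
  have hpow : ∀ n : ℕ, ((scal F E a * pr z) ^ n) x = (a : F) ^ n • x := by
    intro n
    induction n with
    | zero => rw [pow_zero, pow_zero, one_smul]; rfl
    | succ n ih =>
      rw [pow_succ', Equiv.Perm.mul_apply, ih, Equiv.Perm.mul_apply, pr_apply, map_smul, hzfix, scal_apply, smul_smul,
        pow_succ']
  have hak : a ^ p ^ k = 1 := by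
    have h1 := hpow (p ^ k)
    rw [hk', Equiv.Perm.one_apply] at h1
    have h2 : (1 : F) • x = (a : F) ^ p ^ k • x := by rwa [one_smul]
    exact Units.ext (by
      rw [Units.val_pow_eq_pow_val, Units.val_one]
      exact (smul_left_injective F hx0 h2).symm)
  have hzR : z ∈ R h Γ := by
    refine (mem_R Γ).2 ⟨(Subgroup.mul_mem_cancel_left Γ (hscal a ⟨k, hak⟩)).1 haz, fun u u' => ?_⟩
    have e : ∀ w, H.T hww (θ c / τ) ((H.T hww (θ c / τ))⁻¹ w) = w := fun w => LinearEquiv.apply_symm_apply _ w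
    rw [hz, LinearEquiv.mul_apply, LinearEquiv.mul_apply, H.T_iso hvv hc', ← iso_conj H hvv hy hww hc', e, e]
  -- the commutator space
  have hcomm : ∀ x, z x - x ∈ com z := fun x => ⟨x, rfl⟩
  have hle : com z ≤ Submodule.span F {v, y v} := by
    rintro _ ⟨x, rfl⟩
    show z x - x ∈ _
    rw [hzx, add_assoc, add_sub_cancel_left]
    exact Submodule.add_mem _ (Submodule.smul_mem _ _ (Submodule.subset_span (by simp)))
      (Submodule.smul_mem _ _ (Submodule.subset_span (by simp)))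
  have hfin : Module.finrank F (com z) ≤ 2 := by
    classical
    refine (Submodule.finrank_mono hle).trans ?_
    have h1 := finrank_span_finset_le_card (R := F) ({v, y v} : Finset E)
    rw [Finset.coe_insert, Finset.coe_singleton] at h1
    exact h1.trans Finset.card_le_two
  -- `z = 1`
  have hz1 : z = 1 := by
    by_contra hne
    have hvcom : v ∈ com z := by
      by_cases hA : ∃ x, h x (y v) = 0 ∧ h x v ≠ 0
      · obtain ⟨x, hx1, hx2⟩ := hA
        have h1 := hcomm x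
        rw [hzx, hx1, mul_zero, zero_smul, add_zero, add_sub_cancel_left] at h1
        exact (Submodule.smul_mem_iff _ (mul_ne_zero hc hx2)).1 h1
      · push Not at hA
        obtain ⟨l, hl⟩ := mem_span_of H hv0 hw0 hA
        obtain ⟨x, hx⟩ : ∃ x, z x ≠ x := by
          by_contra hc
          push Not at hc
          exact hne (LinearEquiv.ext hc)
        have h1 := hcomm x
        obtain ⟨e, he⟩ : ∃ e : F, z x - x = e • v := by
          rw [hzx, add_assoc, add_sub_cancel_left]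
          nth_rewrite 2 [hl]
          rw [smul_smul, ← add_smul]
          exact ⟨_, rfl⟩
        rw [he] at h1
        refine (Submodule.smul_mem_iff _ ?_).1 h1
        rintro rfl
        rw [zero_smul, sub_eq_zero] at he
        exact hx he
    have := hav z hzR hne hvcom
    omega
  have h1 : H.T hvv c = H.T hww (θ c / τ) := by
    rw [hz1] at hz
    exact (mul_inv_eq_one.1 hz.symm)
  intro x
  rw [conj_T H hvv hy hww, h1]

end main

end Cfsg.Agent.H458.SepCore
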