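import Mathlib
import Cfsg.Agent.H458.SepCore
import Cfsg.Agent.H458.FieldKill

/-!
# The separation theorem (helper458, for S5762): `core`
-/

set_option autoImplicit false
set_option linter.unusedSectionVars false

namespace Cfsg.Agent.H458.SepCore

open Cfsg.Agent.H903.SylSemi Cfsg.Agent.H903.SylReg Cfsg.Agent.H458.FieldKill

variable {F E : Type*} [Field F] [AddCommGroup E] [Module F E]
variable {σ : F ≃+* F} {ε : F} {h : E → E → F} (H : Herm σ ε h) {v : E} (hv0 : v ≠ 0) (hvv : h v v = 0)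
variable (Γ : Subgroup (Equiv.Perm E)) {p : ℕ} [hp : Fact p.Prime] (hΓ : IsPGroup p Γ)

include hΓ in
theorem pow_eq_one {y : Equiv.Perm E} (hy : y ∈ Γ) : ∃ k : ℕ, y ^ p ^ k = 1 := by
  obtain ⟨k, hk⟩ := hΓ ⟨y, hy⟩
  refine ⟨k, ?_⟩
  have := congrArg Subtype.val hk
  rwa [SubmonoidClass.coe_pow] at this

include hv0 hΓ in
/-- the companion of an element of `Γ` has `p`-power order -/
theorem orderOf_comp {y : Equiv.Perm E} (hy : y ∈ Γ) {θ : F ≃+* F} {τ : F} (hs : SS h y θ τ) : ∃ i, orderOf θ = p ^ i := by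
  obtain ⟨k, hk⟩ := pow_eq_one Γ hΓ hy
  obtain ⟨τ', h1⟩ := hs.pow (p ^ k)
  rw [hk] at h1
  have h2 : θ ^ p ^ k = 1 := Semi.unique hv0 h1.2.1 (SS.one (h := h)).2.1
  obtain ⟨i, -, hi⟩ := (Nat.dvd_prime_pow hp.out).1 (orderOf_dvd_of_pow_eq_one h2)
  exact ⟨i, hi⟩

variable (hscal : ∀ a : Fˣ, (∃ k : ℕ, a ^ p ^ k = 1) → scal F E a ∈ Γ)
  (hreg : ∀ r ∈ R (F := F) h Γ, r v = v → r = 1)

include H hv0 hΓ hscal hreg in
theorem core [Finite F] [FiniteDimensional F E] (hp3 : 3 ≤ p) (hdim : 3 ≤ Module.finrank F E)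
    (hav : Avoid (R (F := F) h Γ) v) (hsemi : ∀ y ∈ Γ, ∃ θ τ, SS h y θ τ) (hc0 : ∃ c, c ≠ 0 ∧ σ c + ε * c = 0) :
    ∃ c, c ≠ 0 ∧ σ c + ε * c = 0 ∧ ∀ y ∈ Γ,
      (∃ a : Fˣ, scal F E a * (pr (H.T hvv c) * y * (pr (H.T hvv c))⁻¹) ∈ Γ) → ∃ b : Fˣ, y = scal F E b := by
  classical
  by_contra hcon
  push Not at hcon
  have hfin : Finite (F ≃+* F) := Finite.of_injective (fun e : F ≃+* F => (e : F → F)) DFunLike.coe_injective
  have hcyc := isCyclic_ringAut F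
  -- step 1
  have step1 : ∀ c, c ≠ 0 → σ c + ε * c = 0 → ∃ y ∈ Γ, ∃ θ τ, SS h y θ τ ∧ orderOf θ = p ∧ Commute y (pr (H.T hvv c)) := by
    intro c hc hc'
    obtain ⟨y, hyΓ, ⟨a, ha⟩, hns⟩ := hcon c hc hc'
    obtain ⟨θ, τ, hs⟩ := hsemi y hyΓ
    have hcom := trick H hv0 hvv Γ hΓ hscal hdim hav hyΓ hs hc hc' ha
    obtain ⟨i, hi⟩ := orderOf_comp hv0 Γ hΓ hyΓ hs
    have hθ : θ ≠ 1 := by
      rintro rfl
      obtain ⟨b, hb⟩ := lin_scal H hv0 hvv Γ hΓ hscal hreg hyΓ hs hc hcom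
      exact hns b hb
    have hi0 : i ≠ 0 := by
      rintro rfl
      rw [pow_zero, orderOf_eq_one_iff] at hi
      exact hθ hi
    obtain ⟨j, rfl⟩ := Nat.exists_eq_succ_of_ne_zero hi0
    obtain ⟨τ', hs'⟩ := hs.pow (p ^ j)
    refine ⟨y ^ p ^ j, Γ.pow_mem hyΓ _, θ ^ p ^ j, τ', hs', ?_, ?_⟩
    · rw [orderOf_pow_of_dvd (pow_ne_zero _ hp.out.ne_zero) (by rw [hi]; exact pow_dvd_pow _ (Nat.le_succ j)), hi,
        Nat.pow_div (Nat.le_succ j) hp.out.pos, Nat.succ_sub (le_refl j), Nat.sub_self, pow_one]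
    · exact Commute.pow_left (Equiv.ext hcom) _
  obtain ⟨c0, hc00, hc0'⟩ := hc0
  obtain ⟨y0, hy0Γ, θ, τ0, hs0, hθ, hcom0⟩ := step1 c0 hc00 hc0'
  have step2 : ∀ c, c ≠ 0 → σ c + ε * c = 0 → ∃ y ∈ Γ, ∃ τ, SS h y θ τ ∧ Commute y (pr (H.T hvv c)) := by
    intro c hc hc'
    obtain ⟨y, hyΓ, θ', τ, hs, hθ', hcom⟩ := step1 c hc hc'
    have h1 := mem_zpowers_of_prime hp.out hθ' hθ
    rw [← mem_powers_iff_mem_zpowers] at h1
    obtain ⟨n, hn⟩ := h1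
    simp only at hn
    obtain ⟨τ', hs'⟩ := hs.pow n
    rw [hn] at hs'
    exact ⟨y ^ n, Γ.pow_mem hyΓ _, τ', hs', hcom.pow_left n⟩
  obtain ⟨u, hu0, hσu, hu⟩ := exists_kill hp3 σ H.sig θ hθ
  obtain ⟨y, hyΓ, τ, hs, hcom⟩ := step2 (u * c0) (mul_ne_zero hu0 hc00) (by
    rw [map_mul, hσu]
    linear_combination u * hc0')
  obtain ⟨l0, hl00, hlv0, hl0⟩ := of_comm H hv0 hvv hs0 hc00 (fun x => congrArg (fun g : Equiv.Perm E => g x) hcom0)
  obtain ⟨l, hl', hlv, hl⟩ := of_comm H hv0 hvv hs (mul_ne_zero hu0 hc00) (fun x => congrArg (fun g : Equiv.Perm E => g x) hcom)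
  -- `x = y y0⁻¹`
  obtain ⟨x, hx⟩ : ∃ x, x = y * y0⁻¹ := ⟨_, rfl⟩
  have hxΓ : x ∈ Γ := by rw [hx]; exact Γ.mul_mem hyΓ (Γ.inv_mem hy0Γ)
  have hxy : ∀ e, x (y0 e) = y e := fun e => by
    rw [hx, Equiv.Perm.mul_apply]
    exact congrArg y (y0.symm_apply_apply e)
  have hxlin : ∀ (a : F) (e : E), x (a • e) = a • x e := by
    intro a e
    obtain ⟨e', rfl⟩ := y0.surjective e
    obtain ⟨a', rfl⟩ := θ.surjective a
    rw [← hs0.2.1.2, hxy, hxy, hs.2.1.2]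
  have hxform : ∀ e e', h (x e) (x e') = (τ / τ0) * h e e' := by
    intro e e'
    obtain ⟨d, rfl⟩ := y0.surjective e
    obtain ⟨d', rfl⟩ := y0.surjective e'
    rw [hxy, hxy, hs.2.2, hs0.2.2]
    have := hs0.1
    field_simp
  have hxv : x v = (l / l0) • v := by
    have h1 := hxy v
    rw [hlv0, hlv, hxlin] at h1
    rw [div_eq_inv_mul, mul_smul, ← h1, smul_smul, inv_mul_cancel₀ hl00, one_smul]
  obtain ⟨k, hk⟩ := pow_eq_one Γ hΓ hxΓ
  have hxn : ∀ n : ℕ, (x ^ n) v = (l / l0) ^ n • v := by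
    intro n
    induction n with
    | zero => rw [pow_zero, pow_zero, one_smul]; rfl
    | succ n ih => rw [pow_succ', Equiv.Perm.mul_apply, ih, hxlin, hxv, smul_smul, pow_succ]
  have hxfn : ∀ (n : ℕ) (e e' : E), h ((x ^ n) e) ((x ^ n) e') = (τ / τ0) ^ n * h e e' := by
    intro n
    induction n with
    | zero => intro e e'; rw [pow_zero, pow_zero, one_mul]; rfl
    | succ n ih =>
      intro e e'
      rw [pow_succ', Equiv.Perm.mul_apply, Equiv.Perm.mul_apply, hxform, ih, pow_succ']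
      ring
  have hν : (l / l0) ^ p ^ k = 1 := by
    have h1 := hxn (p ^ k)
    rw [hk, Equiv.Perm.one_apply] at h1
    have h2 : (1 : F) • v = (l / l0) ^ p ^ k • v := by rwa [one_smul]
    exact (smul_left_injective F hv0 h2).symm
  have hτ : (τ / τ0) ^ p ^ k = 1 := by
    obtain ⟨e, he⟩ := H.exists_ne hv0
    have h1 := hxfn (p ^ k) e v
    rw [hk, Equiv.Perm.one_apply, Equiv.Perm.one_apply] at h1
    exact (mul_right_cancel₀ he (by rw [one_mul]; exact h1)).symm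
  refine hu k ?_
  have hθc0 : θ c0 ≠ 0 := (map_ne_zero θ).2 hc00
  have hθu : θ u ≠ 0 := (map_ne_zero θ).2 hu0
  have hτ00 := hs0.1
  have hτ0' := hs.1
  have hσl : σ l ≠ 0 := (map_ne_zero σ).2 hl'
  have hσl0 : σ l0 ≠ 0 := (map_ne_zero σ).2 hl00
  have hkey : u / θ u = (l / l0) * σ (l / l0) / (τ / τ0) := by
    rw [map_mul] at hl
    rw [map_div₀]
    have h1 : u * τ * (l0 * σ l0) * (θ c0 * c0) = θ u * (l * σ l) * τ0 * (θ c0 * c0) := by
      calc u * τ * (l0 * σ l0) * (θ c0 * c0) = (u * c0 * τ) * (θ c0 * (l0 * σ l0)) := by ring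
        _ = (θ u * θ c0 * (l * σ l)) * (c0 * τ0) := by rw [hl, hl0]
        _ = _ := by ring
    have h2 := mul_right_cancel₀ (mul_ne_zero hθc0 hc00) h1
    field_simp
    linear_combination h2
  rw [hkey, div_pow, mul_pow, ← map_pow, hν, map_one, hτ, one_mul, div_one]

end Cfsg.Agent.H458.SepCore
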