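import Mathlib
import Cfsg.Agent.H458.SepMain
import Cfsg.Agent.ClassicalGeometry.SympBasic

/-!
# The symplectic row of S5762 in cross characteristic (helper458): `sepSp_cross`
-/

set_option autoImplicit false
set_option linter.unusedSectionVars false

namespace Cfsg.Agent.H458.SepSp

open Cfsg.Agent.H903.SylSemi Cfsg.Agent.H903.SylReg Cfsg.Agent.H458.SepCore Cfsg.Agent.ClassicalGeometry.SympBasic Cfsg

theorem herm {F : Type*} [Field F] (m : ℕ) : Herm (RingEquiv.refl F) (-1) (sympForm m F) where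
  sig _ := rfl
  add := sympForm_add_left
  smul := sympForm_smul_left
  herm x y := by
    rw [sympForm_swap]
    simp
  nd x hx := eq_zero_of_forall_sympForm_right hx

theorem sepSp_cross {p m : ℕ} [Fact p.Prime] (hp : 5 ≤ p) {F : Type} [Field F] [Fintype F] (_hpF : (p : F) ≠ 0)
    (hm : 2 ≤ m) (hreg : Cfsg.Agent.H903.SylReg.RegSp p F (Fin m ⊕ Fin m → F)) :
    Cfsg.Agent.H903.SylSemi.SepSp p F m := by
  intro Γ hΓ hsemi hscal
  obtain ⟨v, hv0, hv1, hv2⟩ := hreg (sympBilin m F) (fun x => sympForm_self x)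
    (fun x hx => eq_zero_of_forall_sympForm_right hx) (R (F := F) (sympForm m F) Γ) (R_isPGroup Γ hΓ) (fun r hr x y => hr.2 x y)
  obtain ⟨c, hc, hc', hg⟩ := core (herm m) hv0 (sympForm_self v) Γ hΓ hscal hv1 (by omega)
    (by
      rw [Module.finrank_fintype_fun_eq_card, Fintype.card_sum, Fintype.card_fin]
      omega) hv2 (fun y hy => by
      obtain ⟨θ, τ, h1, h2, h3⟩ := hsemi y hy
      exact ⟨θ, τ, h1, h2, h3⟩) ⟨1, one_ne_zero, by simp⟩
  refine ⟨pr ((herm m).T (sympForm_self v) c), ⟨⟨fun x y => map_add ((herm m).T (sympForm_self v) c) x y,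
    fun a x => map_smul ((herm m).T (sympForm_self v) c) a x⟩, fun x y => ?_⟩, hg⟩
  exact (herm m).T_iso (sympForm_self v) hc' x y

end Cfsg.Agent.H458.SepSp
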