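import Mathlib
import Cfsg.Agent.H458.SepSp
import Cfsg.Agent.H903.SylRegTSp
import Cfsg.Agent.H868.MeetOddPSp

/-!
# The symplectic row of S2484 (`p = 3`) in cross characteristic (helper458, task 1592)

* `sepSp_odd` : `sepSp_cross` for all odd primes; * `meet3_PSp_cross`.
-/

set_option autoImplicit false
set_option linter.unusedSectionVars false

namespace Cfsg.Agent.H458.Meet3PSp

open Cfsg.Agent.H903.SylSemi Cfsg.Agent.H903.SylReg Cfsg.Agent.H458.SepCore Cfsg.Agent.ClassicalGeometry.SympBasic Cfsg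
open Cfsg.Agent.H458.SepSp

theorem sepSp_odd {p m : ℕ} [Fact p.Prime] (hp : 3 ≤ p) {F : Type} [Field F] [Fintype F]
    (hm : 2 ≤ m) (hreg : Cfsg.Agent.H903.SylReg.RegSp p F (Fin m ⊕ Fin m → F)) :
    Cfsg.Agent.H903.SylSemi.SepSp p F m := by
  intro Γ hΓ hsemi hscal
  obtain ⟨v, hv0, hv1, hv2⟩ := hreg (sympBilin m F) (fun x => sympForm_self x)
    (fun x hx => eq_zero_of_forall_sympForm_right hx) (R (F := F) (sympForm m F) Γ) (R_isPGroup Γ hΓ) (fun r hr x y => hr.2 x y)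
  obtain ⟨c, hc, hc', hg⟩ := core (herm m) hv0 (sympForm_self v) Γ hΓ hscal hv1 hp
    (by
      rw [Module.finrank_fintype_fun_eq_card, Fintype.card_sum, Fintype.card_fin]
      omega) hv2 (fun y hy => by
      obtain ⟨θ, τ, h1, h2, h3⟩ := hsemi y hy
      exact ⟨θ, τ, h1, h2, h3⟩) ⟨1, one_ne_zero, by simp⟩
  refine ⟨pr ((herm m).T (sympForm_self v) c), ⟨⟨fun x y => map_add ((herm m).T (sympForm_self v) c) x y,
    fun a x => map_smul ((herm m).T (sympForm_self v) c) a x⟩, fun x y => ?_⟩, hg⟩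
  exact (herm m).T_iso (sympForm_self v) hc' x y

/-- all odd primes -/
theorem meet_PSp_cross {p m : ℕ} [Fact p.Prime] (hp : 3 ≤ p) {F : Type} [Field F] [Fintype F] (hF : 3 ≤ Fintype.card F)
    (hpF : (p : F) ≠ 0) (hm : 2 ≤ m) : Cfsg.Agent.H903.SylMeet.Meet p (Cfsg.PSp m F) := by
  classical
  refine H868.MeetOddPSp.meet_PSp hp hm (fun _ => hF) (sepSp_odd hp hm ?_)
  obtain ⟨a, ha⟩ : ∃ a : F, a ∉ ({0, 1} : Finset F) := by
    by_contra h
    push Not at h
    have h1 : (Finset.univ : Finset F) ⊆ {0, 1} := fun a _ => h a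
    have h2 := Finset.card_le_card h1
    have h3 : ({0, 1} : Finset F).card ≤ 2 := Finset.card_le_two
    rw [Finset.card_univ] at h2
    omega
  simp only [Finset.mem_insert, Finset.mem_singleton, not_or] at ha
  refine H903.SylRegT.regSp p hp F ⟨a, ha.1, ha.2⟩ _ hpF ?_
  rw [Module.finrank_fintype_fun_eq_card, Fintype.card_sum, Fintype.card_fin]
  omega

theorem meet3_PSp_cross {m : ℕ} {F : Type} [Field F] [Fintype F] (hF : 4 ≤ Fintype.card F) (h3 : (3 : F) ≠ 0)
    (hm : 2 ≤ m) : Cfsg.Agent.H903.SylMeet.Meet 3 (Cfsg.PSp m F) := by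
  have : Fact (Nat.Prime 3) := ⟨Nat.prime_three⟩
  exact meet_PSp_cross le_rfl (by omega) (by exact_mod_cast h3) hm

end Cfsg.Agent.H458.Meet3PSp
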