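import Cfsg.Agent.H568.Row

/-!
# Rows of S4329: passing to a central quotient
-/

set_option autoImplicit false
set_option linter.unusedSectionVars false

namespace Cfsg.Agent.H458.Quot

open Subgroup Cfsg.Agent.H568

variable {G K : Type*} [Group G] [Group K] [Finite G] (π : G →* K) (hπ : Function.Surjective π)
  (hZ : π.ker ≤ center G)

theorem exists_exp {l z : ℕ} (h : l.Coprime z) : ∃ m : ℕ, m ≡ 1 [MOD l] ∧ z ∣ m := by
  obtain ⟨m, h1, h2⟩ := Nat.chineseRemainder h 1 0
  exact ⟨m, h1, Nat.modEq_zero_iff_dvd.1 h2⟩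

theorem pow_card_ker {g : G} (h : π g = 1) : g ^ Nat.card π.ker = 1 := by
  have := pow_card_eq_one' (x := (⟨g, h⟩ : π.ker))
  exact congrArg Subtype.val this

include hπ in
/-- elements of order prime to `|Z|` lift -/
theorem exists_lift {l : ℕ} (hl : l.Coprime (Nat.card π.ker)) (x : K)
    (hx : x ^ l = 1) : ∃ g : G, π g = x ∧ g ^ l = 1 := by
  obtain ⟨g, rfl⟩ := hπ x
  obtain ⟨m, h1, h2⟩ := exists_exp hl
  have hc : π (g ^ l) = 1 := by rw [map_pow, hx]
  refine ⟨g ^ m, ?_, ?_⟩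
  · rw [map_pow]
    have h3 : (π g) ^ m = (π g) ^ 1 := by
      rw [pow_eq_pow_iff_modEq]
      exact Nat.ModEq.of_dvd (orderOf_dvd_of_pow_eq_one hx) h1
    rw [h3, pow_one]
  · rw [← pow_mul, mul_comm, pow_mul]
    obtain ⟨j, rfl⟩ := h2
    rw [pow_mul, pow_card_ker π hc, one_pow]

include hZ in
/-- commuting modulo the centre -/
theorem eq_of_map_eq {l : ℕ} (hl : l.Coprime (Nat.card π.ker)) {x y : G}
    (hx : x ^ l = 1) (hy : y ^ l = 1) (h : π x = π y) : x = y := by
  have h1 : π (x⁻¹ * y) = 1 := by rw [map_mul, map_inv, h, inv_mul_cancel]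
  set c := x⁻¹ * y with hc
  have h2 : y = x * c := by rw [hc, mul_inv_cancel_left]
  have hcm : Commute x c := (mem_center_iff.1 (hZ (MonoidHom.mem_ker.2 h1)) x)
  have h3 : c ^ l = 1 := by
    rw [h2, hcm.mul_pow, hx, one_mul] at hy
    exact hy
  have h5 : c = 1 := by
    rw [← orderOf_eq_one_iff, ← Nat.dvd_one, ← (hl : Nat.gcd l (Nat.card π.ker) = 1)]
    exact Nat.dvd_gcd (orderOf_dvd_of_pow_eq_one h3) (orderOf_dvd_of_pow_eq_one (pow_card_ker π h1))
  rw [h2, h5, mul_one]

include hZ in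
/-- a conjugation fixing the image of an element of order prime to `|Z|` -/
theorem comm_of_conj {l : ℕ} (hl : l.Coprime (Nat.card π.ker))
    {x s : G} (hx : x ^ l = 1) (h : MulAut.conj (π s) (π x) = π x) : s * x = x * s := by
  have h1 : s * x * s⁻¹ = x := by
    refine eq_of_map_eq π hZ hl ?_ hx ?_
    · rw [conj_pow, hx, mul_one, mul_inv_cancel]
    · rw [map_mul, map_mul, map_inv]; exact h
  exact mul_inv_eq_iff_eq_mul.1 h1

/-- a finite group with a central subgroup of order prime to `p` and of `p`-power index -/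
theorem normal_of_central {H : Type*} [Group H] [Finite H] {p : ℕ} [hp : Fact p.Prime] (Z : Subgroup H)
    (hZ : Z ≤ center H) {n : ℕ} (hi : Z.index = p ^ n) (P : Sylow p H) :
    (P : Subgroup H).Normal ∧ (P : Subgroup H) ⊔ Z = ⊤ := by
  have htop : (P : Subgroup H) ⊔ Z = ⊤ := by
    rw [← Subgroup.index_eq_one]
    have h1 : ((P : Subgroup H) ⊔ Z).index ∣ (P : Subgroup H).index := Subgroup.index_dvd_of_le le_sup_left
    have h3 : ((P : Subgroup H) ⊔ Z).index ∣ Z.index := Subgroup.index_dvd_of_le le_sup_right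
    rw [hi] at h3
    obtain ⟨j, -, hj⟩ := (Nat.dvd_prime_pow hp.1).1 h3
    rw [hj] at h1 ⊢
    rcases Nat.eq_zero_or_pos j with h4 | h4
    · rw [h4, pow_zero]
    · exact absurd ((dvd_pow_self p h4.ne').trans h1) P.not_dvd_index
  refine ⟨?_, htop⟩
  rw [← Subgroup.normalizer_eq_top_iff, eq_top_iff, ← htop]
  refine sup_le Subgroup.le_normalizer ?_
  intro z hz
  rw [mem_normalizer_iff]
  intro g
  have h1 : z * g * z⁻¹ = g := by
    have h2 : g * z = z * g := mem_center_iff.1 (hZ hz) g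
    rw [← h2, mul_inv_cancel_right]
  rw [h1]

theorem mem_of_normal {H : Type*} [Group H] [Finite H] {p : ℕ} [hp : Fact p.Prime] (P : Sylow p H)
    (hPn : (P : Subgroup H).Normal) {g : H} {n : ℕ} (hn : g ^ p ^ n = 1) : g ∈ (P : Subgroup H) := by
  have hg : IsPGroup p ↥(zpowers g) := by
    obtain ⟨j, -, hj⟩ := (Nat.dvd_prime_pow hp.1).1 (orderOf_dvd_of_pow_eq_one hn)
    exact IsPGroup.of_card (n := j) (by rw [Nat.card_zpowers, hj])
  obtain ⟨R, hR⟩ := hg.exists_le_sylow
  have : Subsingleton (Sylow p H) := (Sylow.unique_of_normal P hPn).instSubsingleton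
  rw [Subsingleton.elim P R]
  exact hR (mem_zpowers g)

theorem mem_normalizer_map {H : Subgroup G} {p : ℕ} [hp : Fact p.Prime] (P : Sylow p H)
    (hPn : (P : Subgroup H).Normal) {x : G} (hxH : x ∈ normalizer (H : Set G)) :
    x ∈ normalizer (((P : Subgroup H).map H.subtype : Subgroup G) : Set G) := by
  have h0 : Finite (((P : Subgroup H).map H.subtype : Subgroup G) : Set G) := Set.toFinite _
  refine mem_normalizer_fintype ?_
  rintro _ ⟨g, hg, rfl⟩
  have h1 : x * (g : G) * x⁻¹ ∈ H := (mem_normalizer_iff.1 hxH g).1 g.2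
  obtain ⟨n, hn⟩ := P.isPGroup' ⟨g, hg⟩
  have h2 : (g : G) ^ p ^ n = 1 := by
    have h3 := congrArg (fun t : (P : Subgroup H) => ((t : H) : G)) hn
    simpa using h3
  refine ⟨⟨_, h1⟩, mem_of_normal P hPn (n := n) ?_, rfl⟩
  apply Subtype.ext
  show (x * (g : G) * x⁻¹) ^ p ^ n = 1
  rw [conj_pow, h2, mul_one, mul_inv_cancel]

include hπ in
theorem index_ker (Q : Subgroup K) : (π.ker.subgroupOf (Q.comap π)).index = Nat.card Q := by
  have h2 : π.ker.subgroupOf (Q.comap π) = (π.comp (Q.comap π).subtype).ker := by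
    ext g
    rw [mem_subgroupOf, MonoidHom.mem_ker, MonoidHom.mem_ker, MonoidHom.comp_apply, Subgroup.subtype_apply]
  rw [h2, Subgroup.index_ker, MonoidHom.range_comp, (Q.comap π).range_subtype,
    Subgroup.map_comap_eq_self_of_surjective hπ]

include hπ hZ in
/-- `PCent` for a central quotient -/
theorem pcent {p : ℕ} [hp : Fact p.Prime] {x : G} (h : PCent p x) : PCent p (π x) := by
  intro Q hQ hx
  have hK : Finite K := Finite.of_surjective π hπ
  obtain ⟨n, hn⟩ := IsPGroup.iff_card.1 hQ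
  obtain ⟨P⟩ := (inferInstance : Nonempty (Sylow p ↥(Q.comap π)))
  obtain ⟨hPn, htop⟩ := normal_of_central (π.ker.subgroupOf (Q.comap π))
    (by
      intro z hz
      rw [mem_center_iff]
      intro g
      exact Subtype.ext (mem_center_iff.1 (hZ (mem_subgroupOf.1 hz)) g)) ((index_ker π hπ Q).trans hn) P
  have hxH : x ∈ normalizer ((Q.comap π : Subgroup G) : Set G) := by
    rw [mem_normalizer_iff] at hx ⊢
    intro g
    rw [mem_comap, mem_comap, map_mul, map_mul, map_inv]
    exact hx _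
  have hcom := h _ (P.isPGroup'.map _) (mem_normalizer_map P hPn hxH)
  intro y hy
  obtain ⟨g, rfl⟩ := hπ y
  have h1 : (⟨g, hy⟩ : ↥(Q.comap π)) ∈ (P : Subgroup ↥(Q.comap π)) ⊔ π.ker.subgroupOf (Q.comap π) := by
    rw [htop]
    exact mem_top _
  obtain ⟨a, ha, z, hz, he⟩ := (Subgroup.mem_sup_of_normal_left (s := (P : Subgroup ↥(Q.comap π)))).1 h1
  have h2 : g = (a : G) * z := (congrArg Subtype.val he).symm
  have h3 : π (z : G) = 1 := mem_subgroupOf.1 hz
  rw [h2, map_mul, h3, mul_one, ← map_mul, ← map_mul, hcom a ⟨a, ha, rfl⟩]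

end Cfsg.Agent.H458.Quot
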