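import Mathlib
import Cfsg.Agent.H524.LinReg
import Cfsg.Agent.H740.RegRankOne
import Cfsg.Agent.S0242
import Cfsg.Agent.Lib.Zsigmondy
import Cfsg.Prelude.Def_LieTypeChar

/-!
# S4129, own characteristic, `PSL_n(q)` (helper458, task 2348)
-/

set_option autoImplicit false
set_option linter.unusedSectionVars false

namespace Cfsg.Agent.H458.RegPsl

open Matrix Module Cfsg Cfsg.Agent.H524.DirRed Cfsg.Agent.H524.LinReg

universe u

section lin

variable {F : Type} [Field F] {ι : Type} [Fintype ι] [DecidableEq ι]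

/-- the natural representation -/
noncomputable def rho (ι F : Type) [Field F] [Fintype ι] [DecidableEq ι] : SpecialLinearGroup ι F →* Module.End F (ι → F) where
  toFun g := Matrix.toLin' (g : Matrix ι ι F)
  map_one' := Matrix.toLin'_one
  map_mul' _ _ := Matrix.toLin'_mul _ _

theorem rho_inj : Function.Injective (rho ι F) := fun _ _ h => Subtype.ext (Matrix.toLin'.injective h)

theorem rho_det (g : SpecialLinearGroup ι F) : LinearMap.det (rho ι F g) = 1 := by
  change LinearMap.det (Matrix.toLin' (g : Matrix ι ι F)) = 1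
  rw [LinearMap.det_toLin', g.det_coe]

/-- the corner -/
def cor (k : ℕ) (F : Type) [Field F] : SpecialLinearGroup (Fin 2) F →* SpecialLinearGroup (Fin 2 ⊕ Fin k) F where
  toFun A := ⟨fromBlocks (A : Matrix (Fin 2) (Fin 2) F) 0 0 1, by
    rw [Matrix.det_fromBlocks_zero₂₁, A.det_coe, Matrix.det_one, one_mul]⟩
  map_one' := by
    apply Subtype.ext
    exact Matrix.fromBlocks_one
  map_mul' A B := by
    apply Subtype.ext
    change fromBlocks ((A : Matrix (Fin 2) (Fin 2) F) * (B : Matrix (Fin 2) (Fin 2) F)) 0 0 1 =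
      fromBlocks (A : Matrix (Fin 2) (Fin 2) F) 0 0 1 * fromBlocks (B : Matrix (Fin 2) (Fin 2) F) 0 0 1
    rw [Matrix.fromBlocks_multiply]
    simp

theorem cor_inj (k : ℕ) : Function.Injective (cor k F) := by
  intro A B h
  have h1 := congrArg Subtype.val h
  change fromBlocks _ 0 0 1 = fromBlocks _ 0 0 1 at h1
  exact Subtype.ext (Matrix.fromBlocks_inj.1 h1).1

theorem fx_cor [Finite F] (k : ℕ) (A : SpecialLinearGroup (Fin 2) F) : k ≤ finrank F (fx (rho (Fin 2 ⊕ Fin k) F) (cor k F A)) := by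
  let f : (Fin k → F) →ₗ[F] fx (rho (Fin 2 ⊕ Fin k) F) (cor k F A) :=
    LinearMap.codRestrict _
      { toFun := fun w => Sum.elim 0 w
        map_add' := fun v w => by
          funext i
          rcases i with i | i <;> simp
        map_smul' := fun c w => by
          funext i
          rcases i with i | i <;> simp } (fun w => by
        rw [mem_fx]
        change fromBlocks _ 0 0 1 *ᵥ (Sum.elim (0 : Fin 2 → F) w) = Sum.elim (0 : Fin 2 → F) w
        rw [Matrix.fromBlocks_mulVec]
        funext i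
        rcases i with i | i <;> simp)
  have hf : Function.Injective f := by
    intro v w h
    have h1 := congrArg Subtype.val h
    funext i
    exact congrFun h1 (Sum.inr i)
  have h1 := LinearMap.finrank_le_finrank_of_injective hf
  rwa [Module.finrank_fin_fun] at h1

/-- an element of prime order `t ∣ q² - 1` with a fixed space of codimension two -/
theorem exists_cor [Fintype F] {l t : ℕ} [CharP F l] (ht : t.Prime) (htl : t ≠ l)
    (htd : t ∣ Fintype.card F ^ 2 - 1) (k : ℕ) : ∃ y : SpecialLinearGroup (Fin 2 ⊕ Fin k) F, orderOf y = t ∧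
      finrank F (fx (rho (Fin 2 ⊕ Fin k) F) y) = k := by
  have : Fact t.Prime := ⟨ht⟩
  have hq : 1 < Fintype.card F := Fintype.one_lt_card
  have hc := S0242.result (F := F) rfl 2 (by norm_num)
  rw [Fin.prod_univ_two] at hc
  simp only [Fin.val_zero, Fin.val_one, pow_zero, pow_one] at hc
  have h1 : Nat.card (SpecialLinearGroup (Fin 2) F) = Fintype.card F * (Fintype.card F ^ 2 - 1) := by
    have h2 : Fintype.card F ^ 2 - Fintype.card F = Fintype.card F * (Fintype.card F - 1) := by
      rw [Nat.mul_sub, mul_one, pow_two]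
    rw [h2] at hc
    have h3 : (Fintype.card F - 1) * Nat.card (SpecialLinearGroup (Fin 2) F) =
        (Fintype.card F - 1) * (Fintype.card F * (Fintype.card F ^ 2 - 1)) := by
      rw [hc]
      ring
    exact Nat.eq_of_mul_eq_mul_left (by omega) h3
  obtain ⟨A, hA⟩ := exists_prime_orderOf_dvd_card' (G := SpecialLinearGroup (Fin 2) F) t
    (by rw [h1]; exact htd.mul_left _)
  have ho : orderOf (cor k F A) = t := by rw [orderOf_injective _ (cor_inj k), hA]
  refine ⟨cor k F A, ho, le_antisymm ?_ (fx_cor k A)⟩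
  have h2 := fx_two (rho (Fin 2 ⊕ Fin k) F) rho_inj (y := cor k F A) (rho_det _) (k := t) (fun h => by
    rw [CharP.cast_eq_zero_iff F l] at h
    have hl : l.Prime := (CharP.char_is_prime_or_zero F l).resolve_right (CharP.char_ne_zero_of_finite F l)
    exact htl ((Nat.prime_dvd_prime_iff_eq hl ht).1 h).symm) (by rw [← ho, pow_orderOf_eq_one]) (fun h => by
    rw [h, orderOf_one] at ho
    exact ht.one_lt.ne ho)
  rw [Module.finrank_fintype_fun_eq_card, Fintype.card_sum, Fintype.card_fin, Fintype.card_fin] at h2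
  omega

/-- the order -/
theorem dvd_card [Fintype F] {k e r : ℕ} (hr : r.Prime) (he : 2 ≤ e) (hek : e ≤ 2 + k) (hre : r ∣ Fintype.card F ^ e - 1)
    (hr1 : ¬ r ∣ Fintype.card F - 1) : r ∣ Nat.card (SpecialLinearGroup (Fin 2 ⊕ Fin k) F) := by
  have h1 : Nat.card (SpecialLinearGroup (Fin 2 ⊕ Fin k) F) = Nat.card (SpecialLinearGroup (Fin (2 + k)) F) := by
    apply Nat.card_congr
    refine ⟨fun g => ⟨Matrix.reindex finSumFinEquiv finSumFinEquiv (g : Matrix _ _ F), ?_⟩,
      fun g => ⟨Matrix.reindex finSumFinEquiv.symm finSumFinEquiv.symm (g : Matrix _ _ F), ?_⟩, fun g => ?_, fun g => ?_⟩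
    · rw [Matrix.det_reindex_self, g.det_coe]
    · rw [Matrix.det_reindex_self, g.det_coe]
    · apply Subtype.ext
      ext i j
      simp
    · apply Subtype.ext
      ext i j
      simp
  have h2 := S0242.result (F := F) rfl (2 + k) (by omega)
  have h3 : r ∣ (Fintype.card F - 1) * Nat.card (SpecialLinearGroup (Fin (2 + k)) F) := by
    rw [h2]
    refine dvd_trans ?_ (Finset.dvd_prod_of_mem _ (Finset.mem_univ (⟨2 + k - e, by omega⟩ : Fin (2 + k))))
    change r ∣ Fintype.card F ^ (2 + k) - Fintype.card F ^ (2 + k - e)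
    have h4 : Fintype.card F ^ (2 + k) = Fintype.card F ^ (2 + k - e) * Fintype.card F ^ e := by
      rw [← pow_add]
      congr 1
      omega
    rw [h4]
    have h5 : Fintype.card F ^ (2 + k - e) * Fintype.card F ^ e - Fintype.card F ^ (2 + k - e) =
        Fintype.card F ^ (2 + k - e) * (Fintype.card F ^ e - 1) := by
      rw [Nat.mul_sub, mul_one]
    rw [h5]
    exact hre.mul_left _
  rw [h1]
  exact (hr.dvd_mul.1 h3).resolve_left hr1

/-- reindexing -/
def rdx (k : ℕ) (F : Type) [Field F] : SpecialLinearGroup (Fin 2 ⊕ Fin k) F ≃* SpecialLinearGroup (Fin (2 + k)) F where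
  toFun g := ⟨Matrix.reindex finSumFinEquiv finSumFinEquiv (g : Matrix _ _ F), by
    rw [Matrix.det_reindex_self, g.det_coe]⟩
  invFun g := ⟨Matrix.reindex finSumFinEquiv.symm finSumFinEquiv.symm (g : Matrix _ _ F), by
    rw [Matrix.det_reindex_self, g.det_coe]⟩
  left_inv g := by
    apply Subtype.ext
    ext i j
    simp
  right_inv g := by
    apply Subtype.ext
    ext i j
    simp
  map_mul' g h := by
    apply Subtype.ext
    change Matrix.reindex finSumFinEquiv finSumFinEquiv
      ((g : Matrix (Fin 2 ⊕ Fin k) (Fin 2 ⊕ Fin k) F) * (h : Matrix (Fin 2 ⊕ Fin k) (Fin 2 ⊕ Fin k) F)) =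
      Matrix.reindex finSumFinEquiv finSumFinEquiv (g : Matrix (Fin 2 ⊕ Fin k) (Fin 2 ⊕ Fin k) F) *
      Matrix.reindex finSumFinEquiv finSumFinEquiv (h : Matrix (Fin 2 ⊕ Fin k) (Fin 2 ⊕ Fin k) F)
    simp [Matrix.submatrix_mul_equiv]

/-- the projection -/
noncomputable def prj {S : Type u} [Group S] {k : ℕ} (e : S ≃* Matrix.ProjectiveSpecialLinearGroup (Fin (2 + k)) F) :
    SpecialLinearGroup (Fin 2 ⊕ Fin k) F →* S :=
  (e.symm.toMonoidHom.comp (QuotientGroup.mk' _)).comp (rdx k F).toMonoidHom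

variable {S : Type u} [Group S] {k : ℕ} (e : S ≃* Matrix.ProjectiveSpecialLinearGroup (Fin (2 + k)) F)

theorem prj_surj : Function.Surjective (prj e) := by
  intro s
  obtain ⟨g, hg⟩ := QuotientGroup.mk'_surjective _ (e s)
  obtain ⟨x, rfl⟩ := (rdx k F).surjective g
  refine ⟨x, ?_⟩
  change e.symm (QuotientGroup.mk' _ (rdx k F x)) = s
  rw [hg, e.symm_apply_apply]

theorem prj_one {z : SpecialLinearGroup (Fin 2 ⊕ Fin k) F} (h : prj e z = 1) :
    rdx k F z ∈ Subgroup.center (SpecialLinearGroup (Fin (2 + k)) F) := by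
  change e.symm (QuotientGroup.mk' _ (rdx k F z)) = 1 at h
  rw [MulEquiv.map_eq_one_iff] at h
  exact (QuotientGroup.eq_one_iff _).1 h

theorem prj_central {z : SpecialLinearGroup (Fin 2 ⊕ Fin k) F} (h : prj e z = 1) (x : SpecialLinearGroup (Fin 2 ⊕ Fin k) F) :
    z * x = x * z := by
  apply (rdx k F).injective
  rw [map_mul, map_mul]
  exact ((Subgroup.mem_center_iff.1 (prj_one e h)) _).symm

theorem ker_prime [Fintype F] {r : ℕ} (hr : r.Prime) (h : r ∣ Nat.card (prj e).ker) : r ∣ Fintype.card F - 1 := by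
  classical
  have : Fact r.Prime := ⟨hr⟩
  obtain ⟨⟨z, hz⟩, ho⟩ := exists_prime_orderOf_dvd_card' r h
  rw [Subgroup.orderOf_mk] at ho
  have h1 := prj_one e (MonoidHom.mem_ker.1 hz)
  rw [Matrix.SpecialLinearGroup.mem_center_iff] at h1
  obtain ⟨c, hc1, hc2⟩ := h1
  have ho' : orderOf (rdx k F z) = r := by rw [← ho]; exact MulEquiv.orderOf_eq _ _
  have hc3 : c ^ r = 1 := by
    have h2 : ((rdx k F z) ^ r : SpecialLinearGroup (Fin (2 + k)) F) = 1 := by rw [← ho', pow_orderOf_eq_one]
    have h3 : Matrix.scalar (Fin (2 + k)) (c ^ r) = 1 := by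
      rw [map_pow, hc2]
      exact congrArg Subtype.val h2
    have h4 := congrFun (congrFun h3 ⟨0, by omega⟩) ⟨0, by omega⟩
    simpa using h4
  have hc4 : c ≠ 1 := by
    rintro rfl
    rw [map_one] at hc2
    have h2 : rdx k F z = 1 := Subtype.ext hc2.symm
    rw [h2, orderOf_one] at ho'
    exact hr.one_lt.ne ho'
  have hc0 : c ≠ 0 := by
    rintro rfl
    rw [zero_pow hr.ne_zero] at hc3
    exact zero_ne_one hc3
  have h5 : orderOf (Units.mk0 c hc0) = r := by
    apply orderOf_eq_prime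
    · ext
      exact hc3
    · intro h
      exact hc4 (congrArg Units.val h)
  rw [← h5, ← Fintype.card_units]
  exact orderOf_dvd_card

end lin

/-- `PSL_2(F)` is not commutative -/
theorem psl2_na {F : Type} [Field F] : ¬ ∀ a b : Matrix.ProjectiveSpecialLinearGroup (Fin 2) F, a * b = b * a := by
  intro h
  let A : SpecialLinearGroup (Fin 2) F := ⟨!![1, 1; 0, 1], by simp [Matrix.det_fin_two]⟩
  let B : SpecialLinearGroup (Fin 2) F := ⟨!![1, 0; 1, 1], by simp [Matrix.det_fin_two]⟩
  have h1 := h (QuotientGroup.mk' _ A) (QuotientGroup.mk' _ B)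
  rw [← map_mul, ← map_mul] at h1
  have h2 : (A * B)⁻¹ * (B * A) ∈ Subgroup.center (SpecialLinearGroup (Fin 2) F) := QuotientGroup.eq.1 h1
  rw [Matrix.SpecialLinearGroup.mem_center_iff] at h2
  obtain ⟨c, -, hc⟩ := h2
  have h3 : (B * A : SpecialLinearGroup (Fin 2) F) = (A * B) * ((A * B)⁻¹ * (B * A)) := by group
  have h4 := congrArg Subtype.val h3
  change !![1, 0; 1, 1] * !![1, 1; 0, 1] = (!![1, 1; 0, 1] * !![1, 0; 1, 1]) *
    (((A * B)⁻¹ * (B * A) : SpecialLinearGroup (Fin 2) F) : Matrix (Fin 2) (Fin 2) F) at h4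
  rw [← hc] at h4
  have h5 := congrFun (congrFun h4 0) 0
  have h6 := congrFun (congrFun h4 0) 1
  simp [Matrix.mul_apply, Fin.sum_univ_two] at h5 h6
  rw [← h6] at h5
  have h7 : (1 : F) = 0 := by linear_combination -h5
  exact one_ne_zero h7

/-- **The row of S4129 for `PSL_n(q)` in its own characteristic.** -/
theorem regB_psl {S : Type u} [Group S] [Finite S] [IsSimpleGroup S] {l : ℕ} (h : Cfsg.IsPSLChar l S) {q : ℕ}
    (hq : q.Prime) (hql : q ≠ l) (hd : q ∣ Nat.card S) : RegB S l q := by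
  obtain ⟨F, i1, i2, i3, n, hn, h4, ⟨e⟩⟩ := h
  have hl : l.Prime := (CharP.char_is_prime_or_zero F l).resolve_right (CharP.char_ne_zero_of_finite F l)
  rcases hn.eq_or_lt with rfl | hn3
  · refine H740.RegRankOne.regB_psl2 (fun hc => psl2_na (F := F) fun a b => ?_) (h4 rfl) e hl hq hd
    apply e.symm.injective
    rw [map_mul, map_mul]
    exact hc _ _
  obtain ⟨k, rfl⟩ : ∃ k, n = 2 + k := ⟨n - 2, by omega⟩
  have hq1 : 1 < Fintype.card F := Fintype.one_lt_card
  have hlF : l ∣ Fintype.card F := by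
    obtain ⟨m, -, hm⟩ := FiniteField.card F l
    rw [hm]
    exact dvd_pow_self l m.ne_zero
  -- a prime dividing `q₀ ^ m - 1` is not `l`
  have hne : ∀ t m : ℕ, m ≠ 0 → t ∣ Fintype.card F ^ m - 1 → t.Prime → t ≠ l := by
    rintro t m hm h1 ht rfl
    have h2 : t ∣ Fintype.card F ^ m := dvd_pow hlF hm
    have h3 : 1 ≤ Fintype.card F ^ m := Nat.one_le_pow _ _ (by omega)
    have h5 := (Nat.dvd_sub h2 h1)
    rw [Nat.sub_sub_self h3] at h5
    exact ht.one_lt.ne' (Nat.dvd_one.1 h5)
  obtain ⟨r, e₀, hr, hord, he1, he2, he3⟩ : ∃ r e₀ : ℕ, r.Prime ∧ orderOf ((Fintype.card F : ℕ) : ZMod r) = e₀ ∧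
      3 ≤ e₀ ∧ e₀ ≤ 2 + k ∧ k < e₀ := by
    by_cases h6 : Fintype.card F = 2 ∧ 2 + k = 6
    · refine ⟨31, 5, by norm_num, ?_, by norm_num, by omega, by omega⟩
      rw [h6.1]
      have : Fact (Nat.Prime 5) := ⟨by norm_num⟩
      exact orderOf_eq_prime (by decide) (by decide)
    · obtain ⟨r, hr, hord⟩ := Lib.Zsigmondy.exists_prime_orderOf (a := Fintype.card F) (n := 2 + k) (by omega) (by omega)
        (fun h => by omega) h6
      exact ⟨r, 2 + k, hr, hord, by omega, le_rfl, by omega⟩
  have hre : r ∣ Fintype.card F ^ e₀ - 1 := (Lib.Zsigmondy.dvd_pow_sub_one_iff (by omega) _).2 (by rw [hord])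
  have hr1 : ¬ r ∣ Fintype.card F - 1 := by
    intro h1
    have h2 : r ∣ Fintype.card F ^ 1 - 1 := by rwa [pow_one]
    rw [Lib.Zsigmondy.dvd_pow_sub_one_iff (by omega), hord] at h2
    have := Nat.le_of_dvd one_pos h2
    omega
  have hrl : r ≠ l := hne r e₀ (by omega) hre hr
  have hrX := dvd_card (F := F) (k := k) hr (by omega) he2 hre hr1
  have hN : finrank F (Fin 2 ⊕ Fin k → F) = 2 + k := by
    rw [Module.finrank_fintype_fun_eq_card, Fintype.card_sum, Fintype.card_fin, Fintype.card_fin]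
  have hord' : orderOf ((Nat.card F : ℕ) : ZMod r) = e₀ := by rw [Nat.card_eq_fintype_card, hord]
  by_cases hq2 : q ∣ Fintype.card F ^ 2 - 1
  · obtain ⟨y, hy1, hy2⟩ := exists_cor (F := F) (l := l) hq hql hq2 k
    refine regB_of_mid (prj_surj e) (fun z hz x => prj_central e hz x) rho_inj hl hq hr hrl hrX
      (fun h => hr1 (ker_prime e hr h)) hord' (by omega) (y := y) (k := 1) (by rw [pow_one, hy1]) ?_ ?_
    · rw [hN, hy2]
      omega
    · rw [hy2]
      exact he3
  · obtain ⟨t, ht, htd⟩ : ∃ t : ℕ, t.Prime ∧ t ∣ Fintype.card F ^ 2 - 1 := by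
      apply Nat.exists_prime_and_dvd
      have : 2 ^ 2 ≤ Fintype.card F ^ 2 := Nat.pow_le_pow_left (by omega) 2
      omega
    obtain ⟨y, hy1, hy2⟩ := exists_cor (F := F) (l := l) ht (hne t 2 (by norm_num) htd ht) htd k
    have hq1' : ¬ q ∣ Fintype.card F - 1 := by
      intro h1
      apply hq2
      have h2 : Fintype.card F ^ 2 - 1 = (Fintype.card F + 1) * (Fintype.card F - 1) := by
        rw [← Nat.sq_sub_sq, one_pow]
      rw [h2]
      exact h1.mul_left _
    have hf : 3 ≤ orderOf ((Nat.card F : ℕ) : ZMod q) := by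
      rw [Nat.card_eq_fintype_card]
      have : Fact q.Prime := ⟨hq⟩
      have h0 : ((Fintype.card F : ℕ) : ZMod q) ≠ 0 := by
        rw [Ne, ZMod.natCast_eq_zero_iff]
        intro h1
        obtain ⟨m, -, hm⟩ := FiniteField.card F l
        rw [hm] at h1
        exact hql ((Nat.prime_dvd_prime_iff_eq hq hl).1 (hq.dvd_of_dvd_pow h1))
      have h1 : orderOf ((Fintype.card F : ℕ) : ZMod q) ≠ 0 := by
        have := orderOf_pos (Units.mk0 _ h0)
        rw [← orderOf_units, Units.val_mk0] at this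
        omega
      have h2 : orderOf ((Fintype.card F : ℕ) : ZMod q) ≠ 1 := by
        intro h2
        apply hq1'
        have := (Lib.Zsigmondy.dvd_pow_sub_one_iff (a := Fintype.card F) (r := q) (by omega) 1).2 (by rw [h2])
        rwa [pow_one] at this
      have h3 : orderOf ((Fintype.card F : ℕ) : ZMod q) ≠ 2 := by
        intro h3
        exact hq2 ((Lib.Zsigmondy.dvd_pow_sub_one_iff (a := Fintype.card F) (r := q) (by omega) 2).2 (by rw [h3]))
      omega
    refine regB_of_small (prj_surj e) (fun z hz x => prj_central e hz x) rho_inj hl hq hr hrl hrX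
      (fun h => hr1 (ker_prime e hr h)) hord' (by omega) hd (fun h => hq1' (ker_prime e hq h)) rfl (s := y) ?_ ?_ ?_
    · rw [hy1]
      intro h1
      exact hne t 2 (by norm_num) htd ht ((Nat.prime_dvd_prime_iff_eq hl ht).1 h1).symm
    · rw [hN, hy2]
      omega
    · rw [hy2]
      exact he3

end Cfsg.Agent.H458.RegPsl
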