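import Cfsg.Agent.H458.Zs
import Cfsg.Agent.H458.Quot
import Cfsg.Agent.H568.LinP
import Cfsg.Agent.H568.RowTools
import Cfsg.Agent.Schreier.ClassPSp
import Cfsg.Agent.ClassicalGeometry.SympGamma
import Cfsg.Agent.LieClassical.SympCenter
import Cfsg.Agent.LieClassical.SympCount

/-!
# Elements of primitive prime order of symplectic groups
-/

set_option autoImplicit false
set_option linter.unusedSectionVars false

namespace Cfsg.Agent.H458.SpOp

open Cfsg Module Matrix Subgroup Cfsg.Agent.H568 Cfsg.Agent.H689 Cfsg.Agent.H458.Zs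
open Cfsg.Agent.ClassicalGeometry.SympBasic Cfsg.Agent.ClassicalGeometry.SympAutSemi

variable (m : ℕ) (F : Type) [Field F]

/-- the operator of a symplectic matrix -/
def op : Matrix.symplecticGroup (Fin m) F →* End F (Fin m ⊕ Fin m → F) :=
  ((Matrix.toLinAlgEquiv' : Matrix (Fin m ⊕ Fin m) (Fin m ⊕ Fin m) F ≃ₐ[F] _).toAlgHom.toMonoidHom).comp
    (Matrix.symplecticGroup (Fin m) F).subtype

variable {m F}

theorem op_apply (g : Matrix.symplecticGroup (Fin m) F) (v : Fin m ⊕ Fin m → F) :
    op m F g v = (g : Matrix (Fin m ⊕ Fin m) (Fin m ⊕ Fin m) F) *ᵥ v := rfl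

theorem op_injective : Function.Injective (op m F) := by
  intro a b h
  apply Subtype.ext
  have h1 : (Matrix.toLinAlgEquiv' (a : Matrix (Fin m ⊕ Fin m) (Fin m ⊕ Fin m) F) :
      End F (Fin m ⊕ Fin m → F)) = Matrix.toLinAlgEquiv' (b : Matrix (Fin m ⊕ Fin m) (Fin m ⊕ Fin m) F) := h
  exact Matrix.toLinAlgEquiv'.injective h1

theorem op_form (g : Matrix.symplecticGroup (Fin m) F) (v w : Fin m ⊕ Fin m → F) :
    sympBilin m F (op m F g v) (op m F g w) = sympBilin m F v w := by
  rw [sympBilin_apply, sympBilin_apply, op_apply, op_apply, sympForm_mulVec g.2]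

theorem nondeg (w : Fin m ⊕ Fin m → F) (h : ∀ v, sympBilin m F v w = 0) : w = 0 :=
  eq_zero_of_forall_sympForm_left h

theorem finrank_V : finrank F (Fin m ⊕ Fin m → F) = 2 * m := by
  rw [Module.finrank_fintype_fun_eq_card, Fintype.card_sum, Fintype.card_fin, two_mul]

variable [Fintype F]

theorem sit {y : Matrix.symplecticGroup (Fin m) F} {l D : ℕ} (hy : orderOf y = l)
    (hppd : Ppd (Fintype.card F) D l) (hD0 : 0 < D) (hD : 2 * m < 2 * D) : Sit (op m F y) l D where
  pow := by rw [← map_pow, ← hy, pow_orderOf_eq_one, map_one]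
  ne := by
    intro h
    have h1 : y = 1 := op_injective (by rw [h, map_one])
    rw [h1, orderOf_one] at hy
    exact hppd.prime.one_lt.ne hy
  ppd := hppd
  pos := hD0
  dim := by rw [finrank_V]; exact hD

/-- commuting with an irreducible element of primitive prime order -/
theorem pow_eq_one {y s : Matrix.symplecticGroup (Fin m) F} {l : ℕ} (hy : orderOf y = l)
    (hppd : Ppd (Fintype.card F) (2 * m) l) (hm : 0 < m) (hs : s * y = y * s) :
    s ^ (Fintype.card F ^ m + 1) = 1 := by
  have S := sit hy hppd (by omega) (by omega)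
  apply op_injective
  rw [map_pow, map_one]
  refine LinearMap.ext fun v => ?_
  have h1 : v ∈ W (op m F y) := by rw [S.W_top finrank_V]; exact Submodule.mem_top
  refine S.pow_eq (sympBilin m F) (op_form y) nondeg ?_ (op_form s) h1
  intro v
  rw [← Module.End.mul_apply, ← Module.End.mul_apply, ← map_mul, ← map_mul, hs]

theorem eq_one_of_fixed {y s : Matrix.symplecticGroup (Fin m) F} {l : ℕ} (hy : orderOf y = l)
    (hppd : Ppd (Fintype.card F) (2 * m) l) (hm : 0 < m) (hs : s * y = y * s) {v₀ : Fin m ⊕ Fin m → F}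
    (hv0 : v₀ ≠ 0) (hf : op m F s v₀ = v₀) : s = 1 := by
  have S := sit hy hppd (by omega) (by omega)
  have htop : ∀ v, v ∈ W (op m F y) := fun v => by rw [S.W_top finrank_V]; exact Submodule.mem_top
  apply op_injective
  rw [map_one]
  refine LinearMap.ext fun v => ?_
  refine S.triv_of_fix ?_ (htop v₀) hv0 hf (htop v)
  intro v
  rw [← Module.End.mul_apply, ← Module.End.mul_apply, ← map_mul, ← map_mul, hs]

/-- commuting with an element of order primitive for `2 (m - 1)` -/
theorem exists_fixed_of_comm {y s : Matrix.symplecticGroup (Fin m) F} {l p : ℕ} (hy : orderOf y = l)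
    (hppd : Ppd (Fintype.card F) (2 * (m - 1)) l) (hm : 3 ≤ m) (hs : s * y = y * s) (hp : p.Prime) (hsp : s ^ p = 1)
    (hpm : ¬ p ∣ Fintype.card F ^ (m - 1) + 1) : ∃ v : Fin m ⊕ Fin m → F, v ≠ 0 ∧ op m F s v = v := by
  have S := sit hy hppd (by omega) (by omega)
  obtain ⟨v, hv, hv0⟩ := S.exists_ne
  refine ⟨v, hv0, ?_⟩
  have hs' : ∀ v, op m F s (op m F y v) = op m F y (op m F s v) := fun v => by
    rw [← Module.End.mul_apply, ← Module.End.mul_apply, ← map_mul, ← map_mul, hs]
  have h1 := S.pow_eq (sympBilin m F) (op_form y) nondeg hs' (op_form s) hv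
  obtain ⟨a, b, hab⟩ : ∃ a b : ℕ, (Fintype.card F ^ (m - 1) + 1) * a = p * b + 1 := by
    have hc : Nat.Coprime (Fintype.card F ^ (m - 1) + 1) p := ((Nat.Prime.coprime_iff_not_dvd hp).2 hpm).symm
    obtain ⟨a, ha⟩ := Nat.exists_mul_mod_eq_one_of_coprime hc hp.one_lt
    refine ⟨a, (Fintype.card F ^ (m - 1) + 1) * a / p, ?_⟩
    have := Nat.div_add_mod ((Fintype.card F ^ (m - 1) + 1) * a) p
    rw [ha.2] at this
    exact this.symm
  have h2 : ∀ n : ℕ, ((op m F s) ^ ((Fintype.card F ^ (m - 1) + 1) * n)) v = v := by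
    intro n
    induction n with
    | zero => rfl
    | succ n ih => rw [mul_add, mul_one, pow_add, Module.End.mul_apply, h1, ih]
  have h3 := h2 a
  rw [hab, pow_succ, pow_mul, ← map_pow, hsp, map_one, one_pow, one_mul] at h3
  exact h3

/-- the matrices as units -/
def toGL (m : ℕ) (F : Type) [Field F] : Matrix.symplecticGroup (Fin m) F →* GL (Fin m ⊕ Fin m) F :=
  (Matrix.symplecticGroup (Fin m) F).subtype.toHomUnits

theorem coe_toGL (g : Matrix.symplecticGroup (Fin m) F) :
    (toGL m F g : Matrix (Fin m ⊕ Fin m) (Fin m ⊕ Fin m) F) = g := rfl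

theorem toGL_eq_one {g : Matrix.symplecticGroup (Fin m) F} (h : toGL m F g = 1) : g = 1 := by
  apply Subtype.ext
  rw [← coe_toGL, h]
  rfl

theorem det_J : (Matrix.J (Fin m) F).det ≠ 0 := by
  have := SymplecticGroup.J_mem (l := Fin m) (R := F)
  exact (Matrix.isUnit_det_J (Fin m) F).ne_zero

/-- elements of primitive prime order centralise the `p`-subgroups which they normalise -/
theorem pcent {y : Matrix.symplecticGroup (Fin m) F} {l D p : ℕ} [hp : Fact p.Prime] (hp2 : p ≠ 2) (hlp : l ≠ p)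
    (hy : orderOf y = l) (hppd : Ppd (Fintype.card F) D l) (hl2 : l ≠ 2) (hD : 2 * m < 2 * l)
    (hpF : (p : F) ≠ 0) : PCent p y := by
  intro Q hQ hx
  refine linP_form (toGL m F) hp.1 hp2 hppd.prime hlp hpF Q hQ (fun g _ h => toGL_eq_one h) y hx ?_ hl2 ?_
    (Matrix.J (Fin m) F) det_J ?_
  · intro g _
    rw [← hy, pow_orderOf_eq_one, one_mul, mul_one]
  · rw [Fintype.card_sum, Fintype.card_fin]; omega
  · intro g _
    rw [coe_toGL]
    exact SymplecticGroup.mem_iff'.1 g.2

theorem pcent_char {y : Matrix.symplecticGroup (Fin m) F} {l p : ℕ} [hp : Fact p.Prime]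
    (hy : orderOf y = l) (hppd : Ppd (Fintype.card F) (2 * m) l) (hm : 0 < m)
    (hpF : (p : F) = 0) : PCent p y := by
  intro Q hQ hx g hg
  have h1 := Sit.trivial_of_normal (op m F) op_injective (x := y) (l := l)
    (by rw [finrank_V]; exact sit hy hppd (by omega) (by omega)) hpF hQ hx g hg
  rw [h1, mul_one, one_mul]

/-! ### the centre -/

theorem center_card (hm : 1 ≤ m) {l : ℕ} (hl : l.Prime) (hl2 : l ≠ 2) :
    l.Coprime (Nat.card (center (Matrix.symplecticGroup (Fin m) F))) := by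
  rw [LieClassical.SympCenter.card_center hm]
  have h1 : l.Coprime 2 := (Nat.coprime_primes hl Nat.prime_two).2 hl2
  exact Nat.Coprime.coprime_dvd_right (Nat.gcd_dvd_left _ _) h1

/-- the projection -/
abbrev pr (m : ℕ) (F : Type) [Field F] : Matrix.symplecticGroup (Fin m) F →* PSp m F :=
  QuotientGroup.mk' _

theorem ker_pr : (pr m F).ker = center (Matrix.symplecticGroup (Fin m) F) := QuotientGroup.ker_mk' _

theorem surj_pr : Function.Surjective (pr m F) := QuotientGroup.mk'_surjective _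

theorem coprime_ker (hm : 1 ≤ m) {l : ℕ} (hl : l.Prime) (hl2 : l ≠ 2) : l.Coprime (Nat.card (pr m F).ker) := by
  rw [ker_pr]; exact center_card hm hl hl2

/-- lifting elements of prime order -/
theorem exists_lift (hm : 1 ≤ m) {l : ℕ} (hl : l.Prime) (hl2 : l ≠ 2) (x : PSp m F) (hx : orderOf x = l) :
    ∃ g : Matrix.symplecticGroup (Fin m) F, pr m F g = x ∧ orderOf g = l := by
  obtain ⟨g, h1, h2⟩ := Quot.exists_lift (pr m F) surj_pr (coprime_ker hm hl hl2) x (by rw [← hx, pow_orderOf_eq_one])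
  refine ⟨g, h1, ?_⟩
  have : Fact l.Prime := ⟨hl⟩
  apply orderOf_eq_prime h2
  rintro rfl
  rw [map_one] at h1
  rw [← h1, orderOf_one] at hx
  exact hl.one_lt.ne hx

theorem orderOf_pr (hm : 1 ≤ m) {l : ℕ} (hl : l.Prime) (hl2 : l ≠ 2) {g : Matrix.symplecticGroup (Fin m) F}
    (hg : orderOf g = l) : orderOf (pr m F g) = l := by
  have : Fact l.Prime := ⟨hl⟩
  apply orderOf_eq_prime
  · rw [← map_pow, ← hg, pow_orderOf_eq_one, map_one]
  · intro h1
    have h2 : g = 1 := by
      refine Quot.eq_of_map_eq (pr m F) ker_pr.le (coprime_ker hm hl hl2) (l := l) ?_ (one_pow l) ?_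
      · rw [← hg, pow_orderOf_eq_one]
      · rw [h1, map_one]
    rw [h2, orderOf_one] at hg
    exact hl.one_lt.ne hg

end Cfsg.Agent.H458.SpOp
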