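import Mathlib
import Cfsg.Agent.H202.T.Defs

/-!
# Arithmetic for block T (S3537), unitary groups (helper458)

* `Lst p q N k` : `k * N` is one of the members of the list `InL p q` (integers);
* `elim_one`, `elim_two` : the two torus equations.
-/

set_option autoImplicit false

namespace Cfsg.Agent.H458.TPsuNum

open Cfsg.Agent.H202.T

/-- the list, over the integers -/
def Lst (p q N k : ℤ) : Prop :=
  2 * (k * N) = q ^ 4 + 1 ∨ 2 * (k * N) = q ^ 4 - 1 ∨ 2 * (k * N) = (q ^ 3 + 1) * (q - 1) ∨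
    2 * (k * N) = (q ^ 3 - 1) * (q + 1) ∨ k * N = p * (q ^ 3 + 1) ∨ k * N = p * (q ^ 3 - 1) ∨
    2 * (k * N) = p * ((q ^ 2 + 1) * (q + 1)) ∨ 2 * (k * N) = p * ((q ^ 2 + 1) * (q - 1)) ∨
    k * N = p * (q ^ 2 - 1) ∨ (p = 3 ∧ (k * N = 9 * (q ^ 2 + 1) ∨ k * N = 9 * (q ^ 2 - 1))) ∨
    (p = 5 ∧ (k * N = 25 * (q + 1) ∨ k * N = 25 * (q - 1))) ∨ (p = 7 ∧ k * N = 98)

theorem lst_of_inL {p q N : ℕ} (hq : Odd q) (h : InL p q N) : ∃ k : ℤ, Lst p q N k := by
  obtain ⟨c, rfl⟩ := hq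
  have h4 : (1 : ℕ) ≤ (2 * c + 1) ^ 4 := Nat.one_le_pow _ _ (by omega)
  have h3 : (1 : ℕ) ≤ (2 * c + 1) ^ 3 := Nat.one_le_pow _ _ (by omega)
  have h2 : (1 : ℕ) ≤ (2 * c + 1) ^ 2 := Nat.one_le_pow _ _ (by omega)
  have ev : 2 * (((2 * c + 1) ^ 4 - 1) / 2) = (2 * c + 1) ^ 4 - 1 := by
    apply Nat.mul_div_cancel'
    have : (2 * c + 1) ^ 4 = 2 * (8 * c ^ 4 + 16 * c ^ 3 + 12 * c ^ 2 + 4 * c) + 1 := by ring
    rw [this, Nat.add_sub_cancel]
    exact dvd_mul_right _ _
  have em : 2 * mm (2 * c + 1) = (2 * c + 1) ^ 4 + 1 := two_mm ⟨c, rfl⟩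
  have e1 : (2 * c + 1 - 1) / 2 = c := by omega
  have e2 : (2 * c + 1 + 1) / 2 = c + 1 := by omega
  rw [InL, e1, e2] at h
  rcases h with h | h | h | h | h | h | h | h | h | ⟨hp, h | h⟩ | ⟨hp, h | h⟩ | ⟨hp, h⟩ <;> obtain ⟨k, hk⟩ := h <;>
    refine ⟨k, ?_⟩
  · refine Or.inl ?_
    rw [hk] at em
    push_cast [← em]
    zify at em
    linear_combination em
  · refine Or.inr (Or.inl ?_)
    rw [hk] at ev
    zify [h4] at ev
    push_cast
    linear_combination ev
  · refine Or.inr (Or.inr (Or.inl ?_))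
    zify at hk
    push_cast
    linear_combination -2 * hk
  · refine Or.inr (Or.inr (Or.inr (Or.inl ?_)))
    zify [h3] at hk
    push_cast
    linear_combination -2 * hk
  · refine Or.inr (Or.inr (Or.inr (Or.inr (Or.inl ?_))))
    zify at hk
    push_cast
    linear_combination -hk
  · refine Or.inr (Or.inr (Or.inr (Or.inr (Or.inr (Or.inl ?_)))))
    zify [h3] at hk
    push_cast
    linear_combination -hk
  · refine Or.inr (Or.inr (Or.inr (Or.inr (Or.inr (Or.inr (Or.inl ?_))))))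
    zify at hk
    push_cast
    linear_combination -2 * hk
  · refine Or.inr (Or.inr (Or.inr (Or.inr (Or.inr (Or.inr (Or.inr (Or.inl ?_)))))))
    zify at hk
    push_cast
    linear_combination -2 * hk
  · refine Or.inr (Or.inr (Or.inr (Or.inr (Or.inr (Or.inr (Or.inr (Or.inr (Or.inl ?_))))))))
    zify [h2] at hk
    push_cast
    linear_combination -hk
  · refine Or.inr (Or.inr (Or.inr (Or.inr (Or.inr (Or.inr (Or.inr (Or.inr (Or.inr (Or.inl ⟨by exact_mod_cast hp, Or.inl ?_⟩)))))))))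
    zify at hk
    push_cast
    linear_combination -hk
  · refine Or.inr (Or.inr (Or.inr (Or.inr (Or.inr (Or.inr (Or.inr (Or.inr (Or.inr (Or.inl ⟨by exact_mod_cast hp, Or.inr ?_⟩)))))))))
    zify [h2] at hk
    push_cast
    linear_combination -hk
  · refine Or.inr (Or.inr (Or.inr (Or.inr (Or.inr (Or.inr (Or.inr (Or.inr (Or.inr (Or.inr (Or.inl ⟨by exact_mod_cast hp, Or.inl ?_⟩))))))))))
    zify at hk
    push_cast
    linear_combination -hk
  · refine Or.inr (Or.inr (Or.inr (Or.inr (Or.inr (Or.inr (Or.inr (Or.inr (Or.inr (Or.inr (Or.inl ⟨by exact_mod_cast hp, Or.inr ?_⟩))))))))))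
    have e3 : 2 * c + 1 - 1 = 2 * c := by omega
    rw [e3] at hk
    zify at hk
    push_cast
    linear_combination -hk
  · refine Or.inr (Or.inr (Or.inr (Or.inr (Or.inr (Or.inr (Or.inr (Or.inr (Or.inr (Or.inr (Or.inr ⟨by exact_mod_cast hp, ?_⟩))))))))))
    zify at hk
    linear_combination -hk

section

variable {p q N k u e : ℤ}

/-- the powers of `q` -/
theorem pows (hq : 5 ≤ q) : 5 * q ≤ q ^ 2 ∧ 5 * q ^ 2 ≤ q ^ 3 ∧ 5 * q ^ 3 ≤ q ^ 4 := by
  have h0 : 0 ≤ q := by omega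
  refine ⟨by nlinarith, ?_, ?_⟩
  · have := mul_le_mul_of_nonneg_right hq (pow_nonneg h0 2)
    linarith [show q * q ^ 2 = q ^ 3 by ring]
  · have := mul_le_mul_of_nonneg_right hq (pow_nonneg h0 3)
    linarith [show q * q ^ 3 = q ^ 4 by ring]

theorem k_pos (hN : 0 < N) (h : 0 < k * N) : 1 ≤ k := by
  by_contra hk
  push Not at hk
  have : k * N ≤ 0 := mul_nonpos_of_nonpos_of_nonneg (by omega) hN.le
  omega

theorem k_mul {c : ℤ} (hN : 0 < N) (hk : c ≤ k) : c * N ≤ k * N := mul_le_mul_of_nonneg_right hk hN.le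

theorem Lst.pos (hq : 5 ≤ q) (hp : 3 ≤ p) (h : Lst p q N k) : 0 < k * N := by
  obtain ⟨h2, h3, h4⟩ := pows hq
  rcases h with h | h | h | h | h | h | h | h | h | ⟨-, h | h⟩ | ⟨-, h | h⟩ | ⟨-, h⟩
  · omega
  · omega
  · have := mul_pos (show 0 < q ^ 3 + 1 by omega) (show 0 < q - 1 by omega)
    omega
  · have := mul_pos (show 0 < q ^ 3 - 1 by omega) (show 0 < q + 1 by omega)
    omega
  · have := mul_pos (show 0 < p by omega) (show 0 < q ^ 3 + 1 by omega)
    omega
  · have := mul_pos (show 0 < p by omega) (show 0 < q ^ 3 - 1 by omega)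
    omega
  · have := mul_pos (show 0 < p by omega) (mul_pos (show 0 < q ^ 2 + 1 by omega) (show 0 < q + 1 by omega))
    omega
  · have := mul_pos (show 0 < p by omega) (mul_pos (show 0 < q ^ 2 + 1 by omega) (show 0 < q - 1 by omega))
    omega
  · have := mul_pos (show 0 < p by omega) (show 0 < q ^ 2 - 1 by omega)
    omega
  all_goals omega

/-- **First torus equation.** -/
theorem elim_one (hq : 5 ≤ q) (hp : 3 ≤ p) (hpq : p = q ∨ 3 * p ≤ q) (hN : 0 < N) (hu : 2 ≤ u)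
    (he1 : e ≤ 2 * u + 2) (he2 : -(2 * u + 2) ≤ e) (heq : u * (2 * N - (q ^ 4 + 1)) = q ^ 4 + 1 + e)
    (hb : 2 * (u ^ 2 - u + 1) ≤ 3 * (q ^ 4 + 1)) (hk : 1 ≤ k) (h : Lst p q N k) :
    p = q ∧ u = q - 1 ∧ e = -(2 * q) := by
  obtain ⟨h2, h3, h4⟩ := pows hq
  have hD : q ^ 4 + 1 < 2 * N := by
    by_contra hD
    have h5 : u * (2 * N - (q ^ 4 + 1)) ≤ 0 := mul_nonpos_of_nonneg_of_nonpos (by omega) (by omega)
    nlinarith
  have hkN : N ≤ k * N := by nlinarith
  have hk2 : k = 1 ∨ 2 * N ≤ k * N := by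
    rcases eq_or_lt_of_le hk with h | h
    · exact Or.inl h.symm
    · exact Or.inr (k_mul hN (by omega))
  rcases h with h | h | h | h | h | h | h | h | h | ⟨-, h | h⟩ | ⟨-, h | h⟩ | ⟨-, h⟩
  · omega
  · omega
  · have : (q ^ 3 + 1) * (q - 1) = q ^ 4 - q ^ 3 + q - 1 := by ring
    omega
  · have h5 : (q ^ 3 - 1) * (q + 1) = q ^ 4 + q ^ 3 - q - 1 := by ring
    rcases hk2 with rfl | hk2
    · exfalso
      have hD' : 2 * N - (q ^ 4 + 1) = q ^ 3 - q - 2 := by omega
      rw [hD'] at heq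
      rcases le_or_gt u q with h6 | h6
      · nlinarith [mul_le_mul_of_nonneg_right h6 (show 0 ≤ q ^ 3 - q - 2 by omega), show q * (q ^ 3 - q - 2) = q ^ 4 - q ^ 2 - 2 * q by ring]
      · have h7 := mul_le_mul_of_nonneg_right (show q + 1 ≤ u by omega) (show 0 ≤ q ^ 3 - q - 4 by omega)
        have h8 : (q + 1) * (q ^ 3 - q - 4) = q ^ 4 + q ^ 3 - q ^ 2 - 5 * q - 4 := by ring
        have h9 : u * (q ^ 3 - q - 4) = u * (q ^ 3 - q - 2) - 2 * u := by ring
        omega
    · omega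
  · -- `p (q ^ 3 + 1)`
    exfalso
    rcases hpq with rfl | hpq
    · have e5 : p * (p ^ 3 + 1) = p ^ 4 + p := by ring
      rw [e5] at h
      rcases hk2 with rfl | hk2
      · have hD' : 2 * N - (p ^ 4 + 1) = p ^ 4 + 2 * p - 1 := by omega
        rw [hD'] at heq
        have h7 := mul_le_mul_of_nonneg_right hu (show 0 ≤ p ^ 4 + 2 * p - 3 by omega)
        have h9 : u * (p ^ 4 + 2 * p - 3) = u * (p ^ 4 + 2 * p - 1) - 2 * u := by ring
        omega
      · have hk' : k = 2 := by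
          by_contra hk'
          have h5 : 2 ≤ k := by
            by_contra h6
            have : k = 1 := by omega
            rw [this] at hk2
            omega
          have h6 := k_mul hN (show (3 : ℤ) ≤ k by omega)
          omega
        subst hk'
        have hD' : 2 * N - (p ^ 4 + 1) = p - 1 := by omega
        rw [hD'] at heq
        have h7 : (u - (p ^ 3 - p ^ 2 + p - 1)) * (p + 1) = u * (p - 1) + 2 * u - p ^ 4 + 1 := by ring
        have h8 : p ^ 3 - p ^ 2 + p - 1 ≤ u := by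
          by_contra h8
          have := mul_le_mul_of_nonneg_right (show u - (p ^ 3 - p ^ 2 + p - 1) ≤ -1 by omega) (show 0 ≤ p + 1 by omega)
          omega
        have h10 : 4 * p ^ 2 ≤ u := by omega
        have h11 : (4 * p ^ 2) * (4 * p ^ 2) ≤ u * u := mul_le_mul h10 h10 (by omega) (by omega)
        nlinarith
    · have h5 : 3 * (p * (q ^ 3 + 1)) ≤ q * (q ^ 3 + 1) := by
        rw [← mul_assoc]
        exact mul_le_mul_of_nonneg_right hpq (by omega)
      have h6 : q * (q ^ 3 + 1) = q ^ 4 + q := by ring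
      omega
  · -- `p (q ^ 3 - 1)`
    exfalso
    rcases hpq with rfl | hpq
    · have e5 : p * (p ^ 3 - 1) = p ^ 4 - p := by ring
      rw [e5] at h
      rcases hk2 with rfl | hk2
      · have hD' : 2 * N - (p ^ 4 + 1) = p ^ 4 - 2 * p - 1 := by omega
        rw [hD'] at heq
        have h7 := mul_le_mul_of_nonneg_right hu (show 0 ≤ p ^ 4 - 2 * p - 3 by omega)
        have h9 : u * (p ^ 4 - 2 * p - 3) = u * (p ^ 4 - 2 * p - 1) - 2 * u := by ring
        omega
      · omega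
    · have h5 : 3 * (p * (q ^ 3 - 1)) ≤ q * (q ^ 3 - 1) := by
        rw [← mul_assoc]
        exact mul_le_mul_of_nonneg_right hpq (by omega)
      have h6 : q * (q ^ 3 - 1) = q ^ 4 - q := by ring
      omega
  · -- `p (q ^ 2 + 1) (q + 1) / 2`
    rcases hpq with rfl | hpq
    · have e5 : p * ((p ^ 2 + 1) * (p + 1)) = p ^ 4 + p ^ 3 + p ^ 2 + p := by ring
      rw [e5] at h
      rcases hk2 with rfl | hk2
      · have hD' : 2 * N - (p ^ 4 + 1) = p ^ 3 + p ^ 2 + p - 1 := by omega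
        rw [hD'] at heq
        have h9 : u * (p ^ 3 + p ^ 2 + p - 3) = u * (p ^ 3 + p ^ 2 + p - 1) - 2 * u := by ring
        have h10 : u * (p ^ 3 + p ^ 2 + p + 1) = u * (p ^ 3 + p ^ 2 + p - 1) + 2 * u := by ring
        rcases lt_trichotomy u (p - 1) with h6 | h6 | h6
        · exfalso
          have h7 := mul_le_mul_of_nonneg_right (show u ≤ p - 2 by omega) (show 0 ≤ p ^ 3 + p ^ 2 + p + 1 by omega)
          have h8 : (p - 2) * (p ^ 3 + p ^ 2 + p + 1) = p ^ 4 - p ^ 3 - p ^ 2 - p - 2 := by ring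
          omega
        · refine ⟨rfl, h6, ?_⟩
          have h8 : (p - 1) * (p ^ 3 + p ^ 2 + p - 1) = p ^ 4 - 2 * p + 1 := by ring
          rw [h6, h8] at heq
          omega
        · exfalso
          have h7 := mul_le_mul_of_nonneg_right (show p ≤ u by omega) (show 0 ≤ p ^ 3 + p ^ 2 + p - 3 by omega)
          have h8 : p * (p ^ 3 + p ^ 2 + p - 3) = p ^ 4 + p ^ 3 + p ^ 2 - 3 * p := by ring
          omega
      · exfalso
        omega
    · exfalso
      have h5 : 3 * (p * ((q ^ 2 + 1) * (q + 1))) ≤ q * ((q ^ 2 + 1) * (q + 1)) := by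
        rw [← mul_assoc]
        exact mul_le_mul_of_nonneg_right hpq (mul_nonneg (by omega) (by omega))
      have h6 : q * ((q ^ 2 + 1) * (q + 1)) = q ^ 4 + q ^ 3 + q ^ 2 + q := by ring
      omega
  · -- `p (q ^ 2 + 1) (q - 1) / 2`
    exfalso
    rcases hpq with rfl | hpq
    · have e5 : p * ((p ^ 2 + 1) * (p - 1)) = p ^ 4 - p ^ 3 + p ^ 2 - p := by ring
      omega
    · have h5 : 3 * (p * ((q ^ 2 + 1) * (q - 1))) ≤ q * ((q ^ 2 + 1) * (q - 1)) := by
        rw [← mul_assoc]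
        exact mul_le_mul_of_nonneg_right hpq (mul_nonneg (by omega) (by omega))
      have h6 : q * ((q ^ 2 + 1) * (q - 1)) = q ^ 4 - q ^ 3 + q ^ 2 - q := by ring
      omega
  · -- `p (q ^ 2 - 1)`
    exfalso
    have h5 : p * (q ^ 2 - 1) ≤ q * (q ^ 2 - 1) := mul_le_mul_of_nonneg_right (by omega) (by omega)
    have h6 : q * (q ^ 2 - 1) = q ^ 3 - q := by ring
    omega
  · exfalso
    have h5 : 5 * (5 * q ^ 2) ≤ q ^ 4 := by omega
    omega
  · exfalso
    omega
  · exfalso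
    omega
  · exfalso
    omega
  · exfalso
    omega

/-- **Second torus equation.** -/
theorem elim_two (hq : 5 ≤ q) (hp : 3 ≤ p) (hpq : p = q ∨ (p = 3 ∧ q = 9) ∨ 5 * p ≤ q) (hN : 0 < N) (hu : 2 ≤ u)
    (he : e = 2 ∨ e = -2) (heq : (u + 1) * (q ^ 4 + 1 - 2 * N) = q ^ 4 + 1 + e)
    (hb : 2 * (u ^ 3 - 1) ≤ (u + 1) * (q ^ 4 + 1)) (hk : 1 ≤ k) (h : Lst p q N k) : False := by
  obtain ⟨h2, h3, h4⟩ := pows hq
  have hD : 2 * N < q ^ 4 + 1 := by
    by_contra hD
    have h5 : (u + 1) * (q ^ 4 + 1 - 2 * N) ≤ 0 := mul_nonpos_of_nonneg_of_nonpos (by omega) (by omega)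
    omega
  have hD3 : q ^ 4 ≤ 3 * N := by
    have h5 := mul_le_mul_of_nonneg_right (show (3 : ℤ) ≤ u + 1 by omega) (show 0 ≤ q ^ 4 + 1 - 2 * N by omega)
    omega
  have hbig : ∀ c : ℤ, q ^ 4 - 1 ≤ (u + 1) * c → c ≤ q + 1 → False := by
    intro c hc1 hc2
    have h5 := mul_le_mul_of_nonneg_left hc2 (show 0 ≤ u + 1 by omega)
    have h7 : (u + 1 - (q ^ 3 - q ^ 2 + q - 1)) * (q + 1) = (u + 1) * (q + 1) - q ^ 4 + 1 := by ring
    have h8 : q ^ 3 - q ^ 2 + q - 1 ≤ u + 1 := by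
      by_contra h8
      have := mul_le_mul_of_nonneg_right (show u + 1 - (q ^ 3 - q ^ 2 + q - 1) ≤ -1 by omega) (show 0 ≤ q + 1 by omega)
      omega
    have h10 : 4 * q ^ 2 ≤ u := by omega
    have h11 : (4 * q ^ 2) * (4 * q ^ 2) ≤ u * u := mul_le_mul h10 h10 (by omega) (by omega)
    have h12 : 16 * q ^ 4 ≤ u ^ 2 := by nlinarith
    have h13 : u * (16 * q ^ 4) ≤ u * u ^ 2 := mul_le_mul_of_nonneg_left h12 (by omega)
    nlinarith
  have hkN : N ≤ k * N := by nlinarith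
  have hk2 : k = 1 ∨ 2 * N ≤ k * N := by
    rcases eq_or_lt_of_le hk with h | h
    · exact Or.inl h.symm
    · exact Or.inr (k_mul hN (by omega))
  rcases h with h | h | h | h | h | h | h | h | h | ⟨h3p, h | h⟩ | ⟨h5p, h | h⟩ | ⟨-, h⟩
  · rcases hk2 with rfl | hk2
    · omega
    · omega
  · rcases hk2 with rfl | hk2
    · have hD' : q ^ 4 + 1 - 2 * N = 2 := by omega
      rw [hD'] at heq
      exact hbig 2 (by omega) (by omega)
    · omega
  · have h5 : (q ^ 3 + 1) * (q - 1) = q ^ 4 - q ^ 3 + q - 1 := by ring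
    rcases hk2 with rfl | hk2
    · have hD' : q ^ 4 + 1 - 2 * N = q ^ 3 - q + 2 := by omega
      rw [hD'] at heq
      rcases le_or_gt u (q - 1) with h6 | h6
      · have h7 := mul_le_mul_of_nonneg_right (show u + 1 ≤ q by omega) (show 0 ≤ q ^ 3 - q + 2 by omega)
        have h8 : q * (q ^ 3 - q + 2) = q ^ 4 - q ^ 2 + 2 * q := by ring
        omega
      · have h7 := mul_le_mul_of_nonneg_right (show q + 1 ≤ u + 1 by omega) (show 0 ≤ q ^ 3 - q + 2 by omega)
        have h8 : (q + 1) * (q ^ 3 - q + 2) = q ^ 4 + q ^ 3 - q ^ 2 + q + 2 := by ring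
        omega
    · omega
  · have h5 : (q ^ 3 - 1) * (q + 1) = q ^ 4 + q ^ 3 - q - 1 := by ring
    rcases hk2 with rfl | hk2
    · omega
    · omega
  · -- `p (q ^ 3 + 1)`
    rcases hpq with rfl | ⟨rfl, rfl⟩ | hpq
    · have e5 : p * (p ^ 3 + 1) = p ^ 4 + p := by ring
      rw [e5] at h
      have hk4 : k = 1 ∨ k = 2 ∨ k = 3 ∨ 4 * N ≤ k * N := by
        rcases lt_or_ge k 4 with h6 | h6
        · omega
        · exact Or.inr (Or.inr (Or.inr (k_mul hN h6)))
      rcases hk4 with rfl | rfl | rfl | hk4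
      · omega
      · omega
      · have h6 : (u + 1) * (p ^ 4 + 3 - 2 * p) = 3 * (p ^ 4 + 1 + e) := by
          rw [← heq]
          have h7 : p ^ 4 + 3 - 2 * p = 3 * (p ^ 4 + 1 - 2 * N) := by omega
          rw [h7]; ring
        rcases eq_or_lt_of_le hu with h8 | h8
        · rw [← h8] at h6
          omega
        · have h7 := mul_le_mul_of_nonneg_right (show 4 ≤ u + 1 by omega) (show 0 ≤ p ^ 4 + 3 - 2 * p by omega)
          omega
      · omega
    · rcases hk2 with rfl | hk2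
      · norm_num at h
        subst h
        omega
      · omega
    · have h5 : 5 * (p * (q ^ 3 + 1)) ≤ q * (q ^ 3 + 1) := by
        rw [← mul_assoc]
        exact mul_le_mul_of_nonneg_right hpq (by omega)
      have h6 : q * (q ^ 3 + 1) = q ^ 4 + q := by ring
      omega
  · -- `p (q ^ 3 - 1)`
    rcases hpq with rfl | ⟨rfl, rfl⟩ | hpq
    · have e5 : p * (p ^ 3 - 1) = p ^ 4 - p := by ring
      rw [e5] at h
      have hk4 : k = 1 ∨ k = 2 ∨ k = 3 ∨ 4 * N ≤ k * N := by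
        rcases lt_or_ge k 4 with h6 | h6
        · omega
        · exact Or.inr (Or.inr (Or.inr (k_mul hN h6)))
      rcases hk4 with rfl | rfl | rfl | hk4
      · omega
      · have hD' : p ^ 4 + 1 - 2 * N = p + 1 := by omega
        rw [hD'] at heq
        exact hbig (p + 1) (by omega) le_rfl
      · have h6 : (u + 1) * (p ^ 4 + 3 + 2 * p) = 3 * (p ^ 4 + 1 + e) := by
          rw [← heq]
          have h7 : p ^ 4 + 3 + 2 * p = 3 * (p ^ 4 + 1 - 2 * N) := by omega
          rw [h7]; ring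
        have h7 := mul_le_mul_of_nonneg_right (show 3 ≤ u + 1 by omega) (show 0 ≤ p ^ 4 + 3 + 2 * p by omega)
        omega
      · omega
    · rcases hk2 with rfl | hk2
      · norm_num at h
        subst h
        omega
      · omega
    · have h5 : 5 * (p * (q ^ 3 - 1)) ≤ q * (q ^ 3 - 1) := by
        rw [← mul_assoc]
        exact mul_le_mul_of_nonneg_right hpq (by omega)
      have h6 : q * (q ^ 3 - 1) = q ^ 4 - q := by ring
      omega
  · -- `p (q ^ 2 + 1) (q + 1) / 2`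
    have hpq' : p = q ∨ 3 * p ≤ q := by omega
    rcases hpq' with rfl | hpq'
    · have e5 : p * ((p ^ 2 + 1) * (p + 1)) = p ^ 4 + p ^ 3 + p ^ 2 + p := by ring
      rw [e5] at h
      rcases hk2 with rfl | hk2
      · omega
      · omega
    · have h5 : 3 * (p * ((q ^ 2 + 1) * (q + 1))) ≤ q * ((q ^ 2 + 1) * (q + 1)) := by
        rw [← mul_assoc]
        exact mul_le_mul_of_nonneg_right hpq' (mul_nonneg (by omega) (by omega))
      have h6 : q * ((q ^ 2 + 1) * (q + 1)) = q ^ 4 + q ^ 3 + q ^ 2 + q := by ring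
      rcases hk2 with rfl | hk2 <;> omega
  · -- `p (q ^ 2 + 1) (q - 1) / 2`
    have hpq' : p = q ∨ 3 * p ≤ q := by omega
    rcases hpq' with rfl | hpq'
    · have e5 : p * ((p ^ 2 + 1) * (p - 1)) = p ^ 4 - p ^ 3 + p ^ 2 - p := by ring
      rw [e5] at h
      rcases hk2 with rfl | hk2
      · have hD' : p ^ 4 + 1 - 2 * N = p ^ 3 - p ^ 2 + p + 1 := by omega
        rw [hD'] at heq
        rcases lt_trichotomy u p with h6 | h6 | h6
        · have h7 := mul_le_mul_of_nonneg_right (show u + 1 ≤ p by omega) (show 0 ≤ p ^ 3 - p ^ 2 + p + 1 by omega)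
          have h8 : p * (p ^ 3 - p ^ 2 + p + 1) = p ^ 4 - p ^ 3 + p ^ 2 + p := by ring
          omega
        · have h8 : (p + 1) * (p ^ 3 - p ^ 2 + p + 1) = p ^ 4 + 2 * p + 1 := by ring
          rw [h6, h8] at heq
          omega
        · have h7 := mul_le_mul_of_nonneg_right (show p + 2 ≤ u + 1 by omega) (show 0 ≤ p ^ 3 - p ^ 2 + p + 1 by omega)
          have h8 : (p + 2) * (p ^ 3 - p ^ 2 + p + 1) = p ^ 4 + p ^ 3 - p ^ 2 + 3 * p + 2 := by ring
          omega
      · omega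
    · have h5 : 3 * (p * ((q ^ 2 + 1) * (q - 1))) ≤ q * ((q ^ 2 + 1) * (q - 1)) := by
        rw [← mul_assoc]
        exact mul_le_mul_of_nonneg_right hpq' (mul_nonneg (by omega) (by omega))
      have h6 : q * ((q ^ 2 + 1) * (q - 1)) = q ^ 4 - q ^ 3 + q ^ 2 - q := by ring
      rcases hk2 with rfl | hk2 <;> omega
  · -- `p (q ^ 2 - 1)`
    have h5 : p * (q ^ 2 - 1) ≤ q * (q ^ 2 - 1) := mul_le_mul_of_nonneg_right (by omega) (by omega)
    have h6 : q * (q ^ 2 - 1) = q ^ 3 - q := by ring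
    rcases hk2 with rfl | hk2 <;> omega
  · have h9 : 9 ≤ q := by omega
    have h6 : 9 * q ^ 3 ≤ q ^ 4 := by
      have := mul_le_mul_of_nonneg_right h9 (pow_nonneg (show 0 ≤ q by omega) 3)
      linarith [show q * q ^ 3 = q ^ 4 by ring]
    rcases hk2 with rfl | hk2 <;> omega
  · have h9 : 9 ≤ q := by omega
    have h6 : 9 * q ^ 3 ≤ q ^ 4 := by
      have := mul_le_mul_of_nonneg_right h9 (pow_nonneg (show 0 ≤ q by omega) 3)
      linarith [show q * q ^ 3 = q ^ 4 by ring]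
    rcases hk2 with rfl | hk2 <;> omega
  · rcases hk2 with rfl | hk2 <;> omega
  · rcases hk2 with rfl | hk2 <;> omega
  · rcases hk2 with rfl | hk2 <;> omega

end

end Cfsg.Agent.H458.TPsuNum
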