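import Cfsg.Agent.H944.TS.Iface
import Cfsg.Agent.H292.OrthTwo
import Cfsg.Agent.H292.Oct
import Cfsg.Agent.H292.Rows
import Cfsg.Agent.H749.MatIso
import Cfsg.Agent.S2678

/-!
# Embeddings between the classical groups inside `²E₆(2)` (helper458, task 971 for S5741)

* `X1` : `Sp₈(2) ≤ Ω⁻₁₀(2)`;  `X2` : `Sp₆(2) ≤ Sp₈(2)`;  `X3` : `Sp₄(4) ≤ Sp₈(2)`;
* `X4`, `X5` : `Ω⁺₈(2), Ω⁻₈(2) ≤ Sp₈(2)`;  `X6` : `L₂(16) ≤ Sp₄(4)`.
-/

set_option autoImplicit false

namespace Cfsg.Agent.H458.TSA3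

open Cfsg Cfsg.Agent.OrdDiv Cfsg.Agent.H944.TS Matrix
open Cfsg.Agent.H198.Carriers Cfsg.Agent.ClassicalGeometry.OrthSemi
open Cfsg.Agent.ClassicalGeometry.Reflection
open QuadraticMap

universe u

theorem charP_two {F : Type*} [Field F] [Fintype F] {n : ℕ} (h : Fintype.card F = 2 ^ n) : CharP F 2 := by
  have := Fact.mk Nat.prime_two
  obtain ⟨p, hp⟩ := CharP.exists F
  obtain ⟨m, hp', hc⟩ := FiniteField.card F p
  rw [h] at hc
  have : p ∣ 2 ^ n := by rw [hc]; exact dvd_pow_self p m.ne_zero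
  have := (Nat.prime_dvd_prime_iff_eq hp' Nat.prime_two).1 (hp'.dvd_of_dvd_pow this)
  subst this
  exact hp

/-- embedding at the level of Sp -/
theorem psp_of_sp {F : Type*} [Field F] [CharP F 2] {m : ℕ} {X : Type u} [Group X] (e : X ≃* PSp m F) :
    Nonempty (X ≃* ↥(symplecticGroup (Fin m) F)) :=
  ⟨e.trans (H292.SpCen.spEquiv m).symm⟩

theorem sub_of_hom {F K : Type} [Field F] [Fintype F] [Field K] [Fintype K] [CharP F 2] [CharP K 2] {m n : ℕ}
    {X : Type u} [Group X] (e : X ≃* PSp m F) (f : ↥(symplecticGroup (Fin n) K) →* ↥(symplecticGroup (Fin m) F))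
    (hf : Function.Injective f) : ∃ L : Subgroup X, Nonempty (↥L ≃* PSp n K) := by
  obtain ⟨e'⟩ := psp_of_sp e
  let g : PSp n K →* X := (e'.symm.toMonoidHom.comp f).comp (H292.SpCen.spEquiv n).symm.toMonoidHom
  have hg : Function.Injective g := (e'.symm.injective.comp hf).comp (H292.SpCen.spEquiv n).symm.injective
  exact ⟨g.range, ⟨(MonoidHom.ofInjective hg).symm⟩⟩

theorem X2 : Sub.{u} (.psp 4 2) (.psp 3 2) := by
  intro X _ ⟨F, i1, i2, hF, ⟨e⟩⟩
  have := charP_two (n := 1) (by rw [hF]; rfl)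
  obtain ⟨L, hL⟩ := sub_of_hom e (H292.Oct.ext1 3 1) (H292.Oct.ext1_injective 3 1)
  exact ⟨L, F, i1, i2, hF, hL⟩

theorem X3 : Sub.{u} (.psp 4 2) (.psp 2 4) := by
  intro X _ ⟨F, i1, i2, hF, ⟨e⟩⟩
  have := charP_two (n := 1) (by rw [hF]; rfl)
  have := Fact.mk Nat.prime_two
  let _ : Fintype (GaloisField 2 2) := Fintype.ofFinite _
  have hK : Fintype.card (GaloisField 2 2) = 4 := by
    rw [← Nat.card_eq_fintype_card, GaloisField.card 2 2 two_ne_zero]; rfl
  obtain ⟨f, hf⟩ := S2678.result (K := GaloisField 2 2) (F := F) (q := 2) (by rw [hK]; rfl) hF 2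
  obtain ⟨L, hL⟩ := sub_of_hom e f hf
  exact ⟨L, GaloisField 2 2, inferInstance, inferInstance, hK, hL⟩

theorem X6 : Sub.{u} (.psp 2 4) (.psl 2 16) := by
  intro X _ ⟨F, i1, i2, hF, ⟨e⟩⟩
  have := charP_two (n := 2) (by rw [hF]; rfl)
  have := Fact.mk Nat.prime_two
  let _ : Fintype (GaloisField 2 4) := Fintype.ofFinite _
  have hK : Fintype.card (GaloisField 2 4) = 16 := by
    rw [← Nat.card_eq_fintype_card, GaloisField.card 2 4 four_ne_zero]; rfl
  obtain ⟨f, hf⟩ := S2678.result (K := GaloisField 2 4) (F := F) (q := 4) (by rw [hK]; rfl) hF 1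
  obtain ⟨L, ⟨eL⟩⟩ := sub_of_hom e f hf
  exact ⟨L, GaloisField 2 4, inferInstance, inferInstance, hK, ⟨eL.trans (H292.Rows.pspOne _)⟩⟩

section Orth

variable {ι : Type} [Fintype ι] [DecidableEq ι] {F : Type} [Field F] [Finite F] {Q : QuadraticForm F (ι → F)}

open Cfsg.Agent.LieClassical.OrthTrans (Good)

/-- `PΩ = Ω` in characteristic two -/
noncomputable def omEquiv (h2 : (2 : F) = 0) (hG : Good Q) : ↥(Omega F ⇑Q) ≃* POmega F ⇑Q :=
  (QuotientGroup.quotientBot.symm).trans (QuotientGroup.quotientMulEquivOfEq (H292.OrthTwo.center_bot h2 hG).symm)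

/-- the orthogonal group is contained in the symplectic group of the polar form -/
theorem exists_orth (h2 : (2 : F) = 0) (hG : Good Q) {m : ℕ} (hm : Fintype.card ι = 2 * m) :
    ∃ f : POmega F ⇑Q →* ↥(symplecticGroup (Fin m) F), Function.Injective f := by
  have hp := H292.OrthTwo.polar_nondeg hG
  obtain ⟨j, hj⟩ := ClassicalGeometry.SympIso.exists_linearEquiv_sympForm (k := m) (polarBilin Q)
    (fun v => by
      rw [polarBilin_apply_apply, polar_self, two_smul, ← two_mul, h2, zero_mul]) hp.1 (by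
      rw [Module.finrank_fintype_fun_eq_card, hm])
  have hS : H749.SimF j (sympForm m F) (fun u v => polar Q u v) 1 :=
    ⟨one_ne_zero, fun x y => by rw [one_mul]; exact hj x y⟩
  obtain ⟨e⟩ := H749.exists_spEquiv hS
  have hmem : ∀ g : isometryGroup F ⇑Q, H749.glHom (LinearEquiv.refl F (ι → F)) g.1 ∈
      H749.Iso (fun u v : ι → F => polar Q u v) := by
    intro g u v
    have h1 : ∀ x, Q (H749.glHom (LinearEquiv.refl F (ι → F)) g.1 x) = Q x := fun x => g.2 x x
    show polar Q (H749.glHom (LinearEquiv.refl F (ι → F)) g.1 u) (H749.glHom (LinearEquiv.refl F (ι → F)) g.1 v) = polar Q u v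
    rw [polar, polar, ← map_add, h1, h1, h1]
  let φ : isometryGroup F ⇑Q →* H749.Iso (fun u v : ι → F => polar Q u v) :=
    ((H749.glHom (LinearEquiv.refl F (ι → F))).comp (Subgroup.subtype _)).codRestrict _ hmem
  have hφ : Function.Injective φ := by
    intro A B h
    exact Subtype.ext (H749.glHom_injective _ (congrArg Subtype.val h))
  exact ⟨((e.symm.toMonoidHom.comp φ).comp (Subgroup.subtype _)).comp (omEquiv h2 hG).symm.toMonoidHom,
    ((e.symm.injective.comp hφ).comp Subtype.val_injective).comp (omEquiv h2 hG).symm.injective⟩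

end Orth

theorem X4 : Sub.{u} (.psp 4 2) (.oplus 4 2) := by
  intro X _ ⟨F, i1, i2, hF, ⟨e⟩⟩
  have := charP_two (n := 1) (by rw [hF]; rfl)
  obtain ⟨e'⟩ := psp_of_sp e
  obtain ⟨f, hf⟩ := exists_orth (Q := plusQ 4 F) CharTwo.two_eq_zero (good_plusQ (by norm_num)) (m := 4) (by simp)
  exact ⟨(e'.symm.toMonoidHom.comp f).range, F, i1, i2, hF,
    ⟨(MonoidHom.ofInjective (f := e'.symm.toMonoidHom.comp f) (e'.symm.injective.comp hf)).symm⟩⟩

theorem X5 : Sub.{u} (.psp 4 2) (.ominus 4 2) := by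
  intro X _ ⟨F, i1, i2, hF, ⟨e⟩⟩
  have := charP_two (n := 1) (by rw [hF]; rfl)
  obtain ⟨e'⟩ := psp_of_sp e
  have hF2 : ∀ x : F, x = 0 ∨ x = 1 := by
    intro x
    classical
    by_contra h
    push Not at h
    have h3 : ({0, 1, x} : Finset F).card = 3 := Finset.card_eq_three.2 ⟨0, 1, x, zero_ne_one, h.1.symm, h.2.symm, rfl⟩
    have := Finset.card_le_univ ({0, 1, x} : Finset F)
    omega
  have hab : ∀ z₁ z₂ : F, z₁ ^ 2 + 1 * z₁ * z₂ + 1 * z₂ ^ 2 = 0 → z₁ = 0 ∧ z₂ = 0 := by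
    intro z₁ z₂ h
    have h2 : (2 : F) = 0 := CharTwo.two_eq_zero
    rcases hF2 z₁ with rfl | rfl <;> rcases hF2 z₂ with rfl | rfl
    · exact ⟨rfl, rfl⟩
    · simp at h
    · simp at h
    · exact absurd (show (1 : F) = 0 by linear_combination h - h2) one_ne_zero
  obtain ⟨f, hf⟩ := exists_orth (Q := minusQ 3 F 1 1) CharTwo.two_eq_zero (good_minusQ (by norm_num) hab) (m := 4) (by simp)
  exact ⟨(e'.symm.toMonoidHom.comp f).range, F, i1, i2, 1, 1, hF, hab,
    ⟨(MonoidHom.ofInjective (f := e'.symm.toMonoidHom.comp f) (e'.symm.injective.comp hf)).symm⟩⟩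

theorem X1 : Sub.{u} (.ominus 5 2) (.psp 4 2) := by
  intro X _ ⟨F, i1, i2, a, b, hF, hab, ⟨e⟩⟩
  have := charP_two (n := 1) (by rw [hF]; rfl)
  have h2 : (2 : F) = 0 := CharTwo.two_eq_zero
  have hG : LieClassical.OrthTrans.Good (minusQ 4 F a b) := good_minusQ (by norm_num) hab
  have hv : minusQ 4 F a b (Sum.elim 0 ![1, 0]) = 1 := by
    show quadFormMinus 4 F a b _ = 1
    simp [quadFormMinus]
  obtain ⟨t⟩ := H292.OrthVec.stab_equiv h2 (H292.OrthTwo.polar_nondeg hG) hv (n := 4) (by simp) (by simp)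
  let f : PSp 4 F →* X := (((e.symm.toMonoidHom.comp (omEquiv h2 hG).toMonoidHom).comp
    (Subgroup.subtype _)).comp t.symm.toMonoidHom).comp (H292.SpCen.spEquiv 4).symm.toMonoidHom
  have hf : Function.Injective f := (((e.symm.injective.comp (omEquiv h2 hG).injective).comp
    Subtype.val_injective).comp t.symm.injective).comp (H292.SpCen.spEquiv 4).symm.injective
  exact ⟨f.range, F, i1, i2, hF, ⟨(MonoidHom.ofInjective hf).symm⟩⟩

end Cfsg.Agent.H458.TSA3
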