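import Mathlib
import Cfsg.Agent.H689.Num

/-!
# Operators of primitive prime order on spaces of dimension less than `2 D`

`Sit y l D` : `y` is an operator of prime order `l` on a space `V` of dimension `< 2 D` over the finite field `k`, `l` a
primitive prime divisor of `|k| ^ D - 1`. Then `V = W ⊕ C`, `W = range (y - 1)` irreducible of dimension `D`,
`C = ker (y - 1)`. The operators commuting with `y` act on `W` as polynomials in `y`; if they are isometries of a
nondegenerate form preserved by `y` and `D = 2 e`, their `(|k| ^ e + 1)`-st power is trivial on `W`.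
-/

set_option autoImplicit false
set_option linter.unusedSectionVars false

namespace Cfsg.Agent.H458.Zs

open Module Polynomial Cfsg.Agent.H689

variable {k : Type*} [Field k] [Fintype k] {V : Type*} [AddCommGroup V] [Module k V] [FiniteDimensional k V]

/-- primitivity from minimality -/
theorem ppd_of {q D l : ℕ} (hl : l.Prime) (hD : 0 < D) (h : l ∣ q ^ D - 1) (hq : 0 < q)
    (hmin : ∀ j, 0 < j → j < D → ¬ l ∣ q ^ j - 1) : Ppd q D l := by
  have : Fact l.Prime := ⟨hl⟩
  have key : ∀ j, l ∣ q ^ j - 1 ↔ (q : ZMod l) ^ j = 1 := by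
    intro j
    rw [← CharP.cast_eq_zero_iff (ZMod l) l, Nat.cast_sub (Nat.one_le_pow _ _ hq), Nat.cast_pow, Nat.cast_one,
      sub_eq_zero]
  have hord : orderOf (q : ZMod l) = D := by
    rw [orderOf_eq_iff hD]
    refine ⟨(key D).1 h, fun j hj hj0 => ?_⟩
    rw [Ne, ← key]
    exact hmin j hj0 hj
  have hnd : ¬ l ∣ q := by
    intro h1
    have h2 : l ∣ q ^ D := h1.trans (dvd_pow_self q hD.ne')
    have h3 : q ^ D = q ^ D - 1 + 1 := by have := Nat.one_le_pow D q hq; omega
    rw [h3] at h2
    have h4 := (Nat.dvd_add_right h).1 h2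
    exact hl.one_lt.ne' (Nat.dvd_one.1 h4)
  refine ⟨hl, fun j => ?_, ?_, hnd⟩
  · rw [key, ← orderOf_dvd_iff_pow_eq_one, hord]
  · rw [← hord]
    apply ZMod.orderOf_dvd_card_sub_one
    rwa [Ne, CharP.cast_eq_zero_iff (ZMod l) l]

/-- from the prime field to the field -/
theorem ppd_field {r f D l : ℕ} (hf : 0 < f) (h : Ppd r (f * D) l) : Ppd (r ^ f) D l := by
  refine ⟨h.prime, fun j => ?_, (Dvd.intro_left _ rfl).trans h.dvd, fun h1 => h.not_dvd (h.prime.dvd_of_dvd_pow h1)⟩
  rw [← pow_mul, h.iff]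
  exact Nat.mul_dvd_mul_iff_left hf

/-- the situation -/
structure Sit (y : End k V) (l D : ℕ) : Prop where
  pow : y ^ l = 1
  ne : y ≠ 1
  ppd : Ppd (Fintype.card k) D l
  pos : 0 < D
  dim : finrank k V < 2 * D

/-- the fixed space -/
def C (y : End k V) : Submodule k V := LinearMap.ker (y - 1)

/-- the commutator space -/
def W (y : End k V) : Submodule k V := LinearMap.range (y - 1)

omit [Fintype k] [FiniteDimensional k V] in
theorem mem_C {y : End k V} {v : V} : v ∈ C y ↔ y v = v := by
  unfold C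
  rw [LinearMap.mem_ker, LinearMap.sub_apply, Module.End.one_apply, sub_eq_zero]

omit [Fintype k] [FiniteDimensional k V] in
theorem mem_W {y : End k V} {v : V} : v ∈ W y ↔ ∃ w, y w - w = v := by
  unfold W
  rw [LinearMap.mem_range]
  rfl

omit [Fintype k] [FiniteDimensional k V] in
theorem W_of_comm {y s : End k V} (h : ∀ v, s (y v) = y (s v)) {w : V} (hw : w ∈ W y) : s w ∈ W y := by
  obtain ⟨v, rfl⟩ := mem_W.1 hw
  rw [mem_W]
  exact ⟨s v, by rw [map_sub, h]⟩

omit [Fintype k] [FiniteDimensional k V] in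
theorem W_self {y : End k V} {w : V} (hw : w ∈ W y) : y w ∈ W y := W_of_comm (fun _ => rfl) hw

omit [Fintype k] [FiniteDimensional k V] in
theorem commute_aeval {s y : End k V} (h : Commute s y) (f : k[X]) : Commute s (aeval y f) := by
  induction f using Polynomial.induction_on' with
  | add p q hp hq => rw [map_add]; exact hp.add_right hq
  | monomial n a =>
    rw [aeval_monomial]
    exact Commute.mul_right (show Commute s (algebraMap k (End k V) a) from (Algebra.commutes a s).symm) (h.pow_right n)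

omit [FiniteDimensional k V] in
theorem cast_ne_zero_of {l D : ℕ} (hppd : Ppd (Fintype.card k) D l) : (l : k) ≠ 0 := by
  intro h0
  obtain ⟨r, hr⟩ := CharP.exists k
  have h1 : r ∣ l := (CharP.cast_eq_zero_iff k r l).1 h0
  obtain ⟨n, hrp, hn⟩ := FiniteField.card k r
  have h2 : r = l := ((Nat.prime_dvd_prime_iff_eq hrp hppd.prime).1 h1)
  apply hppd.not_dvd
  rw [hn, h2]
  exact dvd_pow_self l n.ne_zero

omit [FiniteDimensional k V] in
theorem disj_of {y : End k V} {l D : ℕ} (hpow : y ^ l = 1) (hppd : Ppd (Fintype.card k) D l) {w : V}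
    (hW : w ∈ W y) (hC : y w = w) : w = 0 := by
  obtain ⟨v, hv⟩ := mem_W.1 hW
  have h1 : ∀ n : ℕ, (y ^ n) v = v + n • w := by
    intro n
    induction n with
    | zero => simp
    | succ n ih =>
      rw [pow_succ', Module.End.mul_apply, ih, map_add, map_nsmul, hC, succ_nsmul, ← hv]
      abel
  have h2 := h1 l
  rw [hpow, Module.End.one_apply] at h2
  have h3 : l • w = 0 := by
    have : v + 0 = v + l • w := by rw [add_zero]; exact h2
    exact (add_left_cancel this).symm
  rw [← Nat.cast_smul_eq_nsmul k, smul_eq_zero] at h3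
  exact h3.resolve_left (cast_ne_zero_of hppd)

theorem dvd_finrank_of {y : End k V} {l D : ℕ} (hpow : y ^ l = 1) (hppd : Ppd (Fintype.card k) D l)
    (U : Submodule k V) (hU : ∀ v ∈ U, y v ∈ U) : D ∣ finrank k U - finrank k ↥(U ⊓ C y) := by
  classical
  have : Fact l.Prime := ⟨hppd.prime⟩
  have hfin : Finite V := Module.finite_of_finite k
  have hfU : Fintype U := Fintype.ofFinite _
  have hfI : Fintype ↥(U ⊓ C y) := Fintype.ofFinite _
  let f : Function.End U := fun u => ⟨y u, hU u u.2⟩
  have hf : ∀ n (u : U), (((f ^ n : Function.End U) u : U) : V) = (y ^ n) u := by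
    intro n
    induction n with
    | zero => intro u; rfl
    | succ n ih =>
      intro u
      rw [pow_succ, pow_succ]
      change (((f ^ n : Function.End U) (f u) : U) : V) = (y ^ n) (y u)
      rw [ih]
  have hfl : f ^ l ^ 1 = 1 := by
    rw [pow_one]
    funext u
    apply Subtype.ext
    rw [hf, hpow]
    rfl
  have h1 := Equiv.Perm.card_fixedPoints_modEq hfl
  have h2 : Fintype.card (Function.fixedPoints f) = Fintype.card k ^ finrank k ↥(U ⊓ C y) := by
    rw [← Module.card_eq_pow_finrank (K := k) (V := ↥(U ⊓ C y))]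
    refine Fintype.card_congr ⟨fun u => ⟨u.1.1, u.1.2, ?_⟩, fun u => ⟨⟨u.1, u.2.1⟩, ?_⟩, fun u => rfl, fun u => rfl⟩
    · rw [SetLike.mem_coe, mem_C]
      exact congrArg Subtype.val u.2
    · exact Subtype.ext (mem_C.1 u.2.2)
  rw [h2, Module.card_eq_pow_finrank (K := k) (V := U)] at h1
  have hle : finrank k ↥(U ⊓ C y) ≤ finrank k U := Submodule.finrank_mono inf_le_left
  have h3 : l ∣ Fintype.card k ^ finrank k U - Fintype.card k ^ finrank k ↥(U ⊓ C y) :=
    (Nat.modEq_iff_dvd' (Nat.pow_le_pow_right Fintype.card_pos hle)).1 h1.symm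
  have h4 : Fintype.card k ^ finrank k U - Fintype.card k ^ finrank k ↥(U ⊓ C y) =
      Fintype.card k ^ finrank k ↥(U ⊓ C y) * (Fintype.card k ^ (finrank k U - finrank k ↥(U ⊓ C y)) - 1) := by
    rw [Nat.mul_sub, mul_one, ← pow_add, Nat.add_sub_cancel' hle]
  rw [h4] at h3
  rcases hppd.prime.dvd_mul.1 h3 with h5 | h5
  · exact absurd (hppd.prime.dvd_of_dvd_pow h5) hppd.not_dvd
  · exact (hppd.iff _).1 h5

namespace Sit

variable {y : End k V} {l D : ℕ} (h : Sit y l D)

include h

theorem dvd_finrank (U : Submodule k V) (hU : ∀ v ∈ U, y v ∈ U) :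
    D ∣ finrank k U - finrank k ↥(U ⊓ C y) := dvd_finrank_of h.pow h.ppd U hU

theorem C_ne_top : C y ≠ ⊤ := by
  intro ht
  apply h.ne
  ext v
  exact mem_C.1 (ht ▸ Submodule.mem_top : v ∈ C y)

theorem finrank_C_add : finrank k (C y) + D = finrank k V := by
  have h1 := h.dvd_finrank ⊤ (fun _ _ => Submodule.mem_top)
  rw [top_inf_eq, finrank_top] at h1
  have h2 : finrank k (C y) < finrank k V := Submodule.finrank_lt h.C_ne_top
  obtain ⟨j, hj⟩ := h1
  have h3 := h.dim
  have hj1 : j = 1 := by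
    rcases Nat.lt_or_ge j 2 with h4 | h4
    · interval_cases j
      · omega
      · rfl
    · have := Nat.mul_le_mul_left D h4
      omega
  subst hj1
  omega

theorem finrank_W : finrank k (W y) = D := by
  have h1 := LinearMap.finrank_range_add_finrank_ker (y - 1)
  have h2 := h.finrank_C_add
  have h3 : finrank k (W y) + finrank k (C y) = finrank k V := h1
  omega

theorem cast_ne_zero : (l : k) ≠ 0 := cast_ne_zero_of h.ppd

theorem disj {w : V} (hW : w ∈ W y) (hC : y w = w) : w = 0 := disj_of h.pow h.ppd hW hC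

theorem irr (U : Submodule k V) (hU : ∀ v ∈ U, y v ∈ U) (hUW : U ≤ W y) : U = ⊥ ∨ U = W y := by
  have h1 := h.dvd_finrank U hU
  have h2 : U ⊓ C y = ⊥ := by
    rw [eq_bot_iff]
    intro v hv
    rw [Submodule.mem_bot]
    exact h.disj (hUW hv.1) (mem_C.1 hv.2)
  rw [h2, finrank_bot, Nat.sub_zero] at h1
  rcases Nat.eq_zero_or_pos (finrank k U) with h0 | h0
  · left
    exact Submodule.finrank_eq_zero.1 h0
  · right
    apply Submodule.eq_of_le_of_finrank_le hUW
    rw [h.finrank_W]
    exact Nat.le_of_dvd h0 h1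

theorem cyc {v₀ : V} (hv : v₀ ∈ W y) (hv0 : v₀ ≠ 0) {w : V} (hw : w ∈ W y) : ∃ g : k[X], w = aeval y g v₀ := by
  let L : k[X] →ₗ[k] V := (LinearMap.applyₗ v₀).comp (aeval y).toLinearMap
  have hL : ∀ g, L g = aeval y g v₀ := fun _ => rfl
  have hU : ∀ v ∈ LinearMap.range L, y v ∈ LinearMap.range L := by
    rintro _ ⟨g, rfl⟩
    refine ⟨X * g, ?_⟩
    rw [hL, hL, map_mul, aeval_X, Module.End.mul_apply]
  have hUW : LinearMap.range L ≤ W y := by
    rintro _ ⟨g, rfl⟩
    rw [hL]
    refine W_of_comm ?_ hv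
    intro v
    rw [← Module.End.mul_apply, ← Module.End.mul_apply]
    congr 1
    exact (commute_aeval (Commute.refl y) g).symm.eq
  rcases h.irr (LinearMap.range L) hU hUW with h1 | h1
  · exfalso
    apply hv0
    have h2 : L 1 ∈ LinearMap.range L := LinearMap.mem_range_self _ _
    rw [h1, Submodule.mem_bot, hL, map_one, Module.End.one_apply] at h2
    exact h2
  · rw [← h1] at hw
    obtain ⟨g, hg⟩ := hw
    exact ⟨g, by rw [← hg, hL]⟩

theorem exists_ne : ∃ v ∈ W y, v ≠ 0 := by
  by_contra hcon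
  push Not at hcon
  have h1 : W y = ⊥ := by
    rw [eq_bot_iff]
    intro v hv
    rw [Submodule.mem_bot]
    exact hcon v hv
  have h2 := h.finrank_W
  rw [h1, finrank_bot] at h2
  exact h.pos.ne h2

theorem comm {s : End k V} (hs : ∀ v, s (y v) = y (s v)) : ∃ g : k[X], ∀ w ∈ W y, s w = aeval y g w := by
  obtain ⟨v₀, hv, hv0⟩ := h.exists_ne
  obtain ⟨g, hg⟩ := h.cyc hv hv0 (W_of_comm hs hv)
  refine ⟨g, fun w hw => ?_⟩
  obtain ⟨f, rfl⟩ := h.cyc hv hv0 hw
  have hsc : s * aeval y f = aeval y f * s := by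
    have h1 : Commute s y := by
      ext v
      exact hs v
    exact (commute_aeval h1 f).eq
  rw [← Module.End.mul_apply, hsc, Module.End.mul_apply, hg, ← Module.End.mul_apply, ← Module.End.mul_apply,
    ← map_mul, ← map_mul, mul_comm]

theorem comm_comm {s t : End k V} (hs : ∀ v, s (y v) = y (s v)) (ht : ∀ v, t (y v) = y (t v)) {w : V} (hw : w ∈ W y) :
    s (t w) = t (s w) := by
  obtain ⟨g, hg⟩ := h.comm hs
  obtain ⟨f, hf⟩ := h.comm ht
  rw [hg _ (W_of_comm ht hw), hf _ hw, hf _ (W_of_comm hs hw), hg _ hw, ← Module.End.mul_apply,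
    ← Module.End.mul_apply, ← map_mul, ← map_mul, mul_comm]

theorem decomp (v : V) : ∃ w ∈ W y, ∃ c ∈ C y, v = w + c := by
  have h1 : W y ⊔ C y = ⊤ := by
    apply Submodule.eq_top_of_finrank_eq
    have h2 := Submodule.finrank_sup_add_finrank_inf_eq (W y) (C y)
    have h3 : W y ⊓ C y = ⊥ := by
      rw [eq_bot_iff]
      intro v hv
      rw [Submodule.mem_bot]
      exact h.disj hv.1 (mem_C.1 hv.2)
    rw [h3, finrank_bot, h.finrank_W] at h2
    have h4 := h.finrank_C_add
    omega
  have h2 : v ∈ W y ⊔ C y := h1 ▸ Submodule.mem_top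
  obtain ⟨w, hw, c, hc, rfl⟩ := Submodule.mem_sup.1 h2
  exact ⟨w, hw, c, hc, rfl⟩

/-- `y` has no fixed vectors if `dim V = D` -/
theorem W_top (hD : finrank k V = D) : W y = ⊤ := by
  apply Submodule.eq_top_of_finrank_eq
  rw [h.finrank_W, hD]

/-- an operator commuting with `y`, with a fixed vector in `W`, is trivial on `W` -/
theorem triv_of_fix {s : End k V} (hs : ∀ v, s (y v) = y (s v)) {v₀ : V} (hv : v₀ ∈ W y) (hv0 : v₀ ≠ 0)
    (hf : s v₀ = v₀) {w : V} (hw : w ∈ W y) : s w = w := by
  obtain ⟨f, rfl⟩ := h.cyc hv hv0 hw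
  obtain ⟨g, hg⟩ := h.comm hs
  have h1 : aeval y f v₀ ∈ W y := hw
  rw [hg _ h1, ← Module.End.mul_apply, ← map_mul, mul_comm, map_mul, Module.End.mul_apply, ← hg _ hv, hf]

end Sit

omit [FiniteDimensional k V] in
theorem aeval_pow (y : End k V) (g : k[X]) (e : ℕ) :
    aeval (y ^ Fintype.card k ^ e) g = (aeval y g) ^ Fintype.card k ^ e := by
  induction e with
  | zero => rw [pow_zero, pow_one, pow_one]
  | succ e ih =>
    rw [pow_succ, pow_mul, pow_mul, ← ih, ← map_pow, ← FiniteField.expand_card, expand_aeval]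

section form

variable (B : LinearMap.BilinForm k V)

omit [Fintype k] [FiniteDimensional k V] in
theorem adj {y z : End k V} (hyz : ∀ v w, B (y v) w = B v (z w)) (g : k[X]) (v w : V) :
    B (aeval y g v) w = B v (aeval z g w) := by
  induction g using Polynomial.induction_on' generalizing v w with
  | add p q hp hq =>
    rw [map_add, map_add, LinearMap.add_apply, map_add, LinearMap.add_apply, hp, hq, LinearMap.add_apply, map_add]
  | monomial n a =>
    have h1 : ∀ n : ℕ, ∀ v w, B ((y ^ n) v) w = B v ((z ^ n) w) := by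
      intro n
      induction n with
      | zero => intro v w; rfl
      | succ n ih =>
        intro v w
        rw [pow_succ', Module.End.mul_apply, hyz, ih, pow_succ, Module.End.mul_apply]
    rw [aeval_monomial, aeval_monomial, Module.End.mul_apply, Module.End.mul_apply,
      Module.algebraMap_end_apply, Module.algebraMap_end_apply, map_smul, LinearMap.smul_apply, map_smul, h1]

namespace Sit

variable {y : End k V} {l e : ℕ} (h : Sit y l (2 * e)) (hB : ∀ v w, B (y v) (y w) = B v w)

include h hB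

theorem adj_pow (g : k[X]) (v w : V) : B (aeval y g v) w = B v (((aeval y g) ^ Fintype.card k ^ e) w) := by
  rw [← aeval_pow]
  apply adj
  intro v w
  have h1 : y ^ Fintype.card k ^ e * y = 1 := by
    rw [← pow_succ]
    obtain ⟨j, hj⟩ := h.ppd.dvd_add_one (by have := h.pos; omega)
    rw [hj, pow_mul, h.pow, one_pow]
  have h2 : y * y ^ Fintype.card k ^ e = 1 := by
    rw [← pow_succ', pow_succ]; exact h1
  calc B (y v) w = B (y v) ((y * y ^ Fintype.card k ^ e) w) := by rw [h2, Module.End.one_apply]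
    _ = B v ((y ^ Fintype.card k ^ e) w) := by rw [Module.End.mul_apply, hB]

omit h in
theorem orth {c w : V} (hc : c ∈ C y) (hw : w ∈ W y) : B c w = 0 := by
  obtain ⟨v, rfl⟩ := mem_W.1 hw
  rw [map_sub, sub_eq_zero]
  conv_lhs => rw [← mem_C.1 hc]
  exact hB c v

/-- **Isometries commuting with `y`.** -/
theorem pow_eq (hnd : ∀ w, (∀ v, B v w = 0) → w = 0) {s : End k V} (hs : ∀ v, s (y v) = y (s v))
    (hsB : ∀ v w, B (s v) (s w) = B v w) {w : V} (hw : w ∈ W y) : (s ^ (Fintype.card k ^ e + 1)) w = w := by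
  obtain ⟨g, hg⟩ := h.comm hs
  have hsW : ∀ (n : ℕ) (w : V), w ∈ W y → (s ^ n) w = ((aeval y g) ^ n) w ∧ (s ^ n) w ∈ W y := by
    intro n
    induction n with
    | zero => intro w hw; exact ⟨rfl, hw⟩
    | succ n ih =>
      intro w hw
      obtain ⟨h1, h2⟩ := ih w hw
      rw [pow_succ', pow_succ', Module.End.mul_apply, Module.End.mul_apply, ← h1, hg _ h2, ← hg _ h2]
      exact ⟨rfl, W_of_comm hs h2⟩
  rw [← sub_eq_zero]
  set q := Fintype.card k ^ e with hq
  have hmem : (s ^ (q + 1)) w - w ∈ W y := Submodule.sub_mem _ (hsW _ w hw).2 hw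
  apply hnd
  intro v
  obtain ⟨u, hu, c, hc, rfl⟩ := h.decomp v
  rw [map_add, LinearMap.add_apply, orth B hB hc hmem, add_zero, map_sub, sub_eq_zero]
  have h1 : B (s u) (s w) = B u ((s ^ (q + 1)) w) := by
    rw [hg u hu, h.adj_pow B hB, ← hq, ← (hsW q (s w) (W_of_comm hs hw)).1, pow_succ, Module.End.mul_apply]
  rw [← h1, hsB]

end Sit

end form

/-- a `p`-subgroup (any finite group) of operators commuting with `y` is cyclic if `dim V = D` -/
theorem Sit.isCyclic {y : End k V} {l D : ℕ} (h : Sit y l D) (hD : finrank k V = D) {Γ : Type*} [Group Γ] [Finite Γ]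
    (ρ : Γ →* End k V) (hρ : Function.Injective ρ) (hc : ∀ g v, ρ g (y v) = y (ρ g v)) : IsCyclic Γ := by
  have htop := h.W_top hD
  have hmt : ∀ v : V, v ∈ W y := fun v => htop ▸ Submodule.mem_top
  let R : Subalgebra k (End k V) := Subalgebra.centralizer k {y}
  have hR : ∀ a : End k V, a ∈ R ↔ ∀ v, a (y v) = y (a v) := by
    intro a
    rw [Subalgebra.mem_centralizer_iff]
    constructor
    · intro h1 v
      have h2 := h1 y rfl
      exact (LinearMap.congr_fun h2 v).symm
    · rintro h1 _ rfl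
      ext v
      exact (h1 v).symm
  let _ : CommRing R :=
    { (inferInstance : Ring R) with
      mul_comm := by
        rintro ⟨a, ha⟩ ⟨b, hb⟩
        apply Subtype.ext
        ext v
        exact h.comm_comm ((hR a).1 ha) ((hR b).1 hb) (hmt v) }
  have hdom : ∀ a b : R, a * b = 0 → a = 0 ∨ b = 0 := by
    rintro ⟨a, ha⟩ ⟨b, hb⟩ hab
    by_cases hb0 : b = 0
    · right; exact Subtype.ext hb0
    · left
      apply Subtype.ext
      have hab' : a * b = 0 := congrArg Subtype.val hab
      obtain ⟨v, hv⟩ : ∃ v, b v ≠ 0 := by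
        by_contra hcon
        push Not at hcon
        exact hb0 (LinearMap.ext hcon)
      ext w
      obtain ⟨f, rfl⟩ := h.cyc (hmt (b v)) hv (hmt w)
      obtain ⟨g, hg⟩ := h.comm ((hR a).1 ha)
      change a (aeval y f (b v)) = 0
      rw [hg _ (hmt _), ← Module.End.mul_apply, ← map_mul, mul_comm, map_mul, Module.End.mul_apply, ← hg _ (hmt _)]
      have h1 : a (b v) = 0 := LinearMap.congr_fun hab' v
      rw [h1, map_zero]
  have hnt : Nontrivial R := by
    refine ⟨⟨0, 1, ?_⟩⟩
    intro h0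
    obtain ⟨v, -, hv⟩ := h.exists_ne
    apply hv
    have h1 : (0 : End k V) = 1 := congrArg Subtype.val h0
    have h2 := LinearMap.congr_fun h1 v
    simpa using h2.symm
  have hnz : NoZeroDivisors R := ⟨fun {a b} hab => hdom a b hab⟩
  have : IsDomain R := NoZeroDivisors.to_isDomain R
  let f : Γ →* R :=
    { toFun := fun g => ⟨ρ g, (hR _).2 (hc g)⟩
      map_one' := Subtype.ext (map_one ρ)
      map_mul' := fun a b => Subtype.ext (map_mul ρ a b) }
  refine isCyclic_of_injective_ringHom f ?_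
  intro a b hab
  exact hρ (congrArg Subtype.val hab)

/-- a group of operators of order a power of the characteristic has a fixed vector -/
theorem exists_fixed {Γ : Type*} [Group Γ] [Nontrivial V] (ρ : Γ →* End k V) {p : ℕ} [hp : Fact p.Prime]
    (hpk : (p : k) = 0) (hΓ : IsPGroup p Γ) : ∃ v : V, v ≠ 0 ∧ ∀ g, ρ g v = v := by
  classical
  have hfin : Finite V := Module.finite_of_finite k
  have hfV : Fintype V := Fintype.ofFinite _
  let act : MulAction Γ V :=
    { smul := fun g v => ρ g v
      one_smul := fun v => by show ρ 1 v = v; rw [map_one]; rfl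
      mul_smul := fun a b v => by show ρ (a * b) v = ρ a (ρ b v); rw [map_mul]; rfl }
  have hsm : ∀ (g : Γ) (v : V), g • v = ρ g v := fun _ _ => rfl
  have hdvd : p ∣ Nat.card V := by
    obtain ⟨r, hr⟩ := CharP.exists k
    have h1 : r ∣ p := (CharP.cast_eq_zero_iff k r p).1 hpk
    obtain ⟨n, hrp, hn⟩ := FiniteField.card k r
    have h2 : r = p := ((Nat.prime_dvd_prime_iff_eq hrp hp.1).1 h1)
    rw [Nat.card_eq_fintype_card, Module.card_eq_pow_finrank (K := k) (V := V), hn, h2, ← pow_mul]
    exact dvd_pow_self p (Nat.mul_ne_zero n.ne_zero Module.finrank_pos.ne')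
  have h0 : (0 : V) ∈ MulAction.fixedPoints Γ V := fun g => by rw [hsm, map_zero]
  obtain ⟨v, hv, hv0⟩ := hΓ.exists_fixed_point_of_prime_dvd_card_of_fixed_point V hdvd h0
  exact ⟨v, hv0.symm, fun g => by rw [← hsm]; exact hv g⟩

/-- an irreducible element of primitive prime order normalises no subgroup of order a power of the characteristic -/
theorem Sit.trivial_of_normal {Γ : Type*} [Group Γ] (ρ : Γ →* End k V) (hρ : Function.Injective ρ) {x : Γ} {l : ℕ}
    (h : Sit (ρ x) l (finrank k V)) {p : ℕ} [hp : Fact p.Prime] (hpk : (p : k) = 0) {Q : Subgroup Γ}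
    (hQ : IsPGroup p Q) (hx : x ∈ Subgroup.normalizer (Q : Set Γ)) : ∀ g ∈ Q, g = 1 := by
  have hnt : Nontrivial V := Module.nontrivial_of_finrank_pos (R := k) h.pos
  have htop := h.W_top rfl
  obtain ⟨v₀, hv0, hv⟩ := exists_fixed (ρ.comp Q.subtype) hpk hQ
  let U : Submodule k V :=
    { carrier := {v | ∀ g ∈ Q, ρ g v = v}
      add_mem' := fun {a b} ha hb g hg => by rw [map_add, ha g hg, hb g hg]
      zero_mem' := fun g _ => map_zero _
      smul_mem' := fun c a ha g hg => by rw [map_smul, ha g hg] }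
  have hU : ∀ v, v ∈ U ↔ ∀ g ∈ Q, ρ g v = v := fun _ => Iff.rfl
  have hUx : ∀ v ∈ U, ρ x v ∈ U := by
    intro v hvU
    rw [hU] at hvU ⊢
    intro g hg
    have h3 : x⁻¹ * g * x ∈ Q := by
      have h4 := (Subgroup.mem_normalizer_iff.1 hx (x⁻¹ * g * x)).2
      apply h4
      have h5 : x * (x⁻¹ * g * x) * x⁻¹ = g := by group
      rw [h5]; exact hg
    have h6 : g * x = x * (x⁻¹ * g * x) := by group
    rw [← Module.End.mul_apply, ← map_mul, h6, map_mul, Module.End.mul_apply, hvU _ h3]
  rcases h.irr U hUx (by rw [htop]; exact le_top) with h1 | h1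
  · exfalso
    apply hv0
    have h2 : v₀ ∈ U := (hU _).2 fun g hg => hv ⟨g, hg⟩
    rw [h1, Submodule.mem_bot] at h2
    exact h2
  · intro g hg
    apply hρ
    rw [map_one]
    ext v
    have h2 : v ∈ U := by rw [h1, htop]; exact Submodule.mem_top
    exact (hU v).1 h2 g hg

end Cfsg.Agent.H458.Zs
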